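import Mathlib
import Cfsg.Prelude.Def_ChevStructure
import Cfsg.Agent.Chev.CoxOrbit

set_option autoImplicit false

namespace Cfsg.Agent.Chev

/-- Boolean form of one entry of `IsCartanFor`. -/
def cartanEntryOk (m : ℕ) (x y : ℤ) : Bool :=
  (m == 2 && x == 0 && y == 0) || (m == 3 && x == -1 && y == -1) || (m == 4 && x == -1 && y == -2) ||
  (m == 4 && x == -2 && y == -1) || (m == 6 && x == -1 && y == -3) || (m == 6 && x == -3 && y == -1)

theorem isCartanFor_of_check {n : ℕ} {M : CoxeterMatrix (Fin n)} {A : Fin n → Fin n → ℤ}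
    (h : ((List.finRange n).all fun i => (List.finRange n).all fun j =>
      if i = j then A i j == 2 else cartanEntryOk (M i j) (A i j) (A j i)) = true) : IsCartanFor M A := by
  simp only [List.all_eq_true, List.mem_finRange, true_implies] at h
  refine ⟨fun i => by simpa using h i i, fun i j hij => ?_⟩
  have := h i j
  rw [if_neg hij] at this
  simp only [cartanEntryOk, Bool.or_eq_true, Bool.and_eq_true, beq_iff_eq] at this
  tauto

/-- Cartan matrix of type B2: entry `(i, j)` is `A_{p_i, p_j}`. -/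
def cartanB2 : List (List ℤ) := [[2, -2], [-1, 2]]

theorem isCartanForB2 : IsCartanFor (CoxeterMatrix.B 2) (amat 2 cartanB2) :=
  isCartanFor_of_check (by decide)

theorem length_cartanB2 : ∀ i < 2, (cartanB2.getD i []).length = 2 := by decide

/-- Cartan matrix of type G2: entry `(i, j)` is `A_{p_i, p_j}`. -/
def cartanG2 : List (List ℤ) := [[2, -3], [-1, 2]]

theorem isCartanForG2 : IsCartanFor (CoxeterMatrix.G₂) (amat 2 cartanG2) :=
  isCartanFor_of_check (by decide)

theorem length_cartanG2 : ∀ i < 2, (cartanG2.getD i []).length = 2 := by decide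

/-- Cartan matrix of type D4: entry `(i, j)` is `A_{p_i, p_j}`. -/
def cartanD4 : List (List ℤ) := [[2, -1, 0, 0], [-1, 2, -1, -1], [0, -1, 2, 0], [0, -1, 0, 2]]

theorem isCartanForD4 : IsCartanFor (Cfsg.Lie.coxeterD4) (amat 4 cartanD4) :=
  isCartanFor_of_check (by decide)

theorem length_cartanD4 : ∀ i < 4, (cartanD4.getD i []).length = 4 := by decide

/-- Cartan matrix of type F4: entry `(i, j)` is `A_{p_i, p_j}`. -/
def cartanF4 : List (List ℤ) := [[2, -1, 0, 0], [-1, 2, -2, 0], [0, -1, 2, -1], [0, 0, -1, 2]]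

theorem isCartanForF4 : IsCartanFor (CoxeterMatrix.F₄) (amat 4 cartanF4) :=
  isCartanFor_of_check (by decide)

theorem length_cartanF4 : ∀ i < 4, (cartanF4.getD i []).length = 4 := by decide

/-- Cartan matrix of type E6: entry `(i, j)` is `A_{p_i, p_j}`. -/
def cartanE6 : List (List ℤ) := [[2, 0, -1, 0, 0, 0], [0, 2, 0, -1, 0, 0], [-1, 0, 2, -1, 0, 0], [0, -1, -1, 2, -1, 0], [0, 0, 0, -1, 2, -1], [0, 0, 0, 0, -1, 2]]

theorem isCartanForE6 : IsCartanFor (CoxeterMatrix.E₆) (amat 6 cartanE6) :=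
  isCartanFor_of_check (by decide)

theorem length_cartanE6 : ∀ i < 6, (cartanE6.getD i []).length = 6 := by decide

/-- Cartan matrix of type E7: entry `(i, j)` is `A_{p_i, p_j}`. -/
def cartanE7 : List (List ℤ) := [[2, 0, -1, 0, 0, 0, 0], [0, 2, 0, -1, 0, 0, 0], [-1, 0, 2, -1, 0, 0, 0], [0, -1, -1, 2, -1, 0, 0], [0, 0, 0, -1, 2, -1, 0], [0, 0, 0, 0, -1, 2, -1], [0, 0, 0, 0, 0, -1, 2]]

theorem isCartanForE7 : IsCartanFor (CoxeterMatrix.E₇) (amat 7 cartanE7) :=
  isCartanFor_of_check (by decide)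

theorem length_cartanE7 : ∀ i < 7, (cartanE7.getD i []).length = 7 := by decide

/-- Cartan matrix of type E8: entry `(i, j)` is `A_{p_i, p_j}`. -/
def cartanE8 : List (List ℤ) := [[2, 0, -1, 0, 0, 0, 0, 0], [0, 2, 0, -1, 0, 0, 0, 0], [-1, 0, 2, -1, 0, 0, 0, 0], [0, -1, -1, 2, -1, 0, 0, 0], [0, 0, 0, -1, 2, -1, 0, 0], [0, 0, 0, 0, -1, 2, -1, 0], [0, 0, 0, 0, 0, -1, 2, -1], [0, 0, 0, 0, 0, 0, -1, 2]]

theorem isCartanForE8 : IsCartanFor (CoxeterMatrix.E₈) (amat 8 cartanE8) :=
  isCartanFor_of_check (by decide)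

theorem length_cartanE8 : ∀ i < 8, (cartanE8.getD i []).length = 8 := by decide

end Cfsg.Agent.Chev
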