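import Mathlib
import Cfsg.Prelude.Def_ChevStructure
import Cfsg.Agent.Chev.CoxOrbit
import Cfsg.Agent.Chev.CoxCartan

set_option autoImplicit false

namespace Cfsg.Agent.Chev

/-- Orbit certificate. -/
def orbE6_0 : List (List ℤ × ℕ) :=
  [([1, 0, 0, 0, 0, 0], 0), ([-1, 0, 1, 0, 0, 0], 1)]

theorem checkE6_0 : checkOrbit 6 cartanE6 [1, 1, 1, 1, 1, 1] 0 orbE6_0 = true := by decide +kernel

theorem sumE6_0 {R : Type*} [CommSemiring R] (q : R) :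
    (orbE6_0.map fun p => q ^ p.2).sum = 1 + q ^ 1 := by
  simp only [orbE6_0, List.map_cons, List.map_nil, List.sum_cons, List.sum_nil]
  ring

/-- Orbit certificate. -/
def orbE6_1 : List (List ℤ × ℕ) :=
  [([0, 1, 0, 0, 0, 0], 0), ([0, -1, 0, 1, 0, 0], 1)]

theorem checkE6_1 : checkOrbit 6 cartanE6 [1, 1, 1, 1, 1, 1] 1 orbE6_1 = true := by decide +kernel

theorem sumE6_1 {R : Type*} [CommSemiring R] (q : R) :
    (orbE6_1.map fun p => q ^ p.2).sum = 1 + q ^ 1 := by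
  simp only [orbE6_1, List.map_cons, List.map_nil, List.sum_cons, List.sum_nil]
  ring

/-- Orbit certificate. -/
def orbE6_2 : List (List ℤ × ℕ) :=
  [([0, 0, 1, 0, 0, 0], 0), ([1, 0, -1, 1, 0, 0], 1), ([-1, 0, 0, 1, 0, 0], 2)]

theorem checkE6_2 : checkOrbit 6 cartanE6 [1, 1, 1, 1, 1, 1] 2 orbE6_2 = true := by decide +kernel

theorem sumE6_2 {R : Type*} [CommSemiring R] (q : R) :
    (orbE6_2.map fun p => q ^ p.2).sum = 1 + q ^ 1 + q ^ 2 := by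
  simp only [orbE6_2, List.map_cons, List.map_nil, List.sum_cons, List.sum_nil]
  ring

/-- Orbit certificate. -/
def orbE6_3 : List (List ℤ × ℕ) :=
  [([0, 0, 0, 1, 0, 0], 0), ([0, 1, 1, -1, 1, 0], 1), ([0, -1, 1, 0, 1, 0], 2), ([1, 1, -1, 0, 1, 0], 2), ([1, -1, -1, 1, 1, 0], 3), ([-1, 1, 0, 0, 1, 0], 3), ([-1, -1, 0, 1, 1, 0], 4), ([1, 0, 0, -1, 2, 0], 4), ([-1, 0, 1, -1, 2, 0], 5), ([0, 0, -1, 0, 2, 0], 6)]

theorem checkE6_3 : checkOrbit 6 cartanE6 [1, 1, 1, 1, 1, 1] 3 orbE6_3 = true := by decide +kernel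

theorem sumE6_3 {R : Type*} [CommSemiring R] (q : R) :
    (orbE6_3.map fun p => q ^ p.2).sum = 1 + q ^ 1 + 2 * q ^ 2 + 2 * q ^ 3 + 2 * q ^ 4 + q ^ 5 + q ^ 6 := by
  simp only [orbE6_3, List.map_cons, List.map_nil, List.sum_cons, List.sum_nil]
  ring

/-- Orbit certificate. -/
def orbE6_4 : List (List ℤ × ℕ) :=
  [([0, 0, 0, 0, 1, 0], 0), ([0, 0, 0, 1, -1, 1], 1), ([0, 1, 1, -1, 0, 1], 2), ([0, -1, 1, 0, 0, 1], 3), ([1, 1, -1, 0, 0, 1], 3), ([1, -1, -1, 1, 0, 1], 4), ([-1, 1, 0, 0, 0, 1], 4), ([-1, -1, 0, 1, 0, 1], 5), ([1, 0, 0, -1, 1, 1], 5), ([-1, 0, 1, -1, 1, 1], 6), ([1, 0, 0, 0, -1, 2], 6), ([0, 0, -1, 0, 1, 1], 7), ([-1, 0, 1, 0, -1, 2], 7), ([0, 0, -1, 1, -1, 2], 8), ([0, 1, 0, -1, 0, 2], 9), ([0, -1, 0, 0, 0, 2], 10)]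

theorem checkE6_4 : checkOrbit 6 cartanE6 [1, 1, 1, 1, 1, 1] 4 orbE6_4 = true := by decide +kernel

theorem sumE6_4 {R : Type*} [CommSemiring R] (q : R) :
    (orbE6_4.map fun p => q ^ p.2).sum = 1 + q ^ 1 + q ^ 2 + 2 * q ^ 3 + 2 * q ^ 4 + 2 * q ^ 5 + 2 * q ^ 6 + 2 * q ^ 7 + q ^ 8 + q ^ 9 + q ^ 10 := by
  simp only [orbE6_4, List.map_cons, List.map_nil, List.sum_cons, List.sum_nil]
  ring

/-- Orbit certificate. -/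
def orbE6_5 : List (List ℤ × ℕ) :=
  [([0, 0, 0, 0, 0, 1], 0), ([0, 0, 0, 0, 1, -1], 1), ([0, 0, 0, 1, -1, 0], 2), ([0, 1, 1, -1, 0, 0], 3), ([0, -1, 1, 0, 0, 0], 4), ([1, 1, -1, 0, 0, 0], 4), ([1, -1, -1, 1, 0, 0], 5), ([-1, 1, 0, 0, 0, 0], 5), ([-1, -1, 0, 1, 0, 0], 6), ([1, 0, 0, -1, 1, 0], 6), ([-1, 0, 1, -1, 1, 0], 7), ([1, 0, 0, 0, -1, 1], 7), ([0, 0, -1, 0, 1, 0], 8), ([-1, 0, 1, 0, -1, 1], 8), ([1, 0, 0, 0, 0, -1], 8), ([0, 0, -1, 1, -1, 1], 9), ([-1, 0, 1, 0, 0, -1], 9), ([0, 1, 0, -1, 0, 1], 10), ([0, 0, -1, 1, 0, -1], 10), ([0, -1, 0, 0, 0, 1], 11), ([0, 1, 0, -1, 1, -1], 11), ([0, -1, 0, 0, 1, -1], 12), ([0, 1, 0, 0, -1, 0], 12), ([0, -1, 0, 1, -1, 0], 13), ([0, 0, 1, -1, 0, 0], 14), ([1, 0, -1, 0, 0, 0], 15), ([-1, 0, 0, 0, 0, 0], 16)]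

theorem checkE6_5 : checkOrbit 6 cartanE6 [1, 1, 1, 1, 1, 1] 5 orbE6_5 = true := by decide +kernel

theorem sumE6_5 {R : Type*} [CommSemiring R] (q : R) :
    (orbE6_5.map fun p => q ^ p.2).sum = 1 + q ^ 1 + q ^ 2 + q ^ 3 + 2 * q ^ 4 + 2 * q ^ 5 + 2 * q ^ 6 + 2 * q ^ 7 + 3 * q ^ 8 + 2 * q ^ 9 + 2 * q ^ 10 + 2 * q ^ 11 + 2 * q ^ 12 + q ^ 13 + q ^ 14 + q ^ 15 + q ^ 16 := by
  simp only [orbE6_5, List.map_cons, List.map_nil, List.sum_cons, List.sum_nil]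
  ring

/-- The weighted Poincaré polynomial. -/
def polyE6 {R : Type*} [CommSemiring R] (q : R) : R :=
  (1 + q ^ 1) *
      (1 + q ^ 1) *
      (1 + q ^ 1 + q ^ 2) *
      (1 + q ^ 1 + 2 * q ^ 2 + 2 * q ^ 3 + 2 * q ^ 4 + q ^ 5 + q ^ 6) *
      (1 + q ^ 1 + q ^ 2 + 2 * q ^ 3 + 2 * q ^ 4 + 2 * q ^ 5 + 2 * q ^ 6 + 2 * q ^ 7 + q ^ 8 + q ^ 9 + q ^ 10) *
      (1 + q ^ 1 + q ^ 2 + q ^ 3 + 2 * q ^ 4 + 2 * q ^ 5 + 2 * q ^ 6 + 2 * q ^ 7 + 3 * q ^ 8 + 2 * q ^ 9 + 2 * q ^ 10 + 2 * q ^ 11 + 2 * q ^ 12 + q ^ 13 + q ^ 14 + q ^ 15 + q ^ 16)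

theorem hasParabolicSumE6 {W : Type*} [Group W] (cs : CoxeterSystem (CoxeterMatrix.E₆) W) {R : Type*} [CommSemiring R]
    {q : R} {f : W → R} (hf : IsLengthMult cs q (fun i => [1, 1, 1, 1, 1, 1].getD i 0) f) :
    HasParabolicSum cs Set.univ f (polyE6 q) := by
  have h := (HasParabolicSum.step_list cs isCartanForE6 (by norm_num) _ checkE6_5 hf
    (HasParabolicSum.step_list cs isCartanForE6 (by norm_num) _ checkE6_4 hf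
    (HasParabolicSum.step_list cs isCartanForE6 (by norm_num) _ checkE6_3 hf
    (HasParabolicSum.step_list cs isCartanForE6 (by norm_num) _ checkE6_2 hf
    (HasParabolicSum.step_list cs isCartanForE6 (by norm_num) _ checkE6_1 hf
    (HasParabolicSum.step_list cs isCartanForE6 (by norm_num) _ checkE6_0 hf
    (hasParabolicSum_zero cs hf.1))))))).univ_of_lt
  rw [sumE6_0, sumE6_1, sumE6_2, sumE6_3, sumE6_4, sumE6_5] at h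
  convert h using 1
  simp only [polyE6, mul_one]
  ac_rfl

theorem polyE6_eq {R : Type*} [CommRing R] (q : R) :
    (q - 1) ^ 6 * polyE6 q = (q ^ 2 - 1) * (q ^ 5 - 1) * (q ^ 6 - 1) * (q ^ 8 - 1) * (q ^ 9 - 1) * (q ^ 12 - 1) := by
  simp only [polyE6]
  ring

end Cfsg.Agent.Chev
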