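import Mathlib
import Cfsg.Prelude.Def_ChevStructure
import Cfsg.Agent.Chev.CoxOrbit
import Cfsg.Agent.Chev.CoxCartan

set_option autoImplicit false

namespace Cfsg.Agent.Chev

/-- Orbit certificate. -/
def orbE7_0 : List (List ℤ × ℕ) :=
  [([1, 0, 0, 0, 0, 0, 0], 0), ([-1, 0, 1, 0, 0, 0, 0], 1)]

theorem checkE7_0 : checkOrbit 7 cartanE7 [1, 1, 1, 1, 1, 1, 1] 0 orbE7_0 = true := by decide +kernel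

theorem sumE7_0 {R : Type*} [CommSemiring R] (q : R) :
    (orbE7_0.map fun p => q ^ p.2).sum = 1 + q ^ 1 := by
  simp only [orbE7_0, List.map_cons, List.map_nil, List.sum_cons, List.sum_nil]
  ring

/-- Orbit certificate. -/
def orbE7_1 : List (List ℤ × ℕ) :=
  [([0, 1, 0, 0, 0, 0, 0], 0), ([0, -1, 0, 1, 0, 0, 0], 1)]

theorem checkE7_1 : checkOrbit 7 cartanE7 [1, 1, 1, 1, 1, 1, 1] 1 orbE7_1 = true := by decide +kernel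

theorem sumE7_1 {R : Type*} [CommSemiring R] (q : R) :
    (orbE7_1.map fun p => q ^ p.2).sum = 1 + q ^ 1 := by
  simp only [orbE7_1, List.map_cons, List.map_nil, List.sum_cons, List.sum_nil]
  ring

/-- Orbit certificate. -/
def orbE7_2 : List (List ℤ × ℕ) :=
  [([0, 0, 1, 0, 0, 0, 0], 0), ([1, 0, -1, 1, 0, 0, 0], 1), ([-1, 0, 0, 1, 0, 0, 0], 2)]

theorem checkE7_2 : checkOrbit 7 cartanE7 [1, 1, 1, 1, 1, 1, 1] 2 orbE7_2 = true := by decide +kernel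

theorem sumE7_2 {R : Type*} [CommSemiring R] (q : R) :
    (orbE7_2.map fun p => q ^ p.2).sum = 1 + q ^ 1 + q ^ 2 := by
  simp only [orbE7_2, List.map_cons, List.map_nil, List.sum_cons, List.sum_nil]
  ring

/-- Orbit certificate. -/
def orbE7_3 : List (List ℤ × ℕ) :=
  [([0, 0, 0, 1, 0, 0, 0], 0), ([0, 1, 1, -1, 1, 0, 0], 1), ([0, -1, 1, 0, 1, 0, 0], 2), ([1, 1, -1, 0, 1, 0, 0], 2), ([1, -1, -1, 1, 1, 0, 0], 3), ([-1, 1, 0, 0, 1, 0, 0], 3), ([-1, -1, 0, 1, 1, 0, 0], 4), ([1, 0, 0, -1, 2, 0, 0], 4), ([-1, 0, 1, -1, 2, 0, 0], 5), ([0, 0, -1, 0, 2, 0, 0], 6)]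

theorem checkE7_3 : checkOrbit 7 cartanE7 [1, 1, 1, 1, 1, 1, 1] 3 orbE7_3 = true := by decide +kernel

theorem sumE7_3 {R : Type*} [CommSemiring R] (q : R) :
    (orbE7_3.map fun p => q ^ p.2).sum = 1 + q ^ 1 + 2 * q ^ 2 + 2 * q ^ 3 + 2 * q ^ 4 + q ^ 5 + q ^ 6 := by
  simp only [orbE7_3, List.map_cons, List.map_nil, List.sum_cons, List.sum_nil]
  ring

/-- Orbit certificate. -/
def orbE7_4 : List (List ℤ × ℕ) :=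
  [([0, 0, 0, 0, 1, 0, 0], 0), ([0, 0, 0, 1, -1, 1, 0], 1), ([0, 1, 1, -1, 0, 1, 0], 2), ([0, -1, 1, 0, 0, 1, 0], 3), ([1, 1, -1, 0, 0, 1, 0], 3), ([1, -1, -1, 1, 0, 1, 0], 4), ([-1, 1, 0, 0, 0, 1, 0], 4), ([-1, -1, 0, 1, 0, 1, 0], 5), ([1, 0, 0, -1, 1, 1, 0], 5), ([-1, 0, 1, -1, 1, 1, 0], 6), ([1, 0, 0, 0, -1, 2, 0], 6), ([0, 0, -1, 0, 1, 1, 0], 7), ([-1, 0, 1, 0, -1, 2, 0], 7), ([0, 0, -1, 1, -1, 2, 0], 8), ([0, 1, 0, -1, 0, 2, 0], 9), ([0, -1, 0, 0, 0, 2, 0], 10)]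

theorem checkE7_4 : checkOrbit 7 cartanE7 [1, 1, 1, 1, 1, 1, 1] 4 orbE7_4 = true := by decide +kernel

theorem sumE7_4 {R : Type*} [CommSemiring R] (q : R) :
    (orbE7_4.map fun p => q ^ p.2).sum = 1 + q ^ 1 + q ^ 2 + 2 * q ^ 3 + 2 * q ^ 4 + 2 * q ^ 5 + 2 * q ^ 6 + 2 * q ^ 7 + q ^ 8 + q ^ 9 + q ^ 10 := by
  simp only [orbE7_4, List.map_cons, List.map_nil, List.sum_cons, List.sum_nil]
  ring

/-- Orbit certificate. -/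
def orbE7_5 : List (List ℤ × ℕ) :=
  [([0, 0, 0, 0, 0, 1, 0], 0), ([0, 0, 0, 0, 1, -1, 1], 1), ([0, 0, 0, 1, -1, 0, 1], 2), ([0, 1, 1, -1, 0, 0, 1], 3), ([0, -1, 1, 0, 0, 0, 1], 4), ([1, 1, -1, 0, 0, 0, 1], 4), ([1, -1, -1, 1, 0, 0, 1], 5), ([-1, 1, 0, 0, 0, 0, 1], 5), ([-1, -1, 0, 1, 0, 0, 1], 6), ([1, 0, 0, -1, 1, 0, 1], 6), ([-1, 0, 1, -1, 1, 0, 1], 7), ([1, 0, 0, 0, -1, 1, 1], 7), ([0, 0, -1, 0, 1, 0, 1], 8), ([-1, 0, 1, 0, -1, 1, 1], 8), ([1, 0, 0, 0, 0, -1, 2], 8), ([0, 0, -1, 1, -1, 1, 1], 9), ([-1, 0, 1, 0, 0, -1, 2], 9), ([0, 1, 0, -1, 0, 1, 1], 10), ([0, 0, -1, 1, 0, -1, 2], 10), ([0, -1, 0, 0, 0, 1, 1], 11), ([0, 1, 0, -1, 1, -1, 2], 11), ([0, -1, 0, 0, 1, -1, 2], 12), ([0, 1, 0, 0, -1, 0, 2], 12), ([0, -1, 0, 1, -1, 0, 2], 13), ([0, 0, 1, -1, 0, 0, 2], 14), ([1, 0, -1, 0, 0,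 0, 2], 15), ([-1, 0, 0, 0, 0, 0, 2], 16)]

theorem checkE7_5 : checkOrbit 7 cartanE7 [1, 1, 1, 1, 1, 1, 1] 5 orbE7_5 = true := by decide +kernel

theorem sumE7_5 {R : Type*} [CommSemiring R] (q : R) :
    (orbE7_5.map fun p => q ^ p.2).sum = 1 + q ^ 1 + q ^ 2 + q ^ 3 + 2 * q ^ 4 + 2 * q ^ 5 + 2 * q ^ 6 + 2 * q ^ 7 + 3 * q ^ 8 + 2 * q ^ 9 + 2 * q ^ 10 + 2 * q ^ 11 + 2 * q ^ 12 + q ^ 13 + q ^ 14 + q ^ 15 + q ^ 16 := by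
  simp only [orbE7_5, List.map_cons, List.map_nil, List.sum_cons, List.sum_nil]
  ring

/-- Orbit certificate. -/
def orbE7_6 : List (List ℤ × ℕ) :=
  [([0, 0, 0, 0, 0, 0, 1], 0), ([0, 0, 0, 0, 0, 1, -1], 1), ([0, 0, 0, 0, 1, -1, 0], 2), ([0, 0, 0, 1, -1, 0, 0], 3), ([0, 1, 1, -1, 0, 0, 0], 4), ([0, -1, 1, 0, 0, 0, 0], 5), ([1, 1, -1, 0, 0, 0, 0], 5), ([1, -1, -1, 1, 0, 0, 0], 6), ([-1, 1, 0, 0, 0, 0, 0], 6), ([-1, -1, 0, 1, 0, 0, 0], 7), ([1, 0, 0, -1, 1, 0, 0], 7), ([-1, 0, 1, -1, 1, 0, 0], 8), ([1, 0, 0, 0, -1, 1, 0], 8), ([0, 0, -1, 0, 1, 0, 0], 9), ([-1, 0, 1, 0, -1, 1, 0], 9), ([1, 0, 0, 0, 0, -1, 1], 9), ([0, 0, -1, 1, -1, 1, 0], 10), ([-1, 0, 1, 0, 0, -1, 1], 10), ([1, 0, 0, 0, 0, 0, -1], 10), ([0, 1, 0, -1, 0, 1, 0], 11), ([0, 0, -1, 1, 0, -1, 1], 11), ([-1, 0, 1, 0, 0, 0, -1],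 11), ([0, -1, 0, 0, 0, 1, 0], 12), ([0, 1, 0, -1, 1, -1, 1], 12), ([0, 0, -1, 1, 0, 0, -1], 12), ([0, -1, 0, 0, 1, -1, 1], 13), ([0, 1, 0, 0, -1, 0, 1], 13), ([0, 1, 0, -1, 1, 0, -1], 13), ([0, -1, 0, 1, -1, 0, 1], 14), ([0, -1, 0, 0, 1, 0, -1], 14), ([0, 1, 0, 0, -1, 1, -1], 14), ([0, 0, 1, -1, 0, 0, 1], 15), ([0, -1, 0, 1, -1, 1, -1], 15), ([0, 1, 0, 0, 0, -1, 0], 15), ([1, 0, -1, 0, 0, 0, 1], 16), ([0, 0, 1, -1, 0, 1, -1], 16), ([0, -1, 0, 1, 0, -1, 0], 16), ([-1, 0, 0, 0, 0, 0, 1], 17), ([1, 0, -1, 0, 0, 1, -1], 17), ([0, 0, 1, -1, 1, -1, 0], 17), ([-1, 0, 0, 0, 0, 1, -1], 18), ([1, 0, -1, 0, 1, -1, 0], 18), ([0, 0, 1, 0, -1, 0, 0], 18), ([-1, 0, 0, 0, 1, -1, 0], 19), ([1, 0, -1, 1, -1, 0, 0], 19), ([-1, 0, 0, 1, -1, 0, 0], 20), ([1, 1, 0, -1, 0, 0, 0], 20), ([-1, 1, 1, -1, 0, 0, 0],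 21), ([1, -1, 0, 0, 0, 0, 0], 21), ([-1, -1, 1, 0, 0, 0, 0], 22), ([0, 1, -1, 0, 0, 0, 0], 22), ([0, -1, -1, 1, 0, 0, 0], 23), ([0, 0, 0, -1, 1, 0, 0], 24), ([0, 0, 0, 0, -1, 1, 0], 25), ([0, 0, 0, 0, 0, -1, 1], 26), ([0, 0, 0, 0, 0, 0, -1], 27)]

theorem checkE7_6 : checkOrbit 7 cartanE7 [1, 1, 1, 1, 1, 1, 1] 6 orbE7_6 = true := by decide +kernel

theorem sumE7_6 {R : Type*} [CommSemiring R] (q : R) :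
    (orbE7_6.map fun p => q ^ p.2).sum = 1 + q ^ 1 + q ^ 2 + q ^ 3 + q ^ 4 + 2 * q ^ 5 + 2 * q ^ 6 + 2 * q ^ 7 + 2 * q ^ 8 + 3 * q ^ 9 + 3 * q ^ 10 + 3 * q ^ 11 + 3 * q ^ 12 + 3 * q ^ 13 + 3 * q ^ 14 + 3 * q ^ 15 + 3 * q ^ 16 + 3 * q ^ 17 + 3 * q ^ 18 + 2 * q ^ 19 + 2 * q ^ 20 + 2 * q ^ 21 + 2 * q ^ 22 + q ^ 23 + q ^ 24 + q ^ 25 + q ^ 26 + q ^ 27 := by
  simp only [orbE7_6, List.map_cons, List.map_nil, List.sum_cons, List.sum_nil]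
  ring

/-- The weighted Poincaré polynomial. -/
def polyE7 {R : Type*} [CommSemiring R] (q : R) : R :=
  (1 + q ^ 1) *
      (1 + q ^ 1) *
      (1 + q ^ 1 + q ^ 2) *
      (1 + q ^ 1 + 2 * q ^ 2 + 2 * q ^ 3 + 2 * q ^ 4 + q ^ 5 + q ^ 6) *
      (1 + q ^ 1 + q ^ 2 + 2 * q ^ 3 + 2 * q ^ 4 + 2 * q ^ 5 + 2 * q ^ 6 + 2 * q ^ 7 + q ^ 8 + q ^ 9 + q ^ 10) *
      (1 + q ^ 1 + q ^ 2 + q ^ 3 + 2 * q ^ 4 + 2 * q ^ 5 + 2 * q ^ 6 + 2 * q ^ 7 + 3 * q ^ 8 + 2 * q ^ 9 + 2 * q ^ 10 + 2 * q ^ 11 + 2 * q ^ 12 + q ^ 13 + q ^ 14 + q ^ 15 + q ^ 16) *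
      (1 + q ^ 1 + q ^ 2 + q ^ 3 + q ^ 4 + 2 * q ^ 5 + 2 * q ^ 6 + 2 * q ^ 7 + 2 * q ^ 8 + 3 * q ^ 9 + 3 * q ^ 10 + 3 * q ^ 11 + 3 * q ^ 12 + 3 * q ^ 13 + 3 * q ^ 14 + 3 * q ^ 15 + 3 * q ^ 16 + 3 * q ^ 17 + 3 * q ^ 18 + 2 * q ^ 19 + 2 * q ^ 20 + 2 * q ^ 21 + 2 * q ^ 22 + q ^ 23 + q ^ 24 + q ^ 25 + q ^ 26 + q ^ 27)

theorem hasParabolicSumE7 {W : Type*} [Group W] (cs : CoxeterSystem (CoxeterMatrix.E₇) W) {R : Type*} [CommSemiring R]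
    {q : R} {f : W → R} (hf : IsLengthMult cs q (fun i => [1, 1, 1, 1, 1, 1, 1].getD i 0) f) :
    HasParabolicSum cs Set.univ f (polyE7 q) := by
  have h := (HasParabolicSum.step_list cs isCartanForE7 (by norm_num) _ checkE7_6 hf
    (HasParabolicSum.step_list cs isCartanForE7 (by norm_num) _ checkE7_5 hf
    (HasParabolicSum.step_list cs isCartanForE7 (by norm_num) _ checkE7_4 hf
    (HasParabolicSum.step_list cs isCartanForE7 (by norm_num) _ checkE7_3 hf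
    (HasParabolicSum.step_list cs isCartanForE7 (by norm_num) _ checkE7_2 hf
    (HasParabolicSum.step_list cs isCartanForE7 (by norm_num) _ checkE7_1 hf
    (HasParabolicSum.step_list cs isCartanForE7 (by norm_num) _ checkE7_0 hf
    (hasParabolicSum_zero cs hf.1)))))))).univ_of_lt
  rw [sumE7_0, sumE7_1, sumE7_2, sumE7_3, sumE7_4, sumE7_5, sumE7_6] at h
  convert h using 1
  simp only [polyE7, mul_one]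
  ac_rfl

theorem polyE7_eq {R : Type*} [CommRing R] (q : R) :
    (q - 1) ^ 7 * polyE7 q = (q ^ 2 - 1) * (q ^ 6 - 1) * (q ^ 8 - 1) * (q ^ 10 - 1) * (q ^ 12 - 1) * (q ^ 14 - 1) * (q ^ 18 - 1) := by
  simp only [polyE7]
  ring

end Cfsg.Agent.Chev
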