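import Mathlib
import Cfsg.Prelude.Def_ChevStructure
import Cfsg.Agent.Chev.CoxOrbit
import Cfsg.Agent.Chev.CoxCartan

set_option autoImplicit false

namespace Cfsg.Agent.Chev

/-- Orbit certificate. -/
def orbE8_0 : List (List ℤ × ℕ) :=
  [([1, 0, 0, 0, 0, 0, 0, 0], 0), ([-1, 0, 1, 0, 0, 0, 0, 0], 1)]

theorem checkE8_0 : checkOrbit 8 cartanE8 [1, 1, 1, 1, 1, 1, 1, 1] 0 orbE8_0 = true := by decide +kernel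

theorem sumE8_0 {R : Type*} [CommSemiring R] (q : R) :
    (orbE8_0.map fun p => q ^ p.2).sum = 1 + q ^ 1 := by
  simp only [orbE8_0, List.map_cons, List.map_nil, List.sum_cons, List.sum_nil]
  ring

/-- Orbit certificate. -/
def orbE8_1 : List (List ℤ × ℕ) :=
  [([0, 1, 0, 0, 0, 0, 0, 0], 0), ([0, -1, 0, 1, 0, 0, 0, 0], 1)]

theorem checkE8_1 : checkOrbit 8 cartanE8 [1, 1, 1, 1, 1, 1, 1, 1] 1 orbE8_1 = true := by decide +kernel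

theorem sumE8_1 {R : Type*} [CommSemiring R] (q : R) :
    (orbE8_1.map fun p => q ^ p.2).sum = 1 + q ^ 1 := by
  simp only [orbE8_1, List.map_cons, List.map_nil, List.sum_cons, List.sum_nil]
  ring

/-- Orbit certificate. -/
def orbE8_2 : List (List ℤ × ℕ) :=
  [([0, 0, 1, 0, 0, 0, 0, 0], 0), ([1, 0, -1, 1, 0, 0, 0, 0], 1), ([-1, 0, 0, 1, 0, 0, 0, 0], 2)]

theorem checkE8_2 : checkOrbit 8 cartanE8 [1, 1, 1, 1, 1, 1, 1, 1] 2 orbE8_2 = true := by decide +kernel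

theorem sumE8_2 {R : Type*} [CommSemiring R] (q : R) :
    (orbE8_2.map fun p => q ^ p.2).sum = 1 + q ^ 1 + q ^ 2 := by
  simp only [orbE8_2, List.map_cons, List.map_nil, List.sum_cons, List.sum_nil]
  ring

/-- Orbit certificate. -/
def orbE8_3 : List (List ℤ × ℕ) :=
  [([0, 0, 0, 1, 0, 0, 0, 0], 0), ([0, 1, 1, -1, 1, 0, 0, 0], 1), ([0, -1, 1, 0, 1, 0, 0, 0], 2), ([1, 1, -1, 0, 1, 0, 0, 0], 2), ([1, -1, -1, 1, 1, 0, 0, 0], 3), ([-1, 1, 0, 0, 1, 0, 0, 0], 3), ([-1, -1, 0, 1, 1, 0, 0, 0], 4), ([1, 0, 0, -1, 2, 0, 0, 0], 4), ([-1, 0, 1, -1, 2, 0, 0, 0], 5), ([0, 0, -1, 0, 2, 0, 0, 0], 6)]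

theorem checkE8_3 : checkOrbit 8 cartanE8 [1, 1, 1, 1, 1, 1, 1, 1] 3 orbE8_3 = true := by decide +kernel

theorem sumE8_3 {R : Type*} [CommSemiring R] (q : R) :
    (orbE8_3.map fun p => q ^ p.2).sum = 1 + q ^ 1 + 2 * q ^ 2 + 2 * q ^ 3 + 2 * q ^ 4 + q ^ 5 + q ^ 6 := by
  simp only [orbE8_3, List.map_cons, List.map_nil, List.sum_cons, List.sum_nil]
  ring

/-- Orbit certificate. -/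
def orbE8_4 : List (List ℤ × ℕ) :=
  [([0, 0, 0, 0, 1, 0, 0, 0], 0), ([0, 0, 0, 1, -1, 1, 0, 0], 1), ([0, 1, 1, -1, 0, 1, 0, 0], 2), ([0, -1, 1, 0, 0, 1, 0, 0], 3), ([1, 1, -1, 0, 0, 1, 0, 0], 3), ([1, -1, -1, 1, 0, 1, 0, 0], 4), ([-1, 1, 0, 0, 0, 1, 0, 0], 4), ([-1, -1, 0, 1, 0, 1, 0, 0], 5), ([1, 0, 0, -1, 1, 1, 0, 0], 5), ([-1, 0, 1, -1, 1, 1, 0, 0], 6), ([1, 0, 0, 0, -1, 2, 0, 0], 6), ([0, 0, -1, 0, 1, 1, 0, 0], 7), ([-1, 0, 1, 0, -1, 2, 0, 0], 7), ([0, 0, -1, 1, -1, 2, 0, 0], 8), ([0, 1, 0, -1, 0, 2, 0, 0], 9), ([0, -1, 0, 0, 0, 2, 0, 0], 10)]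

theorem checkE8_4 : checkOrbit 8 cartanE8 [1, 1, 1, 1, 1, 1, 1, 1] 4 orbE8_4 = true := by decide +kernel

theorem sumE8_4 {R : Type*} [CommSemiring R] (q : R) :
    (orbE8_4.map fun p => q ^ p.2).sum = 1 + q ^ 1 + q ^ 2 + 2 * q ^ 3 + 2 * q ^ 4 + 2 * q ^ 5 + 2 * q ^ 6 + 2 * q ^ 7 + q ^ 8 + q ^ 9 + q ^ 10 := by
  simp only [orbE8_4, List.map_cons, List.map_nil, List.sum_cons, List.sum_nil]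
  ring

/-- Orbit certificate. -/
def orbE8_5 : List (List ℤ × ℕ) :=
  [([0, 0, 0, 0, 0, 1, 0, 0], 0), ([0, 0, 0, 0, 1, -1, 1, 0], 1), ([0, 0, 0, 1, -1, 0, 1, 0], 2), ([0, 1, 1, -1, 0, 0, 1, 0], 3), ([0, -1, 1, 0, 0, 0, 1, 0], 4), ([1, 1, -1, 0, 0, 0, 1, 0], 4), ([1, -1, -1, 1, 0, 0, 1, 0], 5), ([-1, 1, 0, 0, 0, 0, 1, 0], 5), ([-1, -1, 0, 1, 0, 0, 1, 0], 6), ([1, 0, 0, -1, 1, 0, 1, 0], 6), ([-1, 0, 1, -1, 1, 0, 1, 0], 7), ([1, 0, 0, 0, -1, 1, 1, 0], 7), ([0, 0, -1, 0, 1, 0, 1, 0], 8), ([-1, 0, 1, 0, -1, 1, 1, 0], 8), ([1, 0, 0, 0, 0, -1, 2, 0], 8), ([0, 0, -1, 1, -1, 1, 1, 0], 9), ([-1, 0, 1, 0, 0, -1, 2, 0], 9), ([0, 1, 0, -1, 0, 1, 1, 0], 10), ([0, 0, -1, 1, 0, -1, 2, 0], 10), ([0, -1, 0, 0, 0, 1, 1, 0], 11), ([0, 1, 0, -1, 1, -1, 2, 0], 11),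 ([0, -1, 0, 0, 1, -1, 2, 0], 12), ([0, 1, 0, 0, -1, 0, 2, 0], 12), ([0, -1, 0, 1, -1, 0, 2, 0], 13), ([0, 0, 1, -1, 0, 0, 2, 0], 14), ([1, 0, -1, 0, 0, 0, 2, 0], 15), ([-1, 0, 0, 0, 0, 0, 2, 0], 16)]

theorem checkE8_5 : checkOrbit 8 cartanE8 [1, 1, 1, 1, 1, 1, 1, 1] 5 orbE8_5 = true := by decide +kernel

theorem sumE8_5 {R : Type*} [CommSemiring R] (q : R) :
    (orbE8_5.map fun p => q ^ p.2).sum = 1 + q ^ 1 + q ^ 2 + q ^ 3 + 2 * q ^ 4 + 2 * q ^ 5 + 2 * q ^ 6 + 2 * q ^ 7 + 3 * q ^ 8 + 2 * q ^ 9 + 2 * q ^ 10 + 2 * q ^ 11 + 2 * q ^ 12 + q ^ 13 + q ^ 14 + q ^ 15 + q ^ 16 := by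
  simp only [orbE8_5, List.map_cons, List.map_nil, List.sum_cons, List.sum_nil]
  ring

/-- Orbit certificate. -/
def orbE8_6 : List (List ℤ × ℕ) :=
  [([0, 0, 0, 0, 0, 0, 1, 0], 0), ([0, 0, 0, 0, 0, 1, -1, 1], 1), ([0, 0, 0, 0, 1, -1, 0, 1], 2), ([0, 0, 0, 1, -1, 0, 0, 1], 3), ([0, 1, 1, -1, 0, 0, 0, 1], 4), ([0, -1, 1, 0, 0, 0, 0, 1], 5), ([1, 1, -1, 0, 0, 0, 0, 1], 5), ([1, -1, -1, 1, 0, 0, 0, 1], 6), ([-1, 1, 0, 0, 0, 0, 0, 1], 6), ([-1, -1, 0, 1, 0, 0, 0, 1], 7), ([1, 0, 0, -1, 1, 0, 0, 1], 7), ([-1, 0, 1, -1, 1, 0, 0, 1], 8), ([1, 0, 0, 0, -1, 1, 0, 1], 8), ([0, 0, -1, 0, 1, 0, 0, 1], 9), ([-1, 0, 1, 0, -1, 1, 0, 1], 9), ([1, 0, 0, 0, 0, -1, 1, 1], 9), ([0, 0, -1, 1, -1, 1, 0, 1], 10), ([-1, 0, 1, 0, 0, -1, 1, 1], 10), ([1, 0, 0, 0, 0, 0,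 -1, 2], 10), ([0, 1, 0, -1, 0, 1, 0, 1], 11), ([0, 0, -1, 1, 0, -1, 1, 1], 11), ([-1, 0, 1, 0, 0, 0, -1, 2], 11), ([0, -1, 0, 0, 0, 1, 0, 1], 12), ([0, 1, 0, -1, 1, -1, 1, 1], 12), ([0, 0, -1, 1, 0, 0, -1, 2], 12), ([0, -1, 0, 0, 1, -1, 1, 1], 13), ([0, 1, 0, 0, -1, 0, 1, 1], 13), ([0, 1, 0, -1, 1, 0, -1, 2], 13), ([0, -1, 0, 1, -1, 0, 1, 1], 14), ([0, -1, 0, 0, 1, 0, -1, 2], 14), ([0, 1, 0, 0, -1, 1, -1, 2], 14), ([0, 0, 1, -1, 0, 0, 1, 1], 15), ([0, -1, 0, 1, -1, 1, -1, 2], 15), ([0, 1, 0, 0, 0, -1, 0, 2], 15), ([1, 0, -1, 0, 0, 0, 1, 1], 16), ([0, 0, 1, -1, 0, 1, -1, 2], 16), ([0, -1, 0, 1, 0, -1, 0, 2], 16), ([-1, 0, 0, 0, 0, 0, 1, 1], 17), ([1, 0, -1, 0, 0, 1, -1, 2], 17), ([0, 0, 1, -1, 1, -1, 0, 2], 17), ([-1, 0, 0, 0, 0, 1, -1, 2], 18),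 ([1, 0, -1, 0, 1, -1, 0, 2], 18), ([0, 0, 1, 0, -1, 0, 0, 2], 18), ([-1, 0, 0, 0, 1, -1, 0, 2], 19), ([1, 0, -1, 1, -1, 0, 0, 2], 19), ([-1, 0, 0, 1, -1, 0, 0, 2], 20), ([1, 1, 0, -1, 0, 0, 0, 2], 20), ([-1, 1, 1, -1, 0, 0, 0, 2], 21), ([1, -1, 0, 0, 0, 0, 0, 2], 21), ([-1, -1, 1, 0, 0, 0, 0, 2], 22), ([0, 1, -1, 0, 0, 0, 0, 2], 22), ([0, -1, -1, 1, 0, 0, 0, 2], 23), ([0, 0, 0, -1, 1, 0, 0, 2], 24), ([0, 0, 0, 0, -1, 1, 0, 2], 25), ([0, 0, 0, 0, 0, -1, 1, 2], 26), ([0, 0, 0, 0, 0, 0, -1, 3], 27)]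

theorem checkE8_6 : checkOrbit 8 cartanE8 [1, 1, 1, 1, 1, 1, 1, 1] 6 orbE8_6 = true := by decide +kernel

theorem sumE8_6 {R : Type*} [CommSemiring R] (q : R) :
    (orbE8_6.map fun p => q ^ p.2).sum = 1 + q ^ 1 + q ^ 2 + q ^ 3 + q ^ 4 + 2 * q ^ 5 + 2 * q ^ 6 + 2 * q ^ 7 + 2 * q ^ 8 + 3 * q ^ 9 + 3 * q ^ 10 + 3 * q ^ 11 + 3 * q ^ 12 + 3 * q ^ 13 + 3 * q ^ 14 + 3 * q ^ 15 + 3 * q ^ 16 + 3 * q ^ 17 + 3 * q ^ 18 + 2 * q ^ 19 + 2 * q ^ 20 + 2 * q ^ 21 + 2 * q ^ 22 + q ^ 23 + q ^ 24 + q ^ 25 + q ^ 26 + q ^ 27 := by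
  simp only [orbE8_6, List.map_cons, List.map_nil, List.sum_cons, List.sum_nil]
  ring

/-- Piece of an orbit certificate. -/
def orbE8_7_0 : List (List ℤ × ℕ) :=
  [([0, 0, 0, 0, 0, 0, 0, 1], 0), ([0, 0, 0, 0, 0, 0, 1, -1], 1), ([0, 0, 0, 0, 0, 1, -1, 0], 2), ([0, 0, 0, 0, 1, -1, 0, 0], 3), ([0, 0, 0, 1, -1, 0, 0, 0], 4), ([0, 1, 1, -1, 0, 0, 0, 0], 5), ([0, -1, 1, 0, 0, 0, 0, 0], 6), ([1, 1, -1, 0, 0, 0, 0, 0], 6), ([1, -1, -1, 1, 0, 0, 0, 0], 7), ([-1, 1, 0, 0, 0, 0, 0, 0], 7), ([-1, -1, 0, 1, 0, 0, 0, 0], 8), ([1, 0, 0, -1, 1, 0, 0, 0], 8), ([-1, 0, 1, -1, 1, 0, 0, 0], 9), ([1, 0, 0, 0, -1, 1, 0, 0], 9), ([0, 0, -1, 0, 1, 0, 0, 0], 10), ([-1, 0, 1, 0, -1, 1, 0, 0], 10), ([1, 0, 0, 0, 0, -1, 1, 0], 10), ([0, 0, -1, 1, -1, 1, 0, 0], 11), ([-1,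 0, 1, 0, 0, -1, 1, 0], 11), ([1, 0, 0, 0, 0, 0, -1, 1], 11), ([0, 1, 0, -1, 0, 1, 0, 0], 12), ([0, 0, -1, 1, 0, -1, 1, 0], 12), ([-1, 0, 1, 0, 0, 0, -1, 1], 12), ([1, 0, 0, 0, 0, 0, 0, -1], 12), ([0, -1, 0, 0, 0, 1, 0, 0], 13), ([0, 1, 0, -1, 1, -1, 1, 0], 13), ([0, 0, -1, 1, 0, 0, -1, 1], 13), ([-1, 0, 1, 0, 0, 0, 0, -1], 13), ([0, -1, 0, 0, 1, -1, 1, 0], 14), ([0, 1, 0, 0, -1, 0, 1, 0], 14)]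

/-- Piece of an orbit certificate. -/
def orbE8_7_1 : List (List ℤ × ℕ) :=
  [([0, 1, 0, -1, 1, 0, -1, 1], 14), ([0, 0, -1, 1, 0, 0, 0, -1], 14), ([0, -1, 0, 1, -1, 0, 1, 0], 15), ([0, -1, 0, 0, 1, 0, -1, 1], 15), ([0, 1, 0, 0, -1, 1, -1, 1], 15), ([0, 1, 0, -1, 1, 0, 0, -1], 15), ([0, 0, 1, -1, 0, 0, 1, 0], 16), ([0, -1, 0, 1, -1, 1, -1, 1], 16), ([0, -1, 0, 0, 1, 0, 0, -1], 16), ([0, 1, 0, 0, 0, -1, 0, 1], 16), ([0, 1, 0, 0, -1, 1, 0, -1], 16), ([1, 0, -1, 0, 0, 0, 1, 0], 17), ([0, 0, 1, -1, 0, 1, -1, 1], 17), ([0, -1, 0, 1, 0, -1, 0, 1], 17), ([0, -1, 0, 1, -1, 1, 0, -1], 17), ([0, 1, 0, 0, 0, -1, 1, -1], 17), ([-1, 0, 0, 0, 0, 0, 1, 0], 18), ([1, 0, -1, 0, 0, 1, -1, 1], 18), ([0, 0, 1, -1, 1, -1, 0, 1], 18), ([0, 0, 1, -1, 0, 1, 0, -1], 18),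 ([0, -1, 0, 1, 0, -1, 1, -1], 18), ([0, 1, 0, 0, 0, 0, -1, 0], 18), ([-1, 0, 0, 0, 0, 1, -1, 1], 19), ([1, 0, -1, 0, 1, -1, 0, 1], 19), ([1, 0, -1, 0, 0, 1, 0, -1], 19), ([0, 0, 1, 0, -1, 0, 0, 1], 19), ([0, 0, 1, -1, 1, -1, 1, -1], 19), ([0, -1, 0, 1, 0, 0, -1, 0], 19), ([-1, 0, 0, 0, 1, -1, 0, 1], 20), ([-1, 0, 0, 0, 0, 1, 0, -1], 20)]

/-- Piece of an orbit certificate. -/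
def orbE8_7_2 : List (List ℤ × ℕ) :=
  [([1, 0, -1, 1, -1, 0, 0, 1], 20), ([1, 0, -1, 0, 1, -1, 1, -1], 20), ([0, 0, 1, 0, -1, 0, 1, -1], 20), ([0, 0, 1, -1, 1, 0, -1, 0], 20), ([-1, 0, 0, 1, -1, 0, 0, 1], 21), ([-1, 0, 0, 0, 1, -1, 1, -1], 21), ([1, 1, 0, -1, 0, 0, 0, 1], 21), ([1, 0, -1, 1, -1, 0, 1, -1], 21), ([1, 0, -1, 0, 1, 0, -1, 0], 21), ([0, 0, 1, 0, -1, 1, -1, 0], 21), ([-1, 1, 1, -1, 0, 0, 0, 1], 22), ([-1, 0, 0, 1, -1, 0, 1, -1], 22), ([-1, 0, 0, 0, 1, 0, -1, 0], 22), ([1, -1, 0, 0, 0, 0, 0, 1], 22), ([1, 1, 0, -1, 0, 0, 1, -1], 22), ([1, 0, -1, 1, -1, 1, -1, 0], 22), ([0, 0, 1, 0, 0, -1, 0, 0], 22), ([-1, -1, 1, 0, 0, 0, 0, 1], 23), ([0, 1, -1, 0, 0, 0, 0, 1], 23), ([-1, 1, 1, -1, 0, 0, 1, -1], 23), ([-1, 0, 0, 1, -1, 1, -1, 0], 23),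 ([1, -1, 0, 0, 0, 0, 1, -1], 23), ([1, 1, 0, -1, 0, 1, -1, 0], 23), ([1, 0, -1, 1, 0, -1, 0, 0], 23), ([0, -1, -1, 1, 0, 0, 0, 1], 24), ([-1, -1, 1, 0, 0, 0, 1, -1], 24), ([0, 1, -1, 0, 0, 0, 1, -1], 24), ([-1, 1, 1, -1, 0, 1, -1, 0], 24), ([-1, 0, 0, 1, 0, -1, 0, 0], 24), ([1, -1, 0, 0, 0, 1, -1, 0], 24)]

/-- Piece of an orbit certificate. -/
def orbE8_7_3 : List (List ℤ × ℕ) :=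
  [([1, 1, 0, -1, 1, -1, 0, 0], 24), ([0, 0, 0, -1, 1, 0, 0, 1], 25), ([0, -1, -1, 1, 0, 0, 1, -1], 25), ([-1, -1, 1, 0, 0, 1, -1, 0], 25), ([0, 1, -1, 0, 0, 1, -1, 0], 25), ([-1, 1, 1, -1, 1, -1, 0, 0], 25), ([1, -1, 0, 0, 1, -1, 0, 0], 25), ([1, 1, 0, 0, -1, 0, 0, 0], 25), ([0, 0, 0, 0, -1, 1, 0, 1], 26), ([0, 0, 0, -1, 1, 0, 1, -1], 26), ([0, -1, -1, 1, 0, 1, -1, 0], 26), ([-1, -1, 1, 0, 1, -1, 0, 0], 26), ([0, 1, -1, 0, 1, -1, 0, 0], 26), ([-1, 1, 1, 0, -1, 0, 0, 0], 26), ([1, -1, 0, 1, -1, 0, 0, 0], 26), ([0, 0, 0, 0, 0, -1, 1, 1], 27), ([0, 0, 0, 0, -1, 1, 1, -1], 27), ([0, 0, 0, -1, 1, 1, -1, 0], 27), ([0, -1, -1, 1, 1, -1, 0, 0], 27), ([-1, -1, 1, 1, -1, 0, 0, 0], 27), ([0, 1, -1, 1, -1, 0, 0, 0], 27), ([1, 0, 1, -1, 0, 0, 0, 0], 27), ([0,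 0, 0, 0, 0, 0, -1, 2], 28), ([0, 0, 0, 0, 0, -1, 2, -1], 28), ([0, 0, 0, 0, -1, 2, -1, 0], 28), ([0, 0, 0, -1, 2, -1, 0, 0], 28), ([0, -1, -1, 2, -1, 0, 0, 0], 28), ([-1, 0, 2, -1, 0, 0, 0, 0], 28), ([0, 2, 0, -1, 0, 0, 0, 0], 28), ([2, 0, -1, 0, 0, 0, 0, 0], 28)]

/-- Piece of an orbit certificate. -/
def orbE8_7_4 : List (List ℤ × ℕ) :=
  [([0, 0, 0, 0, 0, 0, 1, -2], 29), ([0, 0, 0, 0, 0, 1, -2, 1], 29), ([0, 0, 0, 0, 1, -2, 1, 0], 29), ([0, 0, 0, 1, -2, 1, 0, 0], 29), ([0, 1, 1, -2, 1, 0, 0, 0], 29), ([1, 0, -2, 1, 0, 0, 0, 0], 29), ([0, -2, 0, 1, 0, 0, 0, 0], 29), ([-2, 0, 1, 0, 0, 0, 0, 0], 29), ([0, 0, 0, 0, 0, 1, -1, -1], 30), ([0, 0, 0, 0, 1, -1, -1, 1], 30), ([0, 0, 0, 1, -1, -1, 1, 0], 30), ([0, 1, 1, -1, -1, 1, 0, 0], 30), ([0, -1, 1,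 -1, 1, 0, 0, 0], 30), ([1, 1, -1, -1, 1, 0, 0, 0], 30), ([-1, 0, -1, 1, 0, 0, 0, 0], 30), ([0, 0, 0, 0, 1, -1, 0, -1], 31), ([0, 0, 0, 1, -1, 0, -1, 1], 31), ([0, 1, 1, -1, 0, -1, 1, 0], 31), ([0, -1, 1, 0, -1, 1, 0, 0], 31), ([1, 1, -1, 0, -1, 1, 0, 0], 31), ([1, -1, -1, 0, 1, 0, 0, 0], 31), ([-1, 1, 0, -1, 1, 0, 0, 0], 31), ([0, 0, 0, 1, -1, 0, 0, -1], 32), ([0, 1, 1, -1, 0, 0, -1, 1], 32), ([0, -1, 1, 0, 0, -1, 1, 0], 32), ([1, 1, -1, 0, 0, -1, 1, 0], 32), ([1, -1, -1, 1, -1, 1, 0, 0], 32), ([-1, 1, 0, 0, -1, 1, 0, 0], 32), ([-1, -1, 0, 0, 1, 0, 0, 0], 32), ([0, 1, 1, -1, 0, 0, 0, -1], 33)]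

/-- Piece of an orbit certificate. -/
def orbE8_7_5 : List (List ℤ × ℕ) :=
  [([0, -1, 1, 0, 0, 0, -1, 1], 33), ([1, 1, -1, 0, 0, 0, -1, 1], 33), ([1, -1, -1, 1, 0, -1, 1, 0], 33), ([-1, 1, 0, 0, 0, -1, 1, 0], 33), ([-1, -1, 0, 1, -1, 1, 0, 0], 33), ([1, 0, 0, -1, 0, 1, 0, 0], 33), ([0, -1, 1, 0, 0, 0, 0, -1], 34), ([1, 1, -1, 0, 0, 0, 0, -1], 34), ([1, -1, -1, 1, 0, 0, -1, 1], 34), ([-1, 1, 0, 0, 0, 0, -1, 1], 34), ([-1, -1, 0, 1, 0, -1, 1, 0], 34), ([1, 0, 0, -1, 1, -1, 1, 0], 34), ([-1, 0, 1, -1, 0, 1, 0, 0], 34), ([1, -1, -1, 1, 0, 0, 0, -1], 35), ([-1, 1, 0, 0, 0, 0, 0, -1], 35), ([-1, -1, 0, 1, 0, 0, -1, 1], 35), ([1, 0, 0, -1, 1, 0, -1, 1], 35), ([-1, 0, 1, -1, 1, -1, 1, 0], 35), ([1, 0, 0, 0, -1, 0, 1, 0], 35), ([0, 0, -1, 0, 0, 1, 0,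 0], 35), ([-1, -1, 0, 1, 0, 0, 0, -1], 36), ([1, 0, 0, -1, 1, 0, 0, -1], 36), ([-1, 0, 1, -1, 1, 0, -1, 1], 36), ([1, 0, 0, 0, -1, 1, -1, 1], 36), ([0, 0, -1, 0, 1, -1, 1, 0], 36), ([-1, 0, 1, 0, -1, 0, 1, 0], 36), ([-1, 0, 1, -1, 1, 0, 0, -1], 37), ([1, 0, 0, 0, -1, 1, 0, -1], 37), ([0, 0, -1, 0, 1, 0, -1, 1], 37), ([-1, 0, 1, 0, -1, 1, -1, 1], 37)]

/-- Piece of an orbit certificate. -/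
def orbE8_7_6 : List (List ℤ × ℕ) :=
  [([1, 0, 0, 0, 0, -1, 0, 1], 37), ([0, 0, -1, 1, -1, 0, 1, 0], 37), ([0, 0, -1, 0, 1, 0, 0, -1], 38), ([-1, 0, 1, 0, -1, 1, 0, -1], 38), ([1, 0, 0, 0, 0, -1, 1, -1], 38), ([0, 0, -1, 1, -1, 1, -1, 1], 38), ([-1, 0, 1, 0, 0, -1, 0, 1], 38), ([0, 1, 0, -1, 0, 0, 1, 0], 38), ([0, 0, -1, 1, -1, 1, 0, -1], 39), ([-1, 0, 1, 0, 0, -1, 1, -1], 39), ([1, 0, 0, 0, 0, 0, -1, 0], 39), ([0, 1, 0, -1, 0, 1, -1, 1], 39), ([0, 0, -1, 1, 0, -1, 0, 1], 39), ([0, -1, 0, 0, 0, 0, 1, 0], 39), ([0, 1, 0, -1, 0, 1, 0, -1], 40), ([0, 0, -1, 1, 0, -1, 1, -1], 40), ([-1, 0, 1, 0, 0, 0, -1, 0], 40), ([0, -1, 0, 0, 0, 1, -1, 1], 40), ([0, 1, 0, -1, 1, -1, 0, 1], 40), ([0, -1, 0, 0, 0, 1, 0, -1], 41), ([0, 1, 0, -1, 1, -1, 1, -1], 41),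 ([0, 0, -1, 1, 0, 0, -1, 0], 41), ([0, -1, 0, 0, 1, -1, 0, 1], 41), ([0, 1, 0, 0, -1, 0, 0, 1], 41), ([0, -1, 0, 0, 1, -1, 1, -1], 42), ([0, 1, 0, 0, -1, 0, 1, -1], 42), ([0, 1, 0, -1, 1, 0, -1, 0], 42), ([0, -1, 0, 1, -1, 0, 0, 1], 42), ([0, -1, 0, 1, -1, 0, 1, -1], 43), ([0, -1, 0, 0, 1, 0, -1, 0], 43)]

/-- Piece of an orbit certificate. -/
def orbE8_7_7 : List (List ℤ × ℕ) :=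
  [([0, 1, 0, 0, -1, 1, -1, 0], 43), ([0, 0, 1, -1, 0, 0, 0, 1], 43), ([0, 0, 1, -1, 0, 0, 1, -1], 44), ([0, -1, 0, 1, -1, 1, -1, 0], 44), ([0, 1, 0, 0, 0, -1, 0, 0], 44), ([1, 0, -1, 0, 0, 0, 0, 1], 44), ([1, 0, -1, 0, 0, 0, 1, -1], 45), ([0, 0, 1, -1, 0, 1, -1, 0], 45), ([0, -1, 0, 1, 0, -1, 0, 0], 45), ([-1, 0, 0, 0, 0, 0, 0, 1], 45), ([-1, 0, 0, 0, 0, 0, 1, -1], 46), ([1, 0, -1, 0, 0, 1, -1, 0], 46), ([0, 0, 1, -1, 1, -1, 0, 0], 46), ([-1, 0, 0, 0, 0, 1, -1, 0], 47), ([1, 0, -1, 0, 1, -1, 0, 0], 47), ([0, 0, 1, 0, -1, 0, 0, 0], 47), ([-1, 0, 0, 0, 1, -1, 0, 0], 48), ([1, 0, -1, 1, -1, 0, 0, 0], 48), ([-1, 0, 0, 1, -1, 0, 0, 0], 49), ([1, 1, 0, -1, 0, 0, 0, 0], 49), ([-1, 1, 1, -1, 0, 0, 0, 0], 50), ([1, -1, 0, 0, 0, 0, 0, 0], 50), ([-1, -1,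 1, 0, 0, 0, 0, 0], 51), ([0, 1, -1, 0, 0, 0, 0, 0], 51), ([0, -1, -1, 1, 0, 0, 0, 0], 52), ([0, 0, 0, -1, 1, 0, 0, 0], 53), ([0, 0, 0, 0, -1, 1, 0, 0], 54), ([0, 0, 0, 0, 0, -1, 1, 0], 55), ([0, 0, 0, 0, 0, 0, -1, 1], 56), ([0, 0, 0, 0, 0, 0, 0, -1], 57)]

/-- Orbit certificate. -/
def orbE8_7 : List (List ℤ × ℕ) :=
  orbE8_7_0 ++ (orbE8_7_1 ++ (orbE8_7_2 ++ (orbE8_7_3 ++ (orbE8_7_4 ++ (orbE8_7_5 ++ (orbE8_7_6 ++ (orbE8_7_7)))))))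

theorem checkE8_7 : checkOrbit 8 cartanE8 [1, 1, 1, 1, 1, 1, 1, 1] 7 orbE8_7 = true := by decide +kernel

theorem sumE8_7 {R : Type*} [CommSemiring R] (q : R) :
    (orbE8_7.map fun p => q ^ p.2).sum = 1 + q ^ 1 + q ^ 2 + q ^ 3 + q ^ 4 + q ^ 5 + 2 * q ^ 6 + 2 * q ^ 7 + 2 * q ^ 8 + 2 * q ^ 9 + 3 * q ^ 10 + 3 * q ^ 11 + 4 * q ^ 12 + 4 * q ^ 13 + 4 * q ^ 14 + 4 * q ^ 15 + 5 * q ^ 16 + 5 * q ^ 17 + 6 * q ^ 18 + 6 * q ^ 19 + 6 * q ^ 20 + 6 * q ^ 21 + 7 * q ^ 22 + 7 * q ^ 23 + 7 * q ^ 24 + 7 * q ^ 25 + 7 * q ^ 26 + 7 * q ^ 27 + 8 * q ^ 28 + 8 * q ^ 29 + 7 * q ^ 30 + 7 * q ^ 31 + 7 * q ^ 32 + 7 * q ^ 33 + 7 * q ^ 34 + 7 * q ^ 35 + 6 * q ^ 36 + 6 * q ^ 37 + 6 * q ^ 38 + 6 * q ^ 39 + 5 * q ^ 40 + 5 * q ^ 41 + 4 * q ^ 42 + 4 * q ^ 43 + 4 * q ^ 44 + 4 *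 q ^ 45 + 3 * q ^ 46 + 3 * q ^ 47 + 2 * q ^ 48 + 2 * q ^ 49 + 2 * q ^ 50 + 2 * q ^ 51 + q ^ 52 + q ^ 53 + q ^ 54 + q ^ 55 + q ^ 56 + q ^ 57 := by
  simp only [orbE8_7, List.map_append, List.sum_append, orbE8_7_0, orbE8_7_1, orbE8_7_2, orbE8_7_3, orbE8_7_4, orbE8_7_5, orbE8_7_6, orbE8_7_7, List.map_cons, List.map_nil, List.sum_cons, List.sum_nil]
  ring

/-- The weighted Poincaré polynomial. -/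
def polyE8 {R : Type*} [CommSemiring R] (q : R) : R :=
  (1 + q ^ 1) *
      (1 + q ^ 1) *
      (1 + q ^ 1 + q ^ 2) *
      (1 + q ^ 1 + 2 * q ^ 2 + 2 * q ^ 3 + 2 * q ^ 4 + q ^ 5 + q ^ 6) *
      (1 + q ^ 1 + q ^ 2 + 2 * q ^ 3 + 2 * q ^ 4 + 2 * q ^ 5 + 2 * q ^ 6 + 2 * q ^ 7 + q ^ 8 + q ^ 9 + q ^ 10) *
      (1 + q ^ 1 + q ^ 2 + q ^ 3 + 2 * q ^ 4 + 2 * q ^ 5 + 2 * q ^ 6 + 2 * q ^ 7 + 3 * q ^ 8 + 2 * q ^ 9 + 2 * q ^ 10 + 2 * q ^ 11 + 2 * q ^ 12 + q ^ 13 + q ^ 14 + q ^ 15 + q ^ 16) *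
      (1 + q ^ 1 + q ^ 2 + q ^ 3 + q ^ 4 + 2 * q ^ 5 + 2 * q ^ 6 + 2 * q ^ 7 + 2 * q ^ 8 + 3 * q ^ 9 + 3 * q ^ 10 + 3 * q ^ 11 + 3 * q ^ 12 + 3 * q ^ 13 + 3 * q ^ 14 + 3 * q ^ 15 + 3 * q ^ 16 + 3 * q ^ 17 + 3 * q ^ 18 + 2 * q ^ 19 + 2 * q ^ 20 + 2 * q ^ 21 + 2 * q ^ 22 + q ^ 23 + q ^ 24 + q ^ 25 + q ^ 26 + q ^ 27) *
      (1 + q ^ 1 + q ^ 2 + q ^ 3 + q ^ 4 + q ^ 5 + 2 * q ^ 6 + 2 * q ^ 7 + 2 * q ^ 8 + 2 * q ^ 9 + 3 * q ^ 10 + 3 * q ^ 11 + 4 * q ^ 12 + 4 * q ^ 13 + 4 * q ^ 14 + 4 * q ^ 15 + 5 * q ^ 16 + 5 * q ^ 17 + 6 * q ^ 18 + 6 * q ^ 19 + 6 * q ^ 20 + 6 * q ^ 21 + 7 * q ^ 22 + 7 * q ^ 23 + 7 * q ^ 24 + 7 * q ^ 25 + 7 * q ^ 26 + 7 * q ^ 27 + 8 * q ^ 28 + 8 * q ^ 29 + 7 * q ^ 30 + 7 * q ^ 31 + 7 * q ^ 32 + 7 * q ^ 33 + 7 * q ^ 34 + 7 * q ^ 35 +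 6 * q ^ 36 + 6 * q ^ 37 + 6 * q ^ 38 + 6 * q ^ 39 + 5 * q ^ 40 + 5 * q ^ 41 + 4 * q ^ 42 + 4 * q ^ 43 + 4 * q ^ 44 + 4 * q ^ 45 + 3 * q ^ 46 + 3 * q ^ 47 + 2 * q ^ 48 + 2 * q ^ 49 + 2 * q ^ 50 + 2 * q ^ 51 + q ^ 52 + q ^ 53 + q ^ 54 + q ^ 55 + q ^ 56 + q ^ 57)

theorem hasParabolicSumE8 {W : Type*} [Group W] (cs : CoxeterSystem (CoxeterMatrix.E₈) W) {R : Type*} [CommSemiring R]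
    {q : R} {f : W → R} (hf : IsLengthMult cs q (fun i => [1, 1, 1, 1, 1, 1, 1, 1].getD i 0) f) :
    HasParabolicSum cs Set.univ f (polyE8 q) := by
  have h := (HasParabolicSum.step_list cs isCartanForE8 (by norm_num) _ checkE8_7 hf
    (HasParabolicSum.step_list cs isCartanForE8 (by norm_num) _ checkE8_6 hf
    (HasParabolicSum.step_list cs isCartanForE8 (by norm_num) _ checkE8_5 hf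
    (HasParabolicSum.step_list cs isCartanForE8 (by norm_num) _ checkE8_4 hf
    (HasParabolicSum.step_list cs isCartanForE8 (by norm_num) _ checkE8_3 hf
    (HasParabolicSum.step_list cs isCartanForE8 (by norm_num) _ checkE8_2 hf
    (HasParabolicSum.step_list cs isCartanForE8 (by norm_num) _ checkE8_1 hf
    (HasParabolicSum.step_list cs isCartanForE8 (by norm_num) _ checkE8_0 hf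
    (hasParabolicSum_zero cs hf.1))))))))).univ_of_lt
  rw [sumE8_0, sumE8_1, sumE8_2, sumE8_3, sumE8_4, sumE8_5, sumE8_6, sumE8_7] at h
  convert h using 1
  simp only [polyE8, mul_one]
  ac_rfl

theorem polyE8_eq {R : Type*} [CommRing R] (q : R) :
    (q - 1) ^ 8 * polyE8 q = (q ^ 2 - 1) * (q ^ 8 - 1) * (q ^ 12 - 1) * (q ^ 14 - 1) * (q ^ 18 - 1) * (q ^ 20 - 1) * (q ^ 24 - 1) * (q ^ 30 - 1) := by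
  simp only [polyE8]
  ring

end Cfsg.Agent.Chev
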