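import Mathlib
import Cfsg.Prelude.Def_ChevStructure
import Cfsg.Agent.Chev.CoxOrbit
import Cfsg.Agent.Chev.CoxCartan

set_option autoImplicit false

namespace Cfsg.Agent.Chev

/-- Orbit certificate. -/
def orbB2_0 : List (List ℤ × ℕ) :=
  [([1, 0], 0), ([-1, 2], 1)]

theorem checkB2_0 : checkOrbit 2 cartanB2 [1, 1] 0 orbB2_0 = true := by decide +kernel

theorem sumB2_0 {R : Type*} [CommSemiring R] (q : R) :
    (orbB2_0.map fun p => q ^ p.2).sum = 1 + q ^ 1 := by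
  simp only [orbB2_0, List.map_cons, List.map_nil, List.sum_cons, List.sum_nil]
  ring

/-- Orbit certificate. -/
def orbB2_1 : List (List ℤ × ℕ) :=
  [([0, 1], 0), ([1, -1], 1), ([-1, 1], 2), ([0, -1], 3)]

theorem checkB2_1 : checkOrbit 2 cartanB2 [1, 1] 1 orbB2_1 = true := by decide +kernel

theorem sumB2_1 {R : Type*} [CommSemiring R] (q : R) :
    (orbB2_1.map fun p => q ^ p.2).sum = 1 + q ^ 1 + q ^ 2 + q ^ 3 := by
  simp only [orbB2_1, List.map_cons, List.map_nil, List.sum_cons, List.sum_nil]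
  ring

/-- The weighted Poincaré polynomial. -/
def polyB2 {R : Type*} [CommSemiring R] (q : R) : R :=
  (1 + q ^ 1) *
      (1 + q ^ 1 + q ^ 2 + q ^ 3)

theorem hasParabolicSumB2 {W : Type*} [Group W] (cs : CoxeterSystem (CoxeterMatrix.B 2) W) {R : Type*} [CommSemiring R]
    {q : R} {f : W → R} (hf : IsLengthMult cs q (fun i => [1, 1].getD i 0) f) :
    HasParabolicSum cs Set.univ f (polyB2 q) := by
  have h := (HasParabolicSum.step_list cs isCartanForB2 (by norm_num) _ checkB2_1 hf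
    (HasParabolicSum.step_list cs isCartanForB2 (by norm_num) _ checkB2_0 hf
    (hasParabolicSum_zero cs hf.1))).univ_of_lt
  rw [sumB2_0, sumB2_1] at h
  convert h using 1
  simp only [polyB2, mul_one]
  ac_rfl

theorem polyB2_eq {R : Type*} [CommRing R] (q : R) :
    (q - 1) ^ 2 * polyB2 q = (q ^ 2 - 1) * (q ^ 4 - 1) := by
  simp only [polyB2]
  ring

/-- Orbit certificate. -/
def orbG2_0 : List (List ℤ × ℕ) :=
  [([1, 0], 0), ([-1, 3], 1)]

theorem checkG2_0 : checkOrbit 2 cartanG2 [1, 1] 0 orbG2_0 = true := by decide +kernel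

theorem sumG2_0 {R : Type*} [CommSemiring R] (q : R) :
    (orbG2_0.map fun p => q ^ p.2).sum = 1 + q ^ 1 := by
  simp only [orbG2_0, List.map_cons, List.map_nil, List.sum_cons, List.sum_nil]
  ring

/-- Orbit certificate. -/
def orbG2_1 : List (List ℤ × ℕ) :=
  [([0, 1], 0), ([1, -1], 1), ([-1, 2], 2), ([1, -2], 3), ([-1, 1], 4), ([0, -1], 5)]

theorem checkG2_1 : checkOrbit 2 cartanG2 [1, 1] 1 orbG2_1 = true := by decide +kernel

theorem sumG2_1 {R : Type*} [CommSemiring R] (q : R) :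
    (orbG2_1.map fun p => q ^ p.2).sum = 1 + q ^ 1 + q ^ 2 + q ^ 3 + q ^ 4 + q ^ 5 := by
  simp only [orbG2_1, List.map_cons, List.map_nil, List.sum_cons, List.sum_nil]
  ring

/-- The weighted Poincaré polynomial. -/
def polyG2 {R : Type*} [CommSemiring R] (q : R) : R :=
  (1 + q ^ 1) *
      (1 + q ^ 1 + q ^ 2 + q ^ 3 + q ^ 4 + q ^ 5)

theorem hasParabolicSumG2 {W : Type*} [Group W] (cs : CoxeterSystem (CoxeterMatrix.G₂) W) {R : Type*} [CommSemiring R]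
    {q : R} {f : W → R} (hf : IsLengthMult cs q (fun i => [1, 1].getD i 0) f) :
    HasParabolicSum cs Set.univ f (polyG2 q) := by
  have h := (HasParabolicSum.step_list cs isCartanForG2 (by norm_num) _ checkG2_1 hf
    (HasParabolicSum.step_list cs isCartanForG2 (by norm_num) _ checkG2_0 hf
    (hasParabolicSum_zero cs hf.1))).univ_of_lt
  rw [sumG2_0, sumG2_1] at h
  convert h using 1
  simp only [polyG2, mul_one]
  ac_rfl

theorem polyG2_eq {R : Type*} [CommRing R] (q : R) :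
    (q - 1) ^ 2 * polyG2 q = (q ^ 2 - 1) * (q ^ 6 - 1) := by
  simp only [polyG2]
  ring

/-- Orbit certificate. -/
def orbD4_0 : List (List ℤ × ℕ) :=
  [([1, 0, 0, 0], 0), ([-1, 1, 0, 0], 1)]

theorem checkD4_0 : checkOrbit 4 cartanD4 [1, 1, 1, 1] 0 orbD4_0 = true := by decide +kernel

theorem sumD4_0 {R : Type*} [CommSemiring R] (q : R) :
    (orbD4_0.map fun p => q ^ p.2).sum = 1 + q ^ 1 := by
  simp only [orbD4_0, List.map_cons, List.map_nil, List.sum_cons, List.sum_nil]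
  ring

/-- Orbit certificate. -/
def orbD4_1 : List (List ℤ × ℕ) :=
  [([0, 1, 0, 0], 0), ([1, -1, 1, 1], 1), ([-1, 0, 1, 1], 2)]

theorem checkD4_1 : checkOrbit 4 cartanD4 [1, 1, 1, 1] 1 orbD4_1 = true := by decide +kernel

theorem sumD4_1 {R : Type*} [CommSemiring R] (q : R) :
    (orbD4_1.map fun p => q ^ p.2).sum = 1 + q ^ 1 + q ^ 2 := by
  simp only [orbD4_1, List.map_cons, List.map_nil, List.sum_cons, List.sum_nil]
  ring

/-- Orbit certificate. -/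
def orbD4_2 : List (List ℤ × ℕ) :=
  [([0, 0, 1, 0], 0), ([0, 1, -1, 0], 1), ([1, -1, 0, 1], 2), ([-1, 0, 0, 1], 3)]

theorem checkD4_2 : checkOrbit 4 cartanD4 [1, 1, 1, 1] 2 orbD4_2 = true := by decide +kernel

theorem sumD4_2 {R : Type*} [CommSemiring R] (q : R) :
    (orbD4_2.map fun p => q ^ p.2).sum = 1 + q ^ 1 + q ^ 2 + q ^ 3 := by
  simp only [orbD4_2, List.map_cons, List.map_nil, List.sum_cons, List.sum_nil]
  ring

/-- Orbit certificate. -/
def orbD4_3 : List (List ℤ × ℕ) :=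
  [([0, 0, 0, 1], 0), ([0, 1, 0, -1], 1), ([1, -1, 1, 0], 2), ([-1, 0, 1, 0], 3), ([1, 0, -1, 0], 3), ([-1, 1, -1, 0], 4), ([0, -1, 0, 1], 5), ([0, 0, 0, -1], 6)]

theorem checkD4_3 : checkOrbit 4 cartanD4 [1, 1, 1, 1] 3 orbD4_3 = true := by decide +kernel

theorem sumD4_3 {R : Type*} [CommSemiring R] (q : R) :
    (orbD4_3.map fun p => q ^ p.2).sum = 1 + q ^ 1 + q ^ 2 + 2 * q ^ 3 + q ^ 4 + q ^ 5 + q ^ 6 := by
  simp only [orbD4_3, List.map_cons, List.map_nil, List.sum_cons, List.sum_nil]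
  ring

/-- The weighted Poincaré polynomial. -/
def polyD4 {R : Type*} [CommSemiring R] (q : R) : R :=
  (1 + q ^ 1) *
      (1 + q ^ 1 + q ^ 2) *
      (1 + q ^ 1 + q ^ 2 + q ^ 3) *
      (1 + q ^ 1 + q ^ 2 + 2 * q ^ 3 + q ^ 4 + q ^ 5 + q ^ 6)

theorem hasParabolicSumD4 {W : Type*} [Group W] (cs : CoxeterSystem (Cfsg.Lie.coxeterD4) W) {R : Type*} [CommSemiring R]
    {q : R} {f : W → R} (hf : IsLengthMult cs q (fun i => [1, 1, 1, 1].getD i 0) f) :
    HasParabolicSum cs Set.univ f (polyD4 q) := by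
  have h := (HasParabolicSum.step_list cs isCartanForD4 (by norm_num) _ checkD4_3 hf
    (HasParabolicSum.step_list cs isCartanForD4 (by norm_num) _ checkD4_2 hf
    (HasParabolicSum.step_list cs isCartanForD4 (by norm_num) _ checkD4_1 hf
    (HasParabolicSum.step_list cs isCartanForD4 (by norm_num) _ checkD4_0 hf
    (hasParabolicSum_zero cs hf.1))))).univ_of_lt
  rw [sumD4_0, sumD4_1, sumD4_2, sumD4_3] at h
  convert h using 1
  simp only [polyD4, mul_one]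
  ac_rfl

theorem polyD4_eq {R : Type*} [CommRing R] (q : R) :
    (q - 1) ^ 4 * polyD4 q = (q ^ 2 - 1) * (q ^ 4 - 1) * (q ^ 4 - 1) * (q ^ 6 - 1) := by
  simp only [polyD4]
  ring

/-- Orbit certificate. -/
def orbF4_0 : List (List ℤ × ℕ) :=
  [([1, 0, 0, 0], 0), ([-1, 1, 0, 0], 1)]

theorem checkF4_0 : checkOrbit 4 cartanF4 [1, 1, 1, 1] 0 orbF4_0 = true := by decide +kernel

theorem sumF4_0 {R : Type*} [CommSemiring R] (q : R) :
    (orbF4_0.map fun p => q ^ p.2).sum = 1 + q ^ 1 := by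
  simp only [orbF4_0, List.map_cons, List.map_nil, List.sum_cons, List.sum_nil]
  ring

/-- Orbit certificate. -/
def orbF4_1 : List (List ℤ × ℕ) :=
  [([0, 1, 0, 0], 0), ([1, -1, 2, 0], 1), ([-1, 0, 2, 0], 2)]

theorem checkF4_1 : checkOrbit 4 cartanF4 [1, 1, 1, 1] 1 orbF4_1 = true := by decide +kernel

theorem sumF4_1 {R : Type*} [CommSemiring R] (q : R) :
    (orbF4_1.map fun p => q ^ p.2).sum = 1 + q ^ 1 + q ^ 2 := by
  simp only [orbF4_1, List.map_cons, List.map_nil, List.sum_cons, List.sum_nil]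
  ring

/-- Orbit certificate. -/
def orbF4_2 : List (List ℤ × ℕ) :=
  [([0, 0, 1, 0], 0), ([0, 1, -1, 1], 1), ([1, -1, 1, 1], 2), ([-1, 0, 1, 1], 3), ([1, 0, -1, 2], 3), ([-1, 1, -1, 2], 4), ([0, -1, 1, 2], 5), ([0, 0, -1, 3], 6)]

theorem checkF4_2 : checkOrbit 4 cartanF4 [1, 1, 1, 1] 2 orbF4_2 = true := by decide +kernel

theorem sumF4_2 {R : Type*} [CommSemiring R] (q : R) :
    (orbF4_2.map fun p => q ^ p.2).sum = 1 + q ^ 1 + q ^ 2 + 2 * q ^ 3 + q ^ 4 + q ^ 5 + q ^ 6 := by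
  simp only [orbF4_2, List.map_cons, List.map_nil, List.sum_cons, List.sum_nil]
  ring

/-- Orbit certificate. -/
def orbF4_3 : List (List ℤ × ℕ) :=
  [([0, 0, 0, 1], 0), ([0, 0, 1, -1], 1), ([0, 1, -1, 0], 2), ([1, -1, 1, 0], 3), ([-1, 0, 1, 0], 4), ([1, 0, -1, 1], 4), ([-1, 1, -1, 1], 5), ([1, 0, 0, -1], 5), ([0, -1, 1, 1], 6), ([-1, 1, 0, -1], 6), ([0, 0, -1, 2], 7), ([0, -1, 2, -1], 7), ([0, 0, 1, -2], 8), ([0, 1, -2, 1], 8), ([0, 1, -1, -1], 9), ([1, -1, 0, 1], 9), ([1, -1, 1, -1], 10), ([-1, 0, 0, 1], 10), ([-1, 0, 1, -1], 11), ([1, 0, -1, 0], 11), ([-1, 1, -1, 0], 12), ([0, -1, 1, 0], 13), ([0, 0, -1, 1], 14), ([0, 0, 0, -1], 15)]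

theorem checkF4_3 : checkOrbit 4 cartanF4 [1, 1, 1, 1] 3 orbF4_3 = true := by decide +kernel

theorem sumF4_3 {R : Type*} [CommSemiring R] (q : R) :
    (orbF4_3.map fun p => q ^ p.2).sum = 1 + q ^ 1 + q ^ 2 + q ^ 3 + 2 * q ^ 4 + 2 * q ^ 5 + 2 * q ^ 6 + 2 * q ^ 7 + 2 * q ^ 8 + 2 * q ^ 9 + 2 * q ^ 10 + 2 * q ^ 11 + q ^ 12 + q ^ 13 + q ^ 14 + q ^ 15 := by
  simp only [orbF4_3, List.map_cons, List.map_nil, List.sum_cons, List.sum_nil]
  ring

/-- The weighted Poincaré polynomial. -/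
def polyF4 {R : Type*} [CommSemiring R] (q : R) : R :=
  (1 + q ^ 1) *
      (1 + q ^ 1 + q ^ 2) *
      (1 + q ^ 1 + q ^ 2 + 2 * q ^ 3 + q ^ 4 + q ^ 5 + q ^ 6) *
      (1 + q ^ 1 + q ^ 2 + q ^ 3 + 2 * q ^ 4 + 2 * q ^ 5 + 2 * q ^ 6 + 2 * q ^ 7 + 2 * q ^ 8 + 2 * q ^ 9 + 2 * q ^ 10 + 2 * q ^ 11 + q ^ 12 + q ^ 13 + q ^ 14 + q ^ 15)

theorem hasParabolicSumF4 {W : Type*} [Group W] (cs : CoxeterSystem (CoxeterMatrix.F₄) W) {R : Type*} [CommSemiring R]
    {q : R} {f : W → R} (hf : IsLengthMult cs q (fun i => [1, 1, 1, 1].getD i 0) f) :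
    HasParabolicSum cs Set.univ f (polyF4 q) := by
  have h := (HasParabolicSum.step_list cs isCartanForF4 (by norm_num) _ checkF4_3 hf
    (HasParabolicSum.step_list cs isCartanForF4 (by norm_num) _ checkF4_2 hf
    (HasParabolicSum.step_list cs isCartanForF4 (by norm_num) _ checkF4_1 hf
    (HasParabolicSum.step_list cs isCartanForF4 (by norm_num) _ checkF4_0 hf
    (hasParabolicSum_zero cs hf.1))))).univ_of_lt
  rw [sumF4_0, sumF4_1, sumF4_2, sumF4_3] at h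
  convert h using 1
  simp only [polyF4, mul_one]
  ac_rfl

theorem polyF4_eq {R : Type*} [CommRing R] (q : R) :
    (q - 1) ^ 4 * polyF4 q = (q ^ 2 - 1) * (q ^ 6 - 1) * (q ^ 8 - 1) * (q ^ 12 - 1) := by
  simp only [polyF4]
  ring

end Cfsg.Agent.Chev
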