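import Mathlib
import Cfsg.Prelude.Def_ChevStructure
import Cfsg.Agent.Chev.CoxOrbit
import Cfsg.Agent.Chev.CoxCartan

set_option autoImplicit false

namespace Cfsg.Agent.Chev

/-- Orbit certificate. -/
def orbF4a_0 : List (List ℤ × ℕ) :=
  [([1, 0, 0, 0], 0), ([-1, 1, 0, 0], 1)]

theorem checkF4a_0 : checkOrbit 4 cartanF4 [1, 1, 2, 2] 0 orbF4a_0 = true := by decide +kernel

theorem sumF4a_0 {R : Type*} [CommSemiring R] (q : R) :
    (orbF4a_0.map fun p => q ^ p.2).sum = 1 + q ^ 1 := by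
  simp only [orbF4a_0, List.map_cons, List.map_nil, List.sum_cons, List.sum_nil]
  ring

/-- Orbit certificate. -/
def orbF4a_1 : List (List ℤ × ℕ) :=
  [([0, 1, 0, 0], 0), ([1, -1, 2, 0], 1), ([-1, 0, 2, 0], 2)]

theorem checkF4a_1 : checkOrbit 4 cartanF4 [1, 1, 2, 2] 1 orbF4a_1 = true := by decide +kernel

theorem sumF4a_1 {R : Type*} [CommSemiring R] (q : R) :
    (orbF4a_1.map fun p => q ^ p.2).sum = 1 + q ^ 1 + q ^ 2 := by
  simp only [orbF4a_1, List.map_cons, List.map_nil, List.sum_cons, List.sum_nil]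
  ring

/-- Orbit certificate. -/
def orbF4a_2 : List (List ℤ × ℕ) :=
  [([0, 0, 1, 0], 0), ([0, 1, -1, 1], 2), ([1, -1, 1, 1], 3), ([-1, 0, 1, 1], 4), ([1, 0, -1, 2], 5), ([-1, 1, -1, 2], 6), ([0, -1, 1, 2], 7), ([0, 0, -1, 3], 9)]

theorem checkF4a_2 : checkOrbit 4 cartanF4 [1, 1, 2, 2] 2 orbF4a_2 = true := by decide +kernel

theorem sumF4a_2 {R : Type*} [CommSemiring R] (q : R) :
    (orbF4a_2.map fun p => q ^ p.2).sum = 1 + q ^ 2 + q ^ 3 + q ^ 4 + q ^ 5 + q ^ 6 + q ^ 7 + q ^ 9 := by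
  simp only [orbF4a_2, List.map_cons, List.map_nil, List.sum_cons, List.sum_nil]
  ring

/-- Orbit certificate. -/
def orbF4a_3 : List (List ℤ × ℕ) :=
  [([0, 0, 0, 1], 0), ([0, 0, 1, -1], 2), ([0, 1, -1, 0], 4), ([1, -1, 1, 0], 5), ([-1, 0, 1, 0], 6), ([1, 0, -1, 1], 7), ([-1, 1, -1, 1], 8), ([1, 0, 0, -1], 9), ([0, -1, 1, 1], 9), ([-1, 1, 0, -1], 10), ([0, 0, -1, 2], 11), ([0, -1, 2, -1], 11), ([0, 0, 1, -2], 13), ([0, 1, -2, 1], 13), ([0, 1, -1, -1], 15), ([1, -1, 0, 1], 14), ([1, -1, 1, -1], 16), ([-1, 0, 0, 1], 15), ([-1, 0, 1, -1], 17), ([1, 0, -1, 0], 18), ([-1, 1, -1, 0], 19), ([0, -1, 1, 0], 20), ([0, 0, -1, 1], 22), ([0, 0, 0, -1], 24)]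

theorem checkF4a_3 : checkOrbit 4 cartanF4 [1, 1, 2, 2] 3 orbF4a_3 = true := by decide +kernel

theorem sumF4a_3 {R : Type*} [CommSemiring R] (q : R) :
    (orbF4a_3.map fun p => q ^ p.2).sum = 1 + q ^ 2 + q ^ 4 + q ^ 5 + q ^ 6 + q ^ 7 + q ^ 8 + 2 * q ^ 9 + q ^ 10 + 2 * q ^ 11 + 2 * q ^ 13 + q ^ 14 + 2 * q ^ 15 + q ^ 16 + q ^ 17 + q ^ 18 + q ^ 19 + q ^ 20 + q ^ 22 + q ^ 24 := by
  simp only [orbF4a_3, List.map_cons, List.map_nil, List.sum_cons, List.sum_nil]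
  ring

/-- The weighted Poincaré polynomial. -/
def polyF4a {R : Type*} [CommSemiring R] (q : R) : R :=
  (1 + q ^ 1) *
      (1 + q ^ 1 + q ^ 2) *
      (1 + q ^ 2 + q ^ 3 + q ^ 4 + q ^ 5 + q ^ 6 + q ^ 7 + q ^ 9) *
      (1 + q ^ 2 + q ^ 4 + q ^ 5 + q ^ 6 + q ^ 7 + q ^ 8 + 2 * q ^ 9 + q ^ 10 + 2 * q ^ 11 + 2 * q ^ 13 + q ^ 14 + 2 * q ^ 15 + q ^ 16 + q ^ 17 + q ^ 18 + q ^ 19 + q ^ 20 + q ^ 22 + q ^ 24)

theorem hasParabolicSumF4a {W : Type*} [Group W] (cs : CoxeterSystem (CoxeterMatrix.F₄) W) {R : Type*} [CommSemiring R]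
    {q : R} {f : W → R} (hf : IsLengthMult cs q (fun i => [1, 1, 2, 2].getD i 0) f) :
    HasParabolicSum cs Set.univ f (polyF4a q) := by
  have h := (HasParabolicSum.step_list cs isCartanForF4 (by norm_num) _ checkF4a_3 hf
    (HasParabolicSum.step_list cs isCartanForF4 (by norm_num) _ checkF4a_2 hf
    (HasParabolicSum.step_list cs isCartanForF4 (by norm_num) _ checkF4a_1 hf
    (HasParabolicSum.step_list cs isCartanForF4 (by norm_num) _ checkF4a_0 hf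
    (hasParabolicSum_zero cs hf.1))))).univ_of_lt
  rw [sumF4a_0, sumF4a_1, sumF4a_2, sumF4a_3] at h
  convert h using 1
  simp only [polyF4a, mul_one]
  ac_rfl

theorem polyF4a_eq {R : Type*} [CommRing R] (q : R) :
    ((q - 1) ^ 4 * (q + 1) ^ 2) * polyF4a q = (q ^ 2 - 1) * (q ^ 5 + 1) * (q ^ 6 - 1) * (q ^ 8 - 1) * (q ^ 9 + 1) * (q ^ 12 - 1) := by
  simp only [polyF4a]
  ring

/-- Orbit certificate. -/
def orbF4b_0 : List (List ℤ × ℕ) :=
  [([1, 0, 0, 0], 0), ([-1, 1, 0, 0], 2)]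

theorem checkF4b_0 : checkOrbit 4 cartanF4 [2, 2, 1, 1] 0 orbF4b_0 = true := by decide +kernel

theorem sumF4b_0 {R : Type*} [CommSemiring R] (q : R) :
    (orbF4b_0.map fun p => q ^ p.2).sum = 1 + q ^ 2 := by
  simp only [orbF4b_0, List.map_cons, List.map_nil, List.sum_cons, List.sum_nil]
  ring

/-- Orbit certificate. -/
def orbF4b_1 : List (List ℤ × ℕ) :=
  [([0, 1, 0, 0], 0), ([1, -1, 2, 0], 2), ([-1, 0, 2, 0], 4)]

theorem checkF4b_1 : checkOrbit 4 cartanF4 [2, 2, 1, 1] 1 orbF4b_1 = true := by decide +kernel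

theorem sumF4b_1 {R : Type*} [CommSemiring R] (q : R) :
    (orbF4b_1.map fun p => q ^ p.2).sum = 1 + q ^ 2 + q ^ 4 := by
  simp only [orbF4b_1, List.map_cons, List.map_nil, List.sum_cons, List.sum_nil]
  ring

/-- Orbit certificate. -/
def orbF4b_2 : List (List ℤ × ℕ) :=
  [([0, 0, 1, 0], 0), ([0, 1, -1, 1], 1), ([1, -1, 1, 1], 3), ([-1, 0, 1, 1], 5), ([1, 0, -1, 2], 4), ([-1, 1, -1, 2], 6), ([0, -1, 1, 2], 8), ([0, 0, -1, 3], 9)]

theorem checkF4b_2 : checkOrbit 4 cartanF4 [2, 2, 1, 1] 2 orbF4b_2 = true := by decide +kernel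

theorem sumF4b_2 {R : Type*} [CommSemiring R] (q : R) :
    (orbF4b_2.map fun p => q ^ p.2).sum = 1 + q ^ 1 + q ^ 3 + q ^ 4 + q ^ 5 + q ^ 6 + q ^ 8 + q ^ 9 := by
  simp only [orbF4b_2, List.map_cons, List.map_nil, List.sum_cons, List.sum_nil]
  ring

/-- Orbit certificate. -/
def orbF4b_3 : List (List ℤ × ℕ) :=
  [([0, 0, 0, 1], 0), ([0, 0, 1, -1], 1), ([0, 1, -1, 0], 2), ([1, -1, 1, 0], 4), ([-1, 0, 1, 0], 6), ([1, 0, -1, 1], 5), ([-1, 1, -1, 1], 7), ([1, 0, 0, -1], 6), ([0, -1, 1, 1], 9), ([-1, 1, 0, -1], 8), ([0, 0, -1, 2], 10), ([0, -1, 2, -1], 10), ([0, 0, 1, -2], 11), ([0, 1, -2, 1], 11), ([0, 1, -1, -1], 12), ([1, -1, 0, 1], 13), ([1, -1, 1, -1], 14), ([-1, 0, 0, 1], 15), ([-1, 0, 1, -1], 16), ([1, 0, -1, 0], 15), ([-1, 1, -1, 0], 17), ([0, -1, 1, 0], 19), ([0, 0, -1, 1], 20), ([0, 0, 0, -1], 21)]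

theorem checkF4b_3 : checkOrbit 4 cartanF4 [2, 2, 1, 1] 3 orbF4b_3 = true := by decide +kernel

theorem sumF4b_3 {R : Type*} [CommSemiring R] (q : R) :
    (orbF4b_3.map fun p => q ^ p.2).sum = 1 + q ^ 1 + q ^ 2 + q ^ 4 + q ^ 5 + 2 * q ^ 6 + q ^ 7 + q ^ 8 + q ^ 9 + 2 * q ^ 10 + 2 * q ^ 11 + q ^ 12 + q ^ 13 + q ^ 14 + 2 * q ^ 15 + q ^ 16 + q ^ 17 + q ^ 19 + q ^ 20 + q ^ 21 := by
  simp only [orbF4b_3, List.map_cons, List.map_nil, List.sum_cons, List.sum_nil]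
  ring

/-- The weighted Poincaré polynomial. -/
def polyF4b {R : Type*} [CommSemiring R] (q : R) : R :=
  (1 + q ^ 2) *
      (1 + q ^ 2 + q ^ 4) *
      (1 + q ^ 1 + q ^ 3 + q ^ 4 + q ^ 5 + q ^ 6 + q ^ 8 + q ^ 9) *
      (1 + q ^ 1 + q ^ 2 + q ^ 4 + q ^ 5 + 2 * q ^ 6 + q ^ 7 + q ^ 8 + q ^ 9 + 2 * q ^ 10 + 2 * q ^ 11 + q ^ 12 + q ^ 13 + q ^ 14 + 2 * q ^ 15 + q ^ 16 + q ^ 17 + q ^ 19 + q ^ 20 + q ^ 21)

theorem hasParabolicSumF4b {W : Type*} [Group W] (cs : CoxeterSystem (CoxeterMatrix.F₄) W) {R : Type*} [CommSemiring R]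
    {q : R} {f : W → R} (hf : IsLengthMult cs q (fun i => [2, 2, 1, 1].getD i 0) f) :
    HasParabolicSum cs Set.univ f (polyF4b q) := by
  have h := (HasParabolicSum.step_list cs isCartanForF4 (by norm_num) _ checkF4b_3 hf
    (HasParabolicSum.step_list cs isCartanForF4 (by norm_num) _ checkF4b_2 hf
    (HasParabolicSum.step_list cs isCartanForF4 (by norm_num) _ checkF4b_1 hf
    (HasParabolicSum.step_list cs isCartanForF4 (by norm_num) _ checkF4b_0 hf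
    (hasParabolicSum_zero cs hf.1))))).univ_of_lt
  rw [sumF4b_0, sumF4b_1, sumF4b_2, sumF4b_3] at h
  convert h using 1
  simp only [polyF4b, mul_one]
  ac_rfl

theorem polyF4b_eq {R : Type*} [CommRing R] (q : R) :
    ((q - 1) ^ 4 * (q + 1) ^ 2) * polyF4b q = (q ^ 2 - 1) * (q ^ 5 + 1) * (q ^ 6 - 1) * (q ^ 8 - 1) * (q ^ 9 + 1) * (q ^ 12 - 1) := by
  simp only [polyF4b]
  ring

/-- Orbit certificate. -/
def orbG2a_0 : List (List ℤ × ℕ) :=
  [([1, 0], 0), ([-1, 3], 3)]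

theorem checkG2a_0 : checkOrbit 2 cartanG2 [3, 1] 0 orbG2a_0 = true := by decide +kernel

theorem sumG2a_0 {R : Type*} [CommSemiring R] (q : R) :
    (orbG2a_0.map fun p => q ^ p.2).sum = 1 + q ^ 3 := by
  simp only [orbG2a_0, List.map_cons, List.map_nil, List.sum_cons, List.sum_nil]
  ring

/-- Orbit certificate. -/
def orbG2a_1 : List (List ℤ × ℕ) :=
  [([0, 1], 0), ([1, -1], 1), ([-1, 2], 4), ([1, -2], 5), ([-1, 1], 8), ([0, -1], 9)]

theorem checkG2a_1 : checkOrbit 2 cartanG2 [3, 1] 1 orbG2a_1 = true := by decide +kernel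

theorem sumG2a_1 {R : Type*} [CommSemiring R] (q : R) :
    (orbG2a_1.map fun p => q ^ p.2).sum = 1 + q ^ 1 + q ^ 4 + q ^ 5 + q ^ 8 + q ^ 9 := by
  simp only [orbG2a_1, List.map_cons, List.map_nil, List.sum_cons, List.sum_nil]
  ring

/-- The weighted Poincaré polynomial. -/
def polyG2a {R : Type*} [CommSemiring R] (q : R) : R :=
  (1 + q ^ 3) *
      (1 + q ^ 1 + q ^ 4 + q ^ 5 + q ^ 8 + q ^ 9)

theorem hasParabolicSumG2a {W : Type*} [Group W] (cs : CoxeterSystem (CoxeterMatrix.G₂) W) {R : Type*} [CommSemiring R]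
    {q : R} {f : W → R} (hf : IsLengthMult cs q (fun i => [3, 1].getD i 0) f) :
    HasParabolicSum cs Set.univ f (polyG2a q) := by
  have h := (HasParabolicSum.step_list cs isCartanForG2 (by norm_num) _ checkG2a_1 hf
    (HasParabolicSum.step_list cs isCartanForG2 (by norm_num) _ checkG2a_0 hf
    (hasParabolicSum_zero cs hf.1))).univ_of_lt
  rw [sumG2a_0, sumG2a_1] at h
  convert h using 1
  simp only [polyG2a, mul_one]
  ac_rfl

theorem polyG2a_eq {R : Type*} [CommRing R] (q : R) :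
    ((q - 1) ^ 2 * (q ^ 2 + q + 1)) * polyG2a q = (q ^ 2 - 1) * (q ^ 6 - 1) * (q ^ 8 + q ^ 4 + 1) := by
  simp only [polyG2a]
  ring

/-- Orbit certificate. -/
def orbG2b_0 : List (List ℤ × ℕ) :=
  [([1, 0], 0), ([-1, 3], 1)]

theorem checkG2b_0 : checkOrbit 2 cartanG2 [1, 3] 0 orbG2b_0 = true := by decide +kernel

theorem sumG2b_0 {R : Type*} [CommSemiring R] (q : R) :
    (orbG2b_0.map fun p => q ^ p.2).sum = 1 + q ^ 1 := by
  simp only [orbG2b_0, List.map_cons, List.map_nil, List.sum_cons, List.sum_nil]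
  ring

/-- Orbit certificate. -/
def orbG2b_1 : List (List ℤ × ℕ) :=
  [([0, 1], 0), ([1, -1], 3), ([-1, 2], 4), ([1, -2], 7), ([-1, 1], 8), ([0, -1], 11)]

theorem checkG2b_1 : checkOrbit 2 cartanG2 [1, 3] 1 orbG2b_1 = true := by decide +kernel

theorem sumG2b_1 {R : Type*} [CommSemiring R] (q : R) :
    (orbG2b_1.map fun p => q ^ p.2).sum = 1 + q ^ 3 + q ^ 4 + q ^ 7 + q ^ 8 + q ^ 11 := by
  simp only [orbG2b_1, List.map_cons, List.map_nil, List.sum_cons, List.sum_nil]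
  ring

/-- The weighted Poincaré polynomial. -/
def polyG2b {R : Type*} [CommSemiring R] (q : R) : R :=
  (1 + q ^ 1) *
      (1 + q ^ 3 + q ^ 4 + q ^ 7 + q ^ 8 + q ^ 11)

theorem hasParabolicSumG2b {W : Type*} [Group W] (cs : CoxeterSystem (CoxeterMatrix.G₂) W) {R : Type*} [CommSemiring R]
    {q : R} {f : W → R} (hf : IsLengthMult cs q (fun i => [1, 3].getD i 0) f) :
    HasParabolicSum cs Set.univ f (polyG2b q) := by
  have h := (HasParabolicSum.step_list cs isCartanForG2 (by norm_num) _ checkG2b_1 hf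
    (HasParabolicSum.step_list cs isCartanForG2 (by norm_num) _ checkG2b_0 hf
    (hasParabolicSum_zero cs hf.1))).univ_of_lt
  rw [sumG2b_0, sumG2b_1] at h
  convert h using 1
  simp only [polyG2b, mul_one]
  ac_rfl

theorem polyG2b_eq {R : Type*} [CommRing R] (q : R) :
    ((q - 1) ^ 2 * (q ^ 2 + q + 1)) * polyG2b q = (q ^ 2 - 1) * (q ^ 6 - 1) * (q ^ 8 + q ^ 4 + 1) := by
  simp only [polyG2b]
  ring

end Cfsg.Agent.Chev
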