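import Mathlib
import Cfsg.Agent.Chev.TwistHom
import Cfsg.Prelude.Def_ChevB2
import Cfsg.Prelude.Def_LieTwisted

/-!
The tables of the graph automorphisms, checked against the commutator relations.
-/

set_option autoImplicit false

namespace Cfsg.Agent.Chev

open Cfsg.Lie

theorem isTwist_of_all {D : ChevalleyDatum} {ρ : ℕ → ℕ} {ε : ℕ → ℤ} {e : ℕ → ℕ} {p : ℤ}
    (h : (List.range D.nroots).all (twRoot D ρ ε e p) = true) : IsTwist D ρ ε e p :=
  ⟨fun r hr => List.all_eq_true.1 h r (List.mem_range.2 hr)⟩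

/-- The permutation of the roots induced by a symmetry of the diagram. -/
def rhoLE6 : List ℕ :=
  [0, 1, 2, 5, 16, 3, 6, 17, 8, 19, 22, 11, 26, 30, 33, 35, 4, 7, 18, 9, 20, 23, 10, 21] ++
    [24, 25, 12, 27, 31, 34, 13, 28, 32, 14, 29, 15, 56, 42, 57, 39, 43, 58, 37, 40, 44, 59, 46, 47] ++
    [50, 61, 48, 51, 62, 53, 64, 67, 36, 38, 41, 45, 60, 49, 52, 63, 54, 65, 68, 55, 66, 69, 70, 71]

/-- The signs of the graph automorphism. -/
def epsLE6 : List ℤ :=
  [1, 1, 1, 1, -1, 1, 1, -1, 1, -1, -1, 1, -1, 1, -1, 1, -1, -1, 1, -1, 1, 1, -1, 1] ++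
    [1, 1, -1, 1, -1, 1, 1, -1, 1, -1, 1, 1, 1, 1, -1, 1, -1, 1, 1, -1, 1, -1, 1, 1] ++
    [1, -1, 1, 1, -1, 1, -1, -1, 1, -1, 1, -1, 1, -1, -1, 1, -1, 1, 1, -1, 1, 1, 1, 1]

/-- The permutation of the roots induced by a symmetry of the diagram. -/
def rhoE6 (r : ℕ) : ℕ := rhoLE6.getD r 0

/-- The signs of the graph automorphism. -/
def epsE6 (r : ℕ) : ℤ := epsLE6.getD r 1

theorem isTwistE6 : IsTwist chevE6 rhoE6 epsE6 (fun _ => 1) 0 := isTwist_of_all (by decide +kernel)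

/-- The permutation of the roots induced by a symmetry of the diagram. -/
def rhoLD4 : List ℕ :=
  [0, 1, 6, 2, 7, 10, 3, 8, 4, 9, 11, 5, 18, 12, 14, 19, 15, 20, 13, 16, 21, 17, 22, 23]

/-- The signs of the graph automorphism. -/
def epsLD4 : List ℤ :=
  [1, 1, -1, 1, -1, 1, -1, 1, -1, 1, 1, 1, 1, 1, 1, -1, 1, -1, 1, -1, 1, -1, 1, 1]

/-- The permutation of the roots induced by a symmetry of the diagram. -/
def rhoD4 (r : ℕ) : ℕ := rhoLD4.getD r 0

/-- The signs of the graph automorphism. -/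
def epsD4 (r : ℕ) : ℤ := epsLD4.getD r 1

theorem isTwistD4 : IsTwist chevD4 rhoD4 epsD4 (fun _ => 1) 0 := isTwist_of_all (by decide +kernel)

/-- The permutation of the roots induced by a symmetry of the diagram. -/
def rhoLD4i : List ℕ :=
  [0, 1, 3, 6, 8, 11, 2, 4, 7, 9, 5, 10, 13, 18, 14, 16, 19, 21, 12, 15, 17, 20, 22, 23]

/-- The signs of the graph automorphism. -/
def epsLD4i : List ℤ :=
  [1, 1, 1, -1, -1, 1, -1, -1, 1, 1, 1, 1, 1, 1, 1, 1, -1, -1, 1, -1, -1, 1, 1, 1]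

/-- The permutation of the roots induced by a symmetry of the diagram. -/
def rhoD4i (r : ℕ) : ℕ := rhoLD4i.getD r 0

/-- The signs of the graph automorphism. -/
def epsD4i (r : ℕ) : ℤ := epsLD4i.getD r 1

theorem isTwistD4i : IsTwist chevD4 rhoD4i epsD4i (fun _ => 1) 0 := isTwist_of_all (by decide +kernel)

/-- The permutation of the roots exchanging long and short roots. -/
def rhoLB2 : List ℕ :=
  [1, 0, 3, 2, 5, 4, 7, 6]

/-- The exponents of the graph endomorphism. -/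
def expLB2 : List ℕ :=
  [1, 2, 2, 1, 1, 2, 2, 1]

/-- The permutation of the roots exchanging long and short roots. -/
def rhoB2 (r : ℕ) : ℕ := rhoLB2.getD r 0

/-- The exponents of the graph endomorphism. -/
def expB2 (r : ℕ) : ℕ := expLB2.getD r 1

theorem isTwistB2 : IsTwist chevB2 rhoB2 (fun _ => 1) expB2 2 := isTwist_of_all (by decide +kernel)

/-- The permutation of the roots exchanging long and short roots. -/
def rhoLF4 : List ℕ :=
  [3, 7, 8, 0, 9, 11, 18, 1, 2, 4, 15, 5, 16, 21, 23, 10, 12, 19, 6, 17, 22, 13, 20, 14] ++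
    [33, 27, 34, 25, 30, 41, 28, 35, 37, 24, 26, 31, 42, 32, 43, 45, 46, 29, 36, 38, 47, 39, 40, 44]

/-- The exponents of the graph endomorphism. -/
def expLF4 : List ℕ :=
  [1, 1, 1, 2, 1, 1, 1, 2, 2, 2, 2, 2, 2, 2, 2, 1, 1, 1, 2, 2, 2, 1, 1, 1] ++
    [1, 1, 1, 2, 2, 2, 1, 1, 1, 2, 2, 2, 2, 2, 2, 2, 2, 1, 1, 1, 2, 1, 1, 1]

/-- The permutation of the roots exchanging long and short roots. -/
def rhoF4 (r : ℕ) : ℕ := rhoLF4.getD r 0

/-- The exponents of the graph endomorphism. -/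
def expF4 (r : ℕ) : ℕ := expLF4.getD r 1

theorem isTwistF4 : IsTwist chevF4 rhoF4 (fun _ => 1) expF4 2 := isTwist_of_all (by decide +kernel)

/-- The permutation of the roots exchanging long and short roots. -/
def rhoLG2 : List ℕ :=
  [2, 3, 0, 1, 5, 4, 7, 6, 10, 11, 8, 9]

/-- The exponents of the graph endomorphism. -/
def expLG2 : List ℕ :=
  [1, 1, 3, 3, 3, 1, 1, 3, 3, 3, 1, 1]

/-- The permutation of the roots exchanging long and short roots. -/
def rhoG2 (r : ℕ) : ℕ := rhoLG2.getD r 0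

/-- The exponents of the graph endomorphism. -/
def expG2 (r : ℕ) : ℕ := expLG2.getD r 1

theorem isTwistG2 : IsTwist chevG2 rhoG2 (fun _ => 1) expG2 3 := isTwist_of_all (by decide +kernel)

end Cfsg.Agent.Chev
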