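import Mathlib
import Cfsg.Agent.Chev.AutThm

/-!
The symmetries of the seven Dynkin diagrams, and the graph automorphisms in types `D₄`, `E₆`.
-/

set_option autoImplicit false
set_option linter.unusedSectionVars false
set_option synthInstance.maxSize 100000
set_option synthInstance.maxHeartbeats 2000000

namespace Cfsg.Agent.Chev

open Cfsg.Lie

attribute [local instance] goodG2 goodB2 goodD4 goodF4 goodE6 goodE7 goodE8

/-- The interchange of the two nodes of `G₂`. -/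
def swapG2 : Equiv.Perm (Fin chevG2.rank) := (⟨![1, 0], ![1, 0], by decide, by decide⟩ : Equiv.Perm (Fin 2))
/-- The interchange of the two nodes of `B₂`. -/
def swapB2 : Equiv.Perm (Fin chevB2.rank) := (⟨![1, 0], ![1, 0], by decide, by decide⟩ : Equiv.Perm (Fin 2))
/-- The reversal of the diagram of `F₄`. -/
def revF4 : Equiv.Perm (Fin chevF4.rank) :=
  (⟨![3, 2, 1, 0], ![3, 2, 1, 0], by decide, by decide⟩ : Equiv.Perm (Fin 4))
/-- The symmetry of the diagram of `E₆`. -/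
def flipE6 : Equiv.Perm (Fin chevE6.rank) :=
  (⟨![5, 1, 4, 3, 2, 0], ![5, 1, 4, 3, 2, 0], by decide, by decide⟩ : Equiv.Perm (Fin 6))
/-- A symmetry of order 3 of the diagram of `D₄`. -/
def rotD4 : Equiv.Perm (Fin chevD4.rank) :=
  (⟨![2, 1, 3, 0], ![3, 1, 0, 2], by decide, by decide⟩ : Equiv.Perm (Fin 4))
/-- A symmetry of order 2 of the diagram of `D₄`. -/
def swapD4 : Equiv.Perm (Fin chevD4.rank) :=
  (⟨![2, 1, 0, 3], ![2, 1, 0, 3], by decide, by decide⟩ : Equiv.Perm (Fin 4))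

theorem sym_G2 : ∀ π, chevG2.IsDiagramSymmetry π → π = 1 ∨ π = swapG2 := by decide +kernel
theorem sym_B2 : ∀ π, chevB2.IsDiagramSymmetry π → π = 1 ∨ π = swapB2 := by decide +kernel
theorem sym_F4 : ∀ π, chevF4.IsDiagramSymmetry π → π = 1 ∨ π = revF4 := by decide +kernel
theorem sym_D4 : ∀ π, chevD4.IsDiagramSymmetry π → π = 1 ∨ π = rotD4 ∨ π = rotD4 * rotD4 ∨
    π = swapD4 ∨ π = swapD4 * rotD4 ∨ π = swapD4 * rotD4 * rotD4 := by decide +kernel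
theorem isSym_swapG2 : chevG2.IsDiagramSymmetry swapG2 := by decide +kernel
theorem isSym_swapB2 : chevB2.IsDiagramSymmetry swapB2 := by decide +kernel
theorem isSym_revF4 : chevF4.IsDiagramSymmetry revF4 := by decide +kernel
theorem isSym_flipE6 : chevE6.IsDiagramSymmetry flipE6 := by decide +kernel
theorem isSym_rotD4 : chevD4.IsDiagramSymmetry rotD4 := by decide +kernel
theorem isSym_swapD4 : chevD4.IsDiagramSymmetry swapD4 := by decide +kernel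
theorem card_sym_D4 : Nat.card {π // chevD4.IsDiagramSymmetry π} = 6 := by
  rw [Nat.card_eq_fintype_card]; decide +kernel

theorem sym_E6 (π : Equiv.Perm (Fin chevE6.rank)) (hπ : chevE6.IsDiagramSymmetry π) :
    π = 1 ∨ π = flipE6 := by
  have h : ∀ i j : Fin 6, amat 6 cartanE6 (π i) (π j) = amat 6 cartanE6 i j := by
    have := cm_perm_of_symm rootTableE6 cm_symm_E6 hπ
    rwa [cm_E6] at this
  have key : ∀ a3 a2 : Fin 6, amat 6 cartanE6 a3 a2 = -1 → ∀ a1, amat 6 cartanE6 a3 a1 = -1 →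
      amat 6 cartanE6 a1 a2 = 0 → ∀ a4, amat 6 cartanE6 a3 a4 = -1 → amat 6 cartanE6 a1 a4 = 0 →
      amat 6 cartanE6 a2 a4 = 0 → ∀ a0, amat 6 cartanE6 a2 a0 = -1 → amat 6 cartanE6 a3 a0 = 0 →
      ∀ a5, amat 6 cartanE6 a4 a5 = -1 → amat 6 cartanE6 a3 a5 = 0 →
      (a0 = 0 ∧ a1 = 1 ∧ a2 = 2 ∧ a3 = 3 ∧ a4 = 4 ∧ a5 = 5) ∨
      (a0 = 5 ∧ a1 = 1 ∧ a2 = 4 ∧ a3 = 3 ∧ a4 = 2 ∧ a5 = 0) := by decide +kernel
  rcases key _ _ (h 3 2) _ (h 3 1) (h 1 2) _ (h 3 4) (h 1 4) (h 2 4) _ (h 2 0) (h 3 0) _ (h 4 5)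
    (h 3 5) with ⟨a0, a1, a2, a3, a4, a5⟩ | ⟨a0, a1, a2, a3, a4, a5⟩
  · left
    refine Equiv.ext fun i : Fin 6 => ?_
    fin_cases i <;> assumption
  · right
    refine Equiv.ext fun i : Fin 6 => ?_
    fin_cases i <;> assumption

theorem sym_E7 (π : Equiv.Perm (Fin chevE7.rank)) (hπ : chevE7.IsDiagramSymmetry π) : π = 1 := by
  have h : ∀ i j : Fin 7, amat 7 cartanE7 (π i) (π j) = amat 7 cartanE7 i j := by
    have := cm_perm_of_symm rootTableE7 cm_symm_E7 hπ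
    rwa [cm_E7] at this
  have key : ∀ a3 a2 : Fin 7, amat 7 cartanE7 a3 a2 = -1 → ∀ a1, amat 7 cartanE7 a3 a1 = -1 →
      amat 7 cartanE7 a1 a2 = 0 → ∀ a4, amat 7 cartanE7 a3 a4 = -1 → amat 7 cartanE7 a1 a4 = 0 →
      amat 7 cartanE7 a2 a4 = 0 → ∀ a0, amat 7 cartanE7 a2 a0 = -1 → amat 7 cartanE7 a3 a0 = 0 →
      ∀ a5, amat 7 cartanE7 a4 a5 = -1 → amat 7 cartanE7 a3 a5 = 0 →
      ∀ a6, amat 7 cartanE7 a5 a6 = -1 → amat 7 cartanE7 a4 a6 = 0 →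
      a0 = 0 ∧ a1 = 1 ∧ a2 = 2 ∧ a3 = 3 ∧ a4 = 4 ∧ a5 = 5 ∧ a6 = 6 := by decide +kernel
  obtain ⟨a0, a1, a2, a3, a4, a5, a6⟩ := key _ _ (h 3 2) _ (h 3 1) (h 1 2) _ (h 3 4) (h 1 4)
    (h 2 4) _ (h 2 0) (h 3 0) _ (h 4 5) (h 3 5) _ (h 5 6) (h 4 6)
  refine Equiv.ext fun i : Fin 7 => ?_
  fin_cases i <;> assumption

theorem sym_E8 (π : Equiv.Perm (Fin chevE8.rank)) (hπ : chevE8.IsDiagramSymmetry π) : π = 1 := by
  have h : ∀ i j : Fin 8, amat 8 cartanE8 (π i) (π j) = amat 8 cartanE8 i j := by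
    have := cm_perm_of_symm rootTableE8 cm_symm_E8 hπ
    rwa [cm_E8] at this
  have key : ∀ a3 a2 : Fin 8, amat 8 cartanE8 a3 a2 = -1 → ∀ a1, amat 8 cartanE8 a3 a1 = -1 →
      amat 8 cartanE8 a1 a2 = 0 → ∀ a4, amat 8 cartanE8 a3 a4 = -1 → amat 8 cartanE8 a1 a4 = 0 →
      amat 8 cartanE8 a2 a4 = 0 → ∀ a0, amat 8 cartanE8 a2 a0 = -1 → amat 8 cartanE8 a3 a0 = 0 →
      ∀ a5, amat 8 cartanE8 a4 a5 = -1 → amat 8 cartanE8 a3 a5 = 0 →
      ∀ a6, amat 8 cartanE8 a5 a6 = -1 → amat 8 cartanE8 a4 a6 = 0 →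
      ∀ a7, amat 8 cartanE8 a6 a7 = -1 → amat 8 cartanE8 a5 a7 = 0 →
      a0 = 0 ∧ a1 = 1 ∧ a2 = 2 ∧ a3 = 3 ∧ a4 = 4 ∧ a5 = 5 ∧ a6 = 6 ∧ a7 = 7 := by decide +kernel
  obtain ⟨a0, a1, a2, a3, a4, a5, a6, a7⟩ := key _ _ (h 3 2) _ (h 3 1) (h 1 2) _ (h 3 4) (h 1 4)
    (h 2 4) _ (h 2 0) (h 3 0) _ (h 4 5) (h 3 5) _ (h 5 6) (h 4 6) _ (h 6 7) (h 5 7)
  refine Equiv.ext fun i : Fin 8 => ?_
  fin_cases i <;> assumption

variable {F : Type*} [Field F]

theorem isGraph_iff_of_symm {D : ChevalleyDatum} [Good D] (h : ∀ i j, cm D i j = cm D j i)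
    {π : Equiv.Perm (Fin D.rank)} {φ : MulAut (D.group F)} : IsGraph D π φ ↔ ∀ (i : Fin D.rank) t,
      φ (xC D F (D.simple i) t) = xC D F (D.simple (π i)) t ∧
      φ (xC D F (D.neg (D.simple i)) t) = xC D F (D.neg (D.simple (π i))) t := by
  simp only [IsGraph, graphExp_eq_one_of_symm h, pow_one]

theorem mul_mem_graphSet {D : ChevalleyDatum} [Good D] (h : ∀ i j, cm D i j = cm D j i)
    {π π' : Equiv.Perm (Fin D.rank)} (h1 : π ∈ graphSet D F) (h2 : π' ∈ graphSet D F) :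
    π * π' ∈ graphSet D F := by
  obtain ⟨a, φ, b⟩ := h1
  obtain ⟨a', φ', b'⟩ := h2
  rw [isGraph_iff_of_symm h] at b b'
  refine ⟨fun i j hij => (a _ _ (π'.injective.ne hij)).trans (a' i j hij), φ * φ',
    (isGraph_iff_of_symm h).mpr fun i t => ?_⟩
  simp [b, b']

theorem rotD4_mem : rotD4 ∈ graphSet chevD4 F := by
  refine ⟨isSym_rotD4, ?_⟩
  simp only [isGraph_iff_of_symm cm_symm_D4]
  exact exists_isGraph_of_table rootTableD4 _
    (fun r => [0, 1, 6, 2, 7, 10, 3, 8, 4, 9, 11, 5, 18, 12, 14, 19, 15, 20, 13, 16, 21, 17, 22,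
      23].getD r 0)
    (fun r => [0, 1, 3, 6, 8, 11, 2, 4, 7, 9, 5, 10, 13, 18, 14, 16, 19, 21, 12, 15, 17, 20, 22,
      23].getD r 0)
    (fun r => [1, 1, -1, 1, -1, 1, -1, 1, -1, 1, 1, 1, 1, 1, 1, -1, 1, -1, 1, -1, 1, -1, 1,
      1].getD r 0)
    (by decide +kernel) (by decide +kernel) (cm_perm_of_symm rootTableD4 cm_symm_D4 isSym_rotD4)
    (by decide +kernel)

theorem swapD4_mem : swapD4 ∈ graphSet chevD4 F := by
  refine ⟨isSym_swapD4, ?_⟩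
  simp only [isGraph_iff_of_symm cm_symm_D4]
  exact exists_isGraph_of_table rootTableD4 _
    (fun r => [0, 1, 2, 6, 7, 10, 3, 4, 8, 9, 5, 11, 12, 18, 14, 15, 19, 20, 13, 16, 17, 21, 22,
      23].getD r 0)
    (fun r => [0, 1, 2, 6, 7, 10, 3, 4, 8, 9, 5, 11, 12, 18, 14, 15, 19, 20, 13, 16, 17, 21, 22,
      23].getD r 0)
    (fun r => [1, 1, 1, -1, -1, 1, -1, -1, 1, 1, 1, 1, 1, 1, 1, 1, -1, -1, 1, -1, -1, 1, 1,
      1].getD r 0)
    (by decide +kernel) (by decide +kernel) (cm_perm_of_symm rootTableD4 cm_symm_D4 isSym_swapD4)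
    (by decide +kernel)

/-- The permutation of the roots of `E₆` induced by the symmetry of the diagram. -/
def flipRootE6 (r : ℕ) : ℕ :=
  [0, 1, 2, 5, 16, 3, 6, 17, 8, 19, 22, 11, 26, 30, 33, 35, 4, 7, 18, 9, 20, 23, 10, 21, 24, 25,
    12, 27, 31, 34, 13, 28, 32, 14, 29, 15, 56, 42, 57, 39, 43, 58, 37, 40, 44, 59, 46, 47, 50, 61,
    48, 51, 62, 53, 64, 67, 36, 38, 41, 45, 60, 49, 52, 63, 54, 65, 68, 55, 66, 69, 70, 71].getD r 0

/-- The signs of the graph automorphism of `E₆`. -/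
def flipSignE6 (r : ℕ) : ℤ :=
  [1, 1, 1, 1, -1, 1, 1, -1, 1, -1, -1, 1, -1, 1, -1, 1, -1, -1, 1, -1, 1, 1, -1, 1, 1, 1, -1, 1,
    -1, 1, 1, -1, 1, -1, 1, 1, 1, 1, -1, 1, -1, 1, 1, -1, 1, -1, 1, 1, 1, -1, 1, 1, -1, 1, -1, -1,
    1, -1, 1, -1, 1, -1, -1, 1, -1, 1, 1, -1, 1, 1, 1, 1].getD r 0

theorem flipE6_mem : flipE6 ∈ graphSet chevE6 F := by
  refine ⟨isSym_flipE6, ?_⟩
  simp only [isGraph_iff_of_symm cm_symm_E6]
  exact exists_isGraph_of_table rootTableE6 _ flipRootE6 flipRootE6 flipSignE6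
    (by decide +kernel) (by decide +kernel) (cm_perm_of_symm rootTableE6 cm_symm_E6 isSym_flipE6)
    (by decide +kernel)

theorem graphSet_D4 : graphSet chevD4 F = {π | chevD4.IsDiagramSymmetry π} := by
  refine Set.ext fun π => ⟨fun h => h.1, fun h => ?_⟩
  have m := @mul_mem_graphSet F _ chevD4 _ cm_symm_D4
  rcases sym_D4 π h with rfl | rfl | rfl | rfl | rfl | rfl
  · exact one_mem_graphSet
  · exact rotD4_mem
  · exact m rotD4_mem rotD4_mem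
  · exact swapD4_mem
  · exact m swapD4_mem rotD4_mem
  · exact m (m swapD4_mem rotD4_mem) rotD4_mem

theorem card_graphSet_eq_one {D : ChevalleyDatum} [Good D] (h : ∀ π ∈ graphSet D F, π = 1) :
    Nat.card (graphSet D F) = 1 := by
  rw [Set.eq_singleton_iff_unique_mem.mpr ⟨one_mem_graphSet, h⟩]
  simp

theorem card_graphSet_eq_two {D : ChevalleyDatum} [Good D] {π₀ : Equiv.Perm (Fin D.rank)}
    (h : ∀ π, D.IsDiagramSymmetry π → π = 1 ∨ π = π₀) (h1 : π₀ ≠ 1) (h2 : π₀ ∈ graphSet D F) :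
    Nat.card (graphSet D F) = 2 := by
  have : graphSet D F = {1, π₀} := Set.ext fun π => ⟨fun hπ => h π hπ.1, by
    rintro (rfl | rfl)
    · exact one_mem_graphSet
    · exact h2⟩
  rw [this, Nat.card_coe_set_eq, Set.ncard_pair h1.symm]

theorem card_graphSet_le_two {D : ChevalleyDatum} [Good D] {π₀ : Equiv.Perm (Fin D.rank)}
    (h : ∀ π, D.IsDiagramSymmetry π → π = 1 ∨ π = π₀) :
    Nat.card (graphSet D F) = 1 ∨ Nat.card (graphSet D F) = 2 := by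
  by_cases h1 : π₀ = 1
  · exact Or.inl (card_graphSet_eq_one fun π hπ => by simpa [h1] using h π hπ.1)
  by_cases h2 : π₀ ∈ graphSet D F
  · exact Or.inr (card_graphSet_eq_two h h1 h2)
  · exact Or.inl (card_graphSet_eq_one fun π hπ => (h π hπ.1).resolve_right fun e => h2 (e ▸ hπ))

theorem card_graphSet_D4 : Nat.card (graphSet chevD4 F) = 6 := by
  rw [graphSet_D4]; exact card_sym_D4

theorem card_graphSet_E6 : Nat.card (graphSet chevE6 F) = 2 :=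
  card_graphSet_eq_two sym_E6 (by decide +kernel) flipE6_mem

theorem card_graphSet_E7 : Nat.card (graphSet chevE7 F) = 1 :=
  card_graphSet_eq_one fun π hπ => sym_E7 π hπ.1

theorem card_graphSet_E8 : Nat.card (graphSet chevE8 F) = 1 :=
  card_graphSet_eq_one fun π hπ => sym_E8 π hπ.1

theorem ringChar_of_revF4_mem [Finite F] (h : revF4 ∈ graphSet chevF4 F) : ringChar F = 2 := by
  obtain ⟨h1, φ, h2⟩ := h
  exact ringChar_eq_two_of_sq (h2.exists_pow_of_swap dynkinF4 rootTableF4 h1 (by decide +kernel))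

theorem ringChar_of_swapB2_mem [Finite F] (h : swapB2 ∈ graphSet chevB2 F) : ringChar F = 2 := by
  obtain ⟨h1, φ, h2⟩ := h
  exact ringChar_eq_two_of_sq (h2.exists_pow_of_swap dynkinB2 rootTableB2 h1 (by decide +kernel))

theorem ringChar_of_swapG2_mem [Finite F] (h : swapG2 ∈ graphSet chevG2 F) : ringChar F = 3 := by
  obtain ⟨-, φ, h2⟩ := h
  have a0 : φ (nn chevG2 (xC chevG2 F) 7 1) = nn chevG2 (xC chevG2 F) (chevG2.simple (1 : Fin 2)) 1 := by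
    have := h2.map_nn (0 : Fin 2) 1
    rwa [one_pow] at this
  have a1 : φ (nn chevG2 (xC chevG2 F) 6 1) = nn chevG2 (xC chevG2 F) (chevG2.simple (0 : Fin 2)) 1 := by
    have := h2.map_nn (1 : Fin 2) 1
    rwa [one_pow] at this
  refine ringChar_eq_three_of_swap isSt_xC (isND_xC rootTableG2) (θ := φ)
    (fun t => ⟨_, (h2 (1 : Fin 2) t).1⟩) ?_ ?_
  · rw [a0]; exact isSt_xC.acts_nn_simple rootTableG2 (1 : Fin 2)
  · rw [a1]; exact isSt_xC.acts_nn_simple rootTableG2 (0 : Fin 2)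

end Cfsg.Agent.Chev
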