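import Mathlib
import Cfsg.Agent.Chev.RepOrth

/-!
# `D₄(F) ≅ PΩ₈⁺(F)`
-/

set_option autoImplicit false

namespace Cfsg.Agent.Chev

open Cfsg Cfsg.Lie Matrix QuadraticMap Cfsg.Agent.Class.Orth

/-- The root elements of `D₄` on the natural module. -/
def eichD4 : EichTab where
  n := 8
  pol b c := Bool.rec 0 1 (Nat.beq c ((b + 4) % 8))
  qv _ := 0
  eu r := nthL [4, 4, 4, 4, 4, 4, 5, 5, 5, 5, 6, 6, 2, 2, 1, 1, 1, 1, 0, 0, 0, 0, 0, 0] 0 r
  ev r := nthL [5, 6, 3, 7, 2, 1, 6, 3, 7, 2, 3, 7, 3, 7, 6, 3, 7, 2, 5, 6, 3, 7, 2, 1] 0 r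
  sg r := nthL [-1, -1, -1, -1, 1, -1, 1, 1, 1, -1, -1, -1, 1, 1, 1, -1, -1, -1, 1, -1, 1, 1, 1, 1] 0 r

theorem eichD4_check : eichD4.rep.check chevD4 = true := by decide +kernel

theorem eichD4_ok : eichD4.Ok chevD4 := by decide +kernel

/-- The codes of the basis vectors. -/
def eD4 : Fin 4 ⊕ Fin 4 ≃ Fin eichD4.rep.n := finSumFinEquiv (m := 4) (n := 4)

variable {F : Type*} [Field F]

theorem bvD4_inl (b : ℕ) (i : Fin 4) :
    eichD4.rep.bv eD4 F b (.inl i) = if (i : ℕ) = b then 1 else 0 := rfl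

theorem bvD4_inr (b : ℕ) (i : Fin 4) :
    eichD4.rep.bv eD4 F b (.inr i) = if 4 + (i : ℕ) = b then 1 else 0 := rfl

theorem polD4 : ∀ b < eichD4.n, ∀ c < eichD4.n,
    polar (plusQF 4 F) (eichD4.rep.bv eD4 F b) (eichD4.rep.bv eD4 F c) = eichD4.pol b c := by
  intro b (hb : b < 8) c (hc : c < 8)
  rw [polar_plusQF]
  simp only [bvD4_inl, bvD4_inr, Fin.sum_univ_four]
  interval_cases b <;> interval_cases c <;> simp [eichD4, Nat.beq]

theorem qvD4 : ∀ b < eichD4.n, plusQF 4 F (eichD4.rep.bv eD4 F b) = eichD4.qv b := by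
  intro b (hb : b < 8)
  rw [plusQF_apply, quadFormPlus]
  simp only [bvD4_inl, bvD4_inr, Fin.sum_univ_four]
  interval_cases b <;> simp [eichD4]

theorem isSt0_eichD4 : IsSt0 chevD4 (eichD4.y eD4 (plusQF 4 F)) :=
  EichTab.isSt0 (by simp) polD4 qvD4 eichD4_ok eichD4_check

theorem eichler_mem_of_basis {ι : Type} [Fintype ι] [DecidableEq ι] {Q : QuadraticForm F (ι → F)}
    {H : Subgroup (OG Q)} {u v : ι → F} (hu : Q u = 0)
    (h : ∀ a, v a ≠ 0 → polar Q u (Pi.single a 1) = 0 ∧ ∀ t : F, eichler Q u (t • Pi.single a 1) ∈ H) :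
    eichler Q u v ∈ H := by
  have : polar Q u (∑ a, v a • (Pi.single a 1 : ι → F)) = 0 ∧
      eichler Q u (∑ a, v a • (Pi.single a 1 : ι → F)) ∈ H := by
    refine Finset.sum_induction _ (fun w => polar Q u w = 0 ∧ eichler Q u w ∈ H)
      (fun a b ha hb => ⟨by rw [polar_add_right, ha.1, hb.1, add_zero], ?_⟩)
      ⟨polar_zero_right _ _, by rw [eichler_zero]; exact H.one_mem⟩ fun a _ => ?_
    · rw [eichler_add hu ha.1 hb.1]; exact H.mul_mem ha.2 hb.2
    · by_cases ha : v a = 0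
      · rw [ha, zero_smul, eichler_zero]; exact ⟨polar_zero_right _ _, H.one_mem⟩
      · exact ⟨by rw [polar_smul_right', (h a ha).1, mul_zero], (h a ha).2 _⟩
  rw [← pi_eq_sum_univ' v] at this
  exact this.2

theorem EichTab.eichler_mem {E : EichTab} {ι : Type} [Fintype ι] [DecidableEq ι]
    {e : ι ≃ Fin E.rep.n} {Q : QuadraticForm F (ι → F)} {D : ChevalleyDatum} {u v : ℕ}
    (h : ∃ r < D.nroots, E.eu r = u ∧ E.ev r = v ∧ E.sg r * E.sg r = 1) (t : F) :
    eichler Q (E.rep.bv e F u) (t • E.rep.bv e F v) ∈ Gs D (E.y e Q) := by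
  obtain ⟨r, hr, rfl, rfl, h⟩ := h
  have h1 : ((E.sg r : F) * E.sg r) = 1 := by exact_mod_cast congrArg (Int.cast : ℤ → F) h
  have := mem_XS (x := E.y e Q) (S := {r | r < D.nroots}) hr (E.sg r * t)
  rwa [EichTab.y, ← mul_assoc, h1, one_mul] at this

theorem commutator_plus_four : commutator (OG (plusQF 4 F)) = Gs chevD4 (eichD4.y eD4 (plusQF 4 F)) := by
  refine le_antisymm ?_ (isSt0_eichD4.Gs_le_commutator (by simp) (by rintro (h | h) <;> cases congrArg (·.rank) h))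
  have hef : IsHyp (plusQF 4 F) (eichD4.rep.bv eD4 F 0) (eichD4.rep.bv eD4 F 4) :=
    ⟨by rw [qvD4 0 (by decide)]; simp [eichD4], by rw [qvD4 4 (by decide)]; simp [eichD4],
      by rw [polD4 0 (by decide) 4 (by decide)]; simp [eichD4]⟩
  have hd : Module.finrank F (Fin 4 ⊕ Fin 4 → F) ≠ 2 := by simp
  have key : ∀ u, u = 0 ∨ u = 4 → ∀ v ∈ perp2 (plusQF 4 F) (eichD4.rep.bv eD4 F 0) (eichD4.rep.bv eD4 F 4),
      eichler (plusQF 4 F) (eichD4.rep.bv eD4 F u) v ∈ Gs chevD4 (eichD4.y eD4 (plusQF 4 F)) := by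
    intro u hu v hv
    rw [mem_perp2, polar_plusQF, polar_plusQF] at hv
    simp [bvD4_inl, bvD4_inr, Fin.sum_univ_four] at hv
    have hu8 : u < eichD4.n := by rcases hu with rfl | rfl <;> decide
    refine eichler_mem_of_basis (by rw [qvD4 u hu8]; simp [eichD4]) fun a ha => ?_
    have h1 : (eD4 a : ℕ) ≠ 0 ∧ (eD4 a : ℕ) ≠ 4 := by
      constructor
      · intro h
        have : a = .inl 0 := eD4.injective (Fin.ext h)
        exact ha (this ▸ hv.2)
      · intro h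
        have : a = .inr 0 := eD4.injective (Fin.ext h)
        exact ha (this ▸ hv.1)
    rw [← RepTab.bv_apply (R := eichD4.rep) (e := eD4), polD4 u hu8 _ (eD4 a).2]
    have h2 : ∀ u, u = 0 ∨ u = 4 → ∀ c < 8, c ≠ 0 ∧ c ≠ 4 → eichD4.pol u c = 0 ∧
        ∃ r < chevD4.nroots, eichD4.eu r = u ∧ eichD4.ev r = c ∧ eichD4.sg r * eichD4.sg r = 1 := by
      rintro u (rfl | rfl) <;> decide +kernel
    obtain ⟨h3, h4⟩ := h2 u hu _ (eD4 a).2 h1
    exact ⟨by rw [h3]; simp, EichTab.eichler_mem h4⟩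
  exact ((nd_plusQF 4 F).commutator_le_EG hef hd).trans
    ((nd_plusQF 4 F).EG_le_of_isHyp hef hd _ (key 0 (by simp)) (key 4 (by simp)))

theorem nonempty_chevD4_equiv :
    Nonempty (chevD4.group F ≃* POmega F (quadFormPlus 4 F)) := by
  obtain ⟨φ⟩ := (isSt0_eichD4 (F := F)).nonempty_Gs_quot (by simp)
    (by rintro (h | h) <;> cases congrArg (·.rank) h) commutator_plus_four (by
      rw [commutator_plus_four, Ne, eq_bot_iff]
      intro h
      have h1 := h (EichTab.eichler_mem (D := chevD4) (u := 0) (v := 1) (by decide +kernel) 1)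
      have h2 := congrArg (fun g : OG (plusQF 4 F) => g.1 (eichD4.rep.bv eD4 F 5) (.inl 0))
        (Subgroup.mem_bot.1 h1)
      simp only [one_smul] at h2
      rw [eichler_apply (by rw [qvD4 0 (by decide)]; simp [eichD4])
        (by rw [polD4 0 (by decide) 1 (by decide)]; simp [eichD4, Nat.beq]), polD4 5 (by decide) 1 (by decide),
        polD4 5 (by decide) 0 (by decide)] at h2
      simp only [Pi.add_apply, Pi.sub_apply, Pi.smul_apply, OG.one_apply, bvD4_inl] at h2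
      simp [eichD4, Nat.beq] at h2)
  exact ⟨φ.symm.trans (pOmegaCongr (plusEquiv 4 F)).symm⟩

end Cfsg.Agent.Chev
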