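import Mathlib
import Cfsg.Agent.Chev.IsoD4

/-!
# `B₂(F) ≅ PΩ₅(F)` in every characteristic
-/

set_option autoImplicit false

namespace Cfsg.Agent.Chev

open Cfsg Cfsg.Lie Matrix QuadraticMap Cfsg.Agent.Class.Orth

section NS

variable {F V : Type*} [Field F] [AddCommGroup V] [Module F V] {Q : QuadraticForm F V}

/-- No non-zero singular vector of `W` is orthogonal to `W`. -/
def NSon (Q : QuadraticForm F V) (W : Submodule F V) : Prop :=
  ∀ x ∈ W, x ≠ 0 → Q x = 0 → ∃ y ∈ W, polar Q x y ≠ 0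

theorem NSon.exists_map_singular_smul {W : Submodule F V} (hQ : NSon Q W) {e f z : V}
    (heW : e ∈ W) (hfW : f ∈ W) (hef : IsHyp Q e f) (hzW : z ∈ W) (hz : z ∈ perp2 Q e f)
    (hz0 : Q z ≠ 0) (H : Subgroup (OG Q)) (he : ∀ v ∈ W, eichler Q e v ∈ H)
    (hf : ∀ v ∈ W, eichler Q f v ∈ H) {x : V} (hxW : x ∈ W) (hx0 : x ≠ 0) (hx : Q x = 0) :
    ∃ g ∈ H, ∃ c : F, c ≠ 0 ∧ g.1 x = c • e := by
  have key : ∀ x ∈ W, Q x = 0 → polar Q x f ≠ 0 → ∃ g ∈ H, ∃ c : F, c ≠ 0 ∧ g.1 x = c • e := by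
    intro x hxW hx hxf
    refine ⟨_, hf _ (W.smul_mem _ (W.sub_mem hxW (W.smul_mem _ heW))), polar Q x f, hxf,
      eichler_map hef.right ?_ hxf ?_⟩
    · rw [polar_smul_left', hef.pol, mul_one]
    · rw [Q_smul, hef.left, hx, mul_zero]
  have key2 : ∀ t ∈ W, (eichler Q e t).1 x ∈ W → polar Q ((eichler Q e t).1 x) f ≠ 0 →
      ∃ g ∈ H, ∃ c : F, c ≠ 0 ∧ g.1 x = c • e := by
    intro t ht h' h
    obtain ⟨g, hg, c, hc, hgc⟩ := key _ h' (by rw [OG.map_Q, hx]) h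
    exact ⟨g * eichler Q e t, H.mul_mem hg (he t ht), c, hc, by rw [OG.mul_apply, hgc]⟩
  by_cases h1 : polar Q x f ≠ 0
  · exact key x hxW hx h1
  push Not at h1
  by_cases h2 : polar Q x e = 0
  · obtain ⟨y, hy, hxy⟩ := hQ x hxW hx0 hx
    have h3 : (eichler Q e (hproj Q e f y)).1 x = x + polar Q x y • e := by
      rw [eichler_apply_of_perp hef.left (mem_perp2.1 (hef.hproj_mem y)).1 h2,
        polar_hproj (mem_perp2'.2 ⟨h2, h1⟩)]
    refine key2 _ (hproj_mem_of_mem heW hfW hy) (h3 ▸ W.add_mem hxW (W.smul_mem _ heW)) ?_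
    rw [h3, polar_add_left, h1, polar_smul_left', hef.pol]
    simpa using hxy
  · have h3 := eichler_map (Q := Q) (u := e) (x := x)
      (y := polar Q x e • (z - Q z • e + f)) hef.left
      (by simp only [polar_smul_left', polar_add_left, polar_sub_left, (mem_perp2'.1 hz).1, hef.ee,
            hef.pol']; ring) h2
      (by rw [Q_smul, Q_add, Q_sub_smul_singular hef.left (mem_perp2.1 hz).1, polar_sub_left,
            polar_smul_left', (mem_perp2'.1 hz).2, hef.pol, hef.right, hx]; ring)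
    have h4 : polar Q x e • (z - Q z • e + f) ∈ W :=
      W.smul_mem _ (W.add_mem (W.sub_mem hzW (W.smul_mem _ heW)) hfW)
    refine key2 ((polar Q x e)⁻¹ • (x - polar Q x e • (z - Q z • e + f)))
      (W.smul_mem _ (W.sub_mem hxW h4)) (by rw [h3]; exact h4) ?_
    rw [h3]
    simp only [polar_smul_left', polar_add_left, polar_sub_left, (mem_perp2'.1 hz).2, hef.ff,
      hef.pol]
    simpa using ⟨h2, hz0⟩

theorem NSon.exists_map_isHyp_smul {W : Submodule F V} (hQ : NSon Q W) {e f z : V}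
    (heW : e ∈ W) (hfW : f ∈ W) (hef : IsHyp Q e f) (hzW : z ∈ W) (hz : z ∈ perp2 Q e f)
    (hz0 : Q z ≠ 0) (H : Subgroup (OG Q)) (hW : ∀ g ∈ H, ∀ x ∈ W, g.1 x ∈ W)
    (he : ∀ v ∈ W, eichler Q e v ∈ H) (hf : ∀ v ∈ W, eichler Q f v ∈ H) {x y : V} (hxW : x ∈ W)
    (hyW : y ∈ W) (hxy : IsHyp Q x y) :
    ∃ g ∈ H, ∃ c : F, c ≠ 0 ∧ g.1 x = c • e ∧ g.1 y = c⁻¹ • f := by
  obtain ⟨g, hg, c, hc, hgx⟩ := hQ.exists_map_singular_smul heW hfW hef hzW hz hz0 H he hf hxW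
    hxy.left_ne_zero hxy.left
  have h1 : polar Q (g.1 y) e = c⁻¹ := by
    have := (hxy.map g).pol'
    rw [hgx, polar_smul_right'] at this
    exact eq_inv_of_mul_eq_one_right this
  have h2 : polar Q e ((polar Q (g.1 y) e)⁻¹ • (g.1 y - c⁻¹ • f)) = 0 := by
    rw [polar_smul_right', polar_sub_right, polar_smul_right', hef.pol, polar_comm Q e, h1]; ring
  refine ⟨eichler Q e ((polar Q (g.1 y) e)⁻¹ • (g.1 y - c⁻¹ • f)) * g, H.mul_mem
    (he _ (W.smul_mem _ (W.sub_mem (hW g hg y hyW) (W.smul_mem _ hfW)))) hg, c, hc, ?_, ?_⟩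
  · rw [OG.mul_apply, hgx, map_smul, eichler_apply_self hef.left h2]
  · rw [OG.mul_apply]
    exact eichler_map hef.left (by rw [h1, polar_smul_left', hef.pol', mul_one])
      (by rw [h1]; exact inv_ne_zero hc) (by rw [(hxy.map g).right, Q_smul, hef.right, mul_zero])

theorem NSon.EG_le (hQ : NSon Q ⊤) {e f z : V} (hef : IsHyp Q e f) (hz : z ∈ perp2 Q e f)
    (hz0 : Q z ≠ 0) (H : Subgroup (OG Q)) (he : ∀ v ∈ perp2 Q e f, eichler Q e v ∈ H)
    (hf : ∀ v ∈ perp2 Q e f, eichler Q f v ∈ H) : EG Q ≤ H := by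
  have aux : ∀ {e f : V}, IsHyp Q e f → (∀ v ∈ perp2 Q e f, eichler Q e v ∈ H) →
      ∀ v, eichler Q e v ∈ H := by
    intro e f hef he v
    by_cases hv : polar Q e v = 0
    · rw [eichler_hproj hef hv]; exact he _ (hef.hproj_mem v)
    · rw [eichler_of_not (fun h => hv h.2)]; exact H.one_mem
  have he' := aux hef he
  have hf' := aux hef.symm (perp2_comm (Q := Q) e f ▸ hf)
  refine Class.Orth.EG_le fun u v hu hv => ?_
  by_cases hu0 : u = 0
  · rw [hu0, eichler_zero_left]; exact H.one_mem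
  obtain ⟨g, hg, c, hc, hgu⟩ := hQ.exists_map_singular_smul trivial trivial hef trivial hz hz0 H
    (fun v _ => he' v) (fun v _ => hf' v) (x := u) trivial hu0 hu
  have h1 : polar Q e (g.1 v) = 0 := by
    have := OG.map_polar g u v
    rw [hgu, polar_smul_left', hv] at this
    exact (mul_eq_zero.1 this).resolve_left hc
  have h2 : g * eichler Q u v * g⁻¹ ∈ H := by
    rw [conj_eichler, hgu, eichler_smul_left hef.left h1]
    exact he' _
  have := H.mul_mem (H.mul_mem (H.inv_mem hg) h2) hg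
  simpa [mul_assoc] using this

theorem mem_perp_span_pair {e f x : V} :
    x ∈ perp Q (Submodule.span F {e, f}) ↔ polar Q e x = 0 ∧ polar Q f x = 0 := by
  refine ⟨fun h => ⟨h e (Submodule.subset_span (by simp)), h f (Submodule.subset_span (by simp))⟩,
    fun h u hu => ?_⟩
  obtain ⟨s, t, rfl⟩ := Submodule.mem_span_pair.1 hu
  rw [polar_add_left, polar_smul_left', polar_smul_left', h.1, h.2]; ring

theorem polar_map_eq_zero {g : OG Q} {e x : V} {c : F} (hc : c ≠ 0) (h : g.1 e = c • e)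
    (hx : polar Q e x = 0) : polar Q e (g.1 x) = 0 := by
  have := OG.map_polar g e x
  rw [h, polar_smul_left', hx] at this
  exact (mul_eq_zero.1 this).resolve_left hc

end NS

theorem commutator_le_of_diag {F : Type*} [Field F] {ι : Type} [Fintype ι] [DecidableEq ι]
    {Q : QuadraticForm F (ι → F)} (H : Subgroup (OG Q)) [H.Normal]
    (h : ∀ g : OG Q, ∃ k ∈ H, ∀ a, ∃ c : F, (k * g).1 (Pi.single a 1) = c • Pi.single a 1) :
    commutator (OG Q) ≤ H := by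
  rw [← Subgroup.Normal.quotient_commutative_iff_commutator_le]
  refine ⟨⟨fun a b => ?_⟩⟩
  obtain ⟨a, rfl⟩ := QuotientGroup.mk'_surjective H a
  obtain ⟨b, rfl⟩ := QuotientGroup.mk'_surjective H b
  obtain ⟨k, hk, ha⟩ := h a
  obtain ⟨l, hl, hb⟩ := h b
  have h1 : ∀ k ∈ H, ∀ a, QuotientGroup.mk' H a = QuotientGroup.mk' H (k * a) := by
    intro k hk a
    rw [map_mul, show QuotientGroup.mk' H k = 1 from (QuotientGroup.eq_one_iff k).2 hk, one_mul]
  rw [h1 k hk a, h1 l hl b, ← map_mul, ← map_mul]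
  congr 1
  refine Subtype.ext (LinearEquiv.toLinearMap_injective ((Pi.basisFun F ι).ext fun i => ?_))
  obtain ⟨c, hc⟩ := ha i
  obtain ⟨d, hd⟩ := hb i
  rw [Pi.basisFun_apply]
  show (k * a).1 ((l * b).1 _) = (l * b).1 ((k * a).1 _)
  rw [hd, hc, map_smul, map_smul, hc, hd, smul_comm]

/-- The root elements of `B₂` on the natural module. -/
def eichB2 : EichTab where
  n := 5
  pol b c := Bool.rec (Bool.rec 0 1 (Nat.beq c ((b + 1) % 4 + 1))) (Bool.rec 0 2 (Nat.beq c 0))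
    (Nat.beq b 0)
  qv b := Bool.rec 0 1 (Nat.beq b 0)
  eu r := nthL [3, 3, 4, 3, 1, 2, 1, 1] 0 r
  ev r := nthL [4, 0, 0, 2, 4, 0, 0, 2] 0 r
  sg r := nthL [-1, -1, -1, -1, 1, 1, 1, 1] 0 r

theorem eichB2_check : eichB2.rep.check chevB2 = true := by decide +kernel

theorem eichB2_ok : eichB2.Ok chevB2 := by decide +kernel

/-- The codes of the basis vectors. -/
def eB2 : Unit ⊕ (Fin 2 ⊕ Fin 2) ≃ Fin eichB2.rep.n where
  toFun := Sum.elim (fun _ => (0 : Fin 5)) (Sum.elim (fun i => (⟨1 + i, by omega⟩ : Fin 5))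
    fun i => (⟨3 + i, by omega⟩ : Fin 5))
  invFun := (![.inl (), .inr (.inl 0), .inr (.inl 1), .inr (.inr 0), .inr (.inr 1)] : Fin 5 → _)
  left_inv a := by revert a; decide
  right_inv a := by revert a; decide

variable {F : Type*} [Field F]

theorem bvB2_0 (b : ℕ) : eichB2.rep.bv eB2 F b (.inl ()) = if 0 = b then 1 else 0 := rfl

theorem bvB2_inl (b : ℕ) (i : Fin 2) :
    eichB2.rep.bv eB2 F b (.inr (.inl i)) = if 1 + (i : ℕ) = b then 1 else 0 := rfl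

theorem bvB2_inr (b : ℕ) (i : Fin 2) :
    eichB2.rep.bv eB2 F b (.inr (.inr i)) = if 3 + (i : ℕ) = b then 1 else 0 := rfl

theorem polB2 : ∀ b < eichB2.n, ∀ c < eichB2.n,
    polar (oddQF 2 F) (eichB2.rep.bv eB2 F b) (eichB2.rep.bv eB2 F c) = eichB2.pol b c := by
  intro b (hb : b < 5) c (hc : c < 5)
  rw [polar_oddQF]
  simp only [bvB2_0, bvB2_inl, bvB2_inr, Fin.sum_univ_two]
  interval_cases b <;> interval_cases c <;> simp [eichB2, Nat.beq]

theorem qvB2 : ∀ b < eichB2.n, oddQF 2 F (eichB2.rep.bv eB2 F b) = eichB2.qv b := by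
  intro b (hb : b < 5)
  rw [oddQF_apply, quadFormOdd]
  simp only [bvB2_0, bvB2_inl, bvB2_inr, Fin.sum_univ_two]
  interval_cases b <;> simp [eichB2, Nat.beq]

theorem isSt0_eichB2 : IsSt0 chevB2 (eichB2.y eB2 (oddQF 2 F)) :=
  EichTab.isSt0 (by simp) polB2 qvB2 eichB2_ok eichB2_check

theorem polB2_left (x : Unit ⊕ (Fin 2 ⊕ Fin 2) → F) :
    polar (oddQF 2 F) (eichB2.rep.bv eB2 F 1) x = x (.inr (.inr 0)) ∧
    polar (oddQF 2 F) (eichB2.rep.bv eB2 F 2) x = x (.inr (.inr 1)) ∧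
    polar (oddQF 2 F) (eichB2.rep.bv eB2 F 3) x = x (.inr (.inl 0)) ∧
    polar (oddQF 2 F) (eichB2.rep.bv eB2 F 4) x = x (.inr (.inl 1)) := by
  simp [polar_oddQF, bvB2_0, bvB2_inl, bvB2_inr, Fin.sum_univ_two]

theorem eq_smul_bvB2 {x : Unit ⊕ (Fin 2 ⊕ Fin 2) → F}
    (h1 : polar (oddQF 2 F) (eichB2.rep.bv eB2 F 1) x = 0)
    (h2 : polar (oddQF 2 F) (eichB2.rep.bv eB2 F 2) x = 0)
    (h3 : polar (oddQF 2 F) (eichB2.rep.bv eB2 F 3) x = 0)
    (h4 : polar (oddQF 2 F) (eichB2.rep.bv eB2 F 4) x = 0) :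
    x = x (.inl ()) • eichB2.rep.bv eB2 F 0 := by
  obtain ⟨k1, k2, k3, k4⟩ := polB2_left x
  rw [k1] at h1; rw [k2] at h2; rw [k3] at h3; rw [k4] at h4
  funext a
  rcases a with ⟨⟨⟩⟩ | i | i
  · simp [bvB2_0]
  · fin_cases i <;> simp [bvB2_inl, h3, h4]
  · fin_cases i <;> simp [bvB2_inr, h1, h2]

theorem isHypB2_13 : IsHyp (oddQF 2 F) (eichB2.rep.bv eB2 F 1) (eichB2.rep.bv eB2 F 3) :=
  ⟨by rw [qvB2 1 (by decide)]; simp [eichB2, Nat.beq], by rw [qvB2 3 (by decide)]; simp [eichB2, Nat.beq],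
    by rw [polB2 1 (by decide) 3 (by decide)]; simp [eichB2, Nat.beq]⟩

theorem isHypB2_24 : IsHyp (oddQF 2 F) (eichB2.rep.bv eB2 F 2) (eichB2.rep.bv eB2 F 4) :=
  ⟨by rw [qvB2 2 (by decide)]; simp [eichB2, Nat.beq], by rw [qvB2 4 (by decide)]; simp [eichB2, Nat.beq],
    by rw [polB2 2 (by decide) 4 (by decide)]; simp [eichB2, Nat.beq]⟩

theorem Q_bvB2_0 : oddQF 2 F (eichB2.rep.bv eB2 F 0) = 1 := by
  rw [qvB2 0 (by decide)]; simp [eichB2, Nat.beq]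

theorem nsonB2_aux {x : Unit ⊕ (Fin 2 ⊕ Fin 2) → F} (h0 : x ≠ 0) (hx : oddQF 2 F x = 0) :
    ∃ b, (b = 1 ∨ b = 2 ∨ b = 3 ∨ b = 4) ∧ polar (oddQF 2 F) (eichB2.rep.bv eB2 F b) x ≠ 0 := by
  by_contra hc
  push Not at hc
  have := eq_smul_bvB2 (hc 1 (by simp)) (hc 2 (by simp)) (hc 3 (by simp)) (hc 4 (by simp))
  rw [this, Q_smul, Q_bvB2_0, mul_one, pow_eq_zero_iff two_ne_zero] at hx
  rw [hx, zero_smul] at this
  exact h0 this

theorem nsonB2 : NSon (oddQF 2 F) ⊤ := fun x _ h0 hx => by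
  obtain ⟨b, -, hb⟩ := nsonB2_aux h0 hx
  exact ⟨_, trivial, by rwa [polar_comm]⟩

theorem EG_le_GsB2 : EG (oddQF 2 F) ≤ Gs chevB2 (eichB2.y eB2 (oddQF 2 F)) := by
  have key : ∀ u, u = 1 ∨ u = 3 → ∀ v ∈ perp2 (oddQF 2 F) (eichB2.rep.bv eB2 F 1) (eichB2.rep.bv eB2 F 3),
      eichler (oddQF 2 F) (eichB2.rep.bv eB2 F u) v ∈ Gs chevB2 (eichB2.y eB2 (oddQF 2 F)) := by
    intro u hu v hv
    rw [mem_perp2, (polB2_left v).1, (polB2_left v).2.2.1] at hv
    have hu8 : u < eichB2.n := by rcases hu with rfl | rfl <;> decide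
    refine eichler_mem_of_basis (by
      rcases hu with rfl | rfl
      exacts [isHypB2_13.left, isHypB2_13.right]) fun a ha => ?_
    have h1 : (eB2 a : ℕ) ≠ 1 ∧ (eB2 a : ℕ) ≠ 3 := by
      constructor
      · intro h
        have : a = .inr (.inl 0) := eB2.injective (Fin.ext h)
        exact ha (this ▸ hv.2)
      · intro h
        have : a = .inr (.inr 0) := eB2.injective (Fin.ext h)
        exact ha (this ▸ hv.1)
    rw [← RepTab.bv_apply (R := eichB2.rep) (e := eB2), polB2 u hu8 _ (eB2 a).2]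
    have h2 : ∀ u, u = 1 ∨ u = 3 → ∀ c < 5, c ≠ 1 ∧ c ≠ 3 → eichB2.pol u c = 0 ∧
        ∃ r < chevB2.nroots, eichB2.eu r = u ∧ eichB2.ev r = c ∧ eichB2.sg r * eichB2.sg r = 1 := by
      rintro u (rfl | rfl) <;> decide +kernel
    obtain ⟨h3, h4⟩ := h2 u hu _ (eB2 a).2 h1
    exact ⟨by rw [h3]; simp, EichTab.eichler_mem h4⟩
  refine nsonB2.EG_le isHypB2_13 (z := eichB2.rep.bv eB2 F 0) ?_ (by rw [Q_bvB2_0]; exact one_ne_zero) _
    (key 1 (by simp)) (key 3 (by simp))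
  rw [mem_perp2, (polB2_left _).1, (polB2_left _).2.2.1]
  simp [bvB2_inl, bvB2_inr]

theorem exists_diagB2 (g : OG (oddQF 2 F)) :
    ∃ k ∈ EG (oddQF 2 F), ∀ a, ∃ c : F, (k * g).1 (Pi.single a 1) = c • Pi.single a 1 := by
  have hz : ∀ b, b = 1 ∨ b = 2 ∨ b = 3 ∨ b = 4 →
      polar (oddQF 2 F) (eichB2.rep.bv eB2 F b) (eichB2.rep.bv eB2 F 0) = 0 := by
    obtain ⟨k1, k2, k3, k4⟩ := polB2_left (eichB2.rep.bv eB2 F 0)
    rintro b (rfl | rfl | rfl | rfl)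
    · rw [k1]; simp [bvB2_inr]
    · rw [k2]; simp [bvB2_inr]
    · rw [k3]; simp [bvB2_inl]
    · rw [k4]; simp [bvB2_inl]
  have hz0 : oddQF 2 F (eichB2.rep.bv eB2 F 0) ≠ 0 := by rw [Q_bvB2_0]; exact one_ne_zero
  obtain ⟨k, hk, c, hc, h1, h3⟩ := nsonB2.exists_map_isHyp_smul trivial trivial isHypB2_13 trivial
    (mem_perp2.2 ⟨hz 1 (by simp), hz 3 (by simp)⟩) hz0 (EG _) (fun _ _ _ _ => trivial)
    (fun v _ => eichler_mem_EG _ v) (fun v _ => eichler_mem_EG _ v) trivial trivial (isHypB2_13.map g)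
  rw [← OG.mul_apply] at h1 h3
  let U := Submodule.span F {eichB2.rep.bv eB2 F 1, eichB2.rep.bv eB2 F 3}
  have hU : ∀ b, b = 2 ∨ b = 4 → eichB2.rep.bv eB2 F b ∈ perp (oddQF 2 F) U := by
    intro b hb
    rw [mem_perp_span_pair, (polB2_left _).1, (polB2_left _).2.2.1]
    rcases hb with rfl | rfl <;> simp [bvB2_inl, bvB2_inr]
  have hU' : ∀ x ∈ perp (oddQF 2 F) U, (k * g).1 x ∈ perp (oddQF 2 F) U := by
    intro x hx
    rw [mem_perp_span_pair] at hx ⊢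
    exact ⟨polar_map_eq_zero hc h1 hx.1, polar_map_eq_zero (inv_ne_zero hc) h3 hx.2⟩
  have hns : NSon (oddQF 2 F) (perp (oddQF 2 F) U) := by
    intro x hx h0 hx0
    rw [mem_perp_span_pair] at hx
    obtain ⟨b, hb, hb'⟩ := nsonB2_aux h0 hx0
    refine ⟨_, hU b ?_, by rwa [polar_comm]⟩
    rcases hb with rfl | rfl | rfl | rfl
    · exact absurd hx.1 hb'
    · simp
    · exact absurd hx.2 hb'
    · simp
  obtain ⟨l, hl, d, hd, h2, h4⟩ := hns.exists_map_isHyp_smul (hU 2 (by simp)) (hU 4 (by simp))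
    isHypB2_24 (mem_perp_span_pair.2 ⟨hz 1 (by simp), hz 3 (by simp)⟩)
    (mem_perp2.2 ⟨hz 2 (by simp), hz 4 (by simp)⟩) hz0 (EG _ ⊓ fixer _ U)
    (fun g hg x hx => fixer_map_perp hg.2 hx)
    (fun v hv => ⟨eichler_mem_EG _ v, eichler_mem_fixer (hU 2 (by simp)) hv⟩)
    (fun v hv => ⟨eichler_mem_EG _ v, eichler_mem_fixer (hU 4 (by simp)) hv⟩)
    (hU' _ (hU 2 (by simp))) (hU' _ (hU 4 (by simp))) (isHypB2_24.map (k * g))
  rw [← OG.mul_apply, ← mul_assoc] at h2 h4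
  have h1' : (l * k * g).1 (eichB2.rep.bv eB2 F 1) = c • eichB2.rep.bv eB2 F 1 := by
    rw [mul_assoc, OG.mul_apply, h1, map_smul, hl.2 _ (Submodule.subset_span (by simp))]
  have h3' : (l * k * g).1 (eichB2.rep.bv eB2 F 3) = c⁻¹ • eichB2.rep.bv eB2 F 3 := by
    rw [mul_assoc, OG.mul_apply, h3, map_smul, hl.2 _ (Submodule.subset_span (by simp))]
  have h0 := eq_smul_bvB2 (polar_map_eq_zero hc h1' (hz 1 (by simp)))
    (polar_map_eq_zero hd h2 (hz 2 (by simp))) (polar_map_eq_zero (inv_ne_zero hc) h3' (hz 3 (by simp)))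
    (polar_map_eq_zero (inv_ne_zero hd) h4 (hz 4 (by simp)))
  refine ⟨l * k, mul_mem hl.1 hk, fun a => ?_⟩
  rw [← RepTab.bv_apply (R := eichB2.rep) (e := eB2)]
  have ha : (eB2 a : ℕ) < 5 := (eB2 a).2
  generalize (eB2 a : ℕ) = b at ha
  interval_cases b
  exacts [⟨_, h0⟩, ⟨_, h1'⟩, ⟨_, h2⟩, ⟨_, h3'⟩, ⟨_, h4⟩]

theorem commutator_odd_two (hF : ∃ a : F, a ≠ 0 ∧ a ≠ 1) :
    commutator (OG (oddQF 2 F)) = Gs chevB2 (eichB2.y eB2 (oddQF 2 F)) :=
  le_antisymm ((commutator_le_of_diag _ exists_diagB2).trans EG_le_GsB2)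
    (isSt0_eichB2.Gs_le_commutator (by simp) fun _ => hF)

theorem GsB2_ne_bot : Gs chevB2 (eichB2.y eB2 (oddQF 2 F)) ≠ ⊥ := by
  rw [Ne, eq_bot_iff]
  intro h
  have h1 := h (EichTab.eichler_mem (D := chevB2) (u := 1) (v := 2) (by decide +kernel) 1)
  have h2 := congrArg (fun g : OG (oddQF 2 F) => g.1 (eichB2.rep.bv eB2 F 4) (.inr (.inl 0)))
    (Subgroup.mem_bot.1 h1)
  simp only [one_smul] at h2
  rw [eichler_apply isHypB2_13.left
    (by rw [polB2 1 (by decide) 2 (by decide)]; simp [eichB2, Nat.beq]), polB2 4 (by decide) 2 (by decide),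
    polB2 4 (by decide) 1 (by decide)] at h2
  simp only [Pi.add_apply, Pi.sub_apply, Pi.smul_apply, OG.one_apply, bvB2_inl] at h2
  simp [eichB2, Nat.beq] at h2

theorem nonempty_chevB2_equiv (hF : ∃ a : F, a ≠ 0 ∧ a ≠ 1) :
    Nonempty (chevB2.group F ≃* POmega F (quadFormOdd 2 F)) := by
  obtain ⟨φ⟩ := (isSt0_eichB2 (F := F)).nonempty_Gs_quot (by simp) (fun _ => hF)
    (commutator_odd_two hF) (by rw [commutator_odd_two hF]; exact GsB2_ne_bot)
  exact ⟨φ.symm.trans (pOmegaCongr (oddEquiv 2 F)).symm⟩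

end Cfsg.Agent.Chev
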