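import Mathlib

/-!
# Joint eigenspaces of commuting endomorphisms of prime order
-/

set_option autoImplicit false

namespace Cfsg.Agent.Chev.AS

open Module Function

variable {k V : Type*} [Field k] [AddCommGroup V] [Module k V] {q : ℕ}

/-- A parametrisation of the `q`-th roots of unity. -/
structure Psi (ψ : AddChar (ZMod q) k) : Prop where
  inj : Injective ψ
  surj : ∀ a : k, a ^ q = 1 → ∃ x, ψ x = a
  ne : (q : k) ≠ 0

theorem exists_psi [IsAlgClosed k] (hq : (q : k) ≠ 0) : ∃ ψ : AddChar (ZMod q) k, Psi ψ := by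
  have hq0 : q ≠ 0 := by rintro rfl; simp at hq
  have : NeZero q := ⟨hq0⟩
  have : NeZero (q : k) := ⟨hq⟩
  obtain ⟨z, hz⟩ := HasEnoughRootsOfUnity.exists_primitiveRoot k q
  refine ⟨AddChar.zmodChar q hz.pow_eq_one, fun a b h => ZMod.val_injective q
    (hz.pow_inj (ZMod.val_lt a) (ZMod.val_lt b) h), fun a ha => ?_, hq⟩
  obtain ⟨i, -, rfl⟩ := hz.eq_pow_of_pow_eq_one ha
  exact ⟨i, AddChar.zmodChar_apply' _ _⟩

theorem psi_ne (ψ : AddChar (ZMod q) k) (x : ZMod q) : ψ x ≠ 0 :=
  (ψ.val_isUnit x).ne_zero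

/-- The joint eigenspace. -/
def J (ψ : AddChar (ZMod q) k) {ι : Type*} (c : ι → End k V) (χ : ι → ZMod q) : Submodule k V :=
  ⨅ i, (c i).eigenspace (ψ (χ i))

/-- The dimension of an eigenspace. -/
noncomputable def ed (ψ : AddChar (ZMod q) k) (g : End k V) (x : ZMod q) : ℕ :=
  finrank k (g.eigenspace (ψ x))

/-- The dimension of a joint eigenspace. -/
noncomputable def mu (ψ : AddChar (ZMod q) k) {ι : Type*} (c : ι → End k V) (χ : ι → ZMod q) : ℕ :=
  finrank k (J ψ c χ)

variable {ψ : AddChar (ZMod q) k} {ι : Type*} {c : ι → End k V}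

theorem mem_J {χ : ι → ZMod q} {x : V} : x ∈ J ψ c χ ↔ ∀ i, c i x = ψ (χ i) • x := by
  simp [J, Submodule.mem_iInf]

/-- Commuting endomorphisms of order dividing `q`. -/
structure Fam (q : ℕ) (c : ι → End k V) : Prop where
  comm : ∀ i j, Commute (c i) (c j)
  pow : ∀ i, c i ^ q = 1

theorem pow_apply_of_eq {g : End k V} {a : k} {x : V} (h : g x = a • x) (n : ℕ) :
    (g ^ n) x = a ^ n • x := by
  induction n with
  | zero => simp
  | succ n ih => rw [pow_succ, End.mul_apply, h, map_smul, ih, smul_smul, pow_succ']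

theorem Fam.indep (hψ : Psi ψ) (h : Fam q c) : iSupIndep (J ψ c) := by
  have := End.independent_iInf_maxGenEigenspace_of_forall_mapsTo c
    (fun i j φ => End.mapsTo_maxGenEigenspace_of_comm (h.comm _ _) φ)
  exact (this.comp (f := fun (χ : ι → ZMod q) i => ψ (χ i))
    fun a b e => funext fun i => hψ.inj (congrFun e i)).mono fun χ =>
      iInf_mono fun g => End.eigenspace_le_maxGenEigenspace

theorem Fam.span [FiniteDimensional k V] [IsAlgClosed k] (hψ : Psi ψ) (h : Fam q c) :
    ⨆ χ, J ψ c χ = ⊤ := by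
  have hss : ∀ i, (c i).IsSemisimple := fun i =>
    End.isSemisimple_of_squarefree_aeval_eq_zero
      (Polynomial.separable_X_pow_sub_C (1 : k) hψ.ne one_ne_zero).squarefree (by simp [h.pow])
  have := End.iSup_iInf_maxGenEigenspace_eq_top_of_iSup_maxGenEigenspace_eq_top_of_commute c
    (fun i j _ => h.comm i j) (fun g => End.iSup_maxGenEigenspace_eq_top _)
  rw [eq_top_iff, ← this]
  refine iSup_le fun φ x hx => ?_
  by_cases h0 : x = 0
  · simp [h0]
  have h1 : ∀ i, c i x = φ i • x := fun i => by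
    have := (Submodule.mem_iInf _).1 hx i
    rwa [(hss i).isFinitelySemisimple.maxGenEigenspace_eq_eigenspace, End.mem_eigenspace_iff] at this
  have h2 : ∀ i, ∃ y, ψ y = φ i := fun i => hψ.surj _ (by
    have := pow_apply_of_eq (h1 i) q
    rw [h.pow, End.one_apply] at this
    exact smul_left_injective k h0 (this.symm.trans (one_smul k x).symm))
  choose χ hχ using h2
  exact Submodule.mem_iSup_of_mem χ (mem_J.2 fun i => by rw [hχ, h1])

theorem finrank_eq_sum_of_indep [FiniteDimensional k V] {ι : Type*} [Fintype ι]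
    {D : ι → Submodule k V} (h1 : iSupIndep D) (h : iSup D = ⊤) :
    finrank k V = ∑ i, finrank k (D i) := by
  classical
  rw [← finrank_directSum]
  exact (LinearEquiv.ofBijective (DirectSum.coeLinearMap D)
    (DirectSum.isInternal_submodule_of_iSupIndep_of_iSup_eq_top h1 h)).finrank_eq.symm

theorem finrank_comap_subtype (U W : Submodule k V) :
    finrank k (W.comap U.subtype) = finrank k ↥(U ⊓ W) := by
  rw [← Submodule.map_comap_subtype, Submodule.finrank_map_subtype_eq]

variable [FiniteDimensional k V] [IsAlgClosed k] [NeZero q]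

section Fin

variable [Fintype ι] [DecidableEq ι]

theorem Fam.finrank_top (hψ : Psi ψ) (h : Fam q c) : finrank k V = ∑ χ, mu ψ c χ :=
  finrank_eq_sum_of_indep (h.indep hψ) (h.span hψ)

theorem Fam.finrank_eq (hψ : Psi ψ) (h : Fam q c) (U : Submodule k V)
    (hU : ∀ i, ∀ x ∈ U, c i x ∈ U) : finrank k U = ∑ χ, finrank k ↥(U ⊓ J ψ c χ) := by
  have h1 : Fam q fun i => (c i).restrict (hU i) :=
    ⟨fun i j => LinearMap.ext fun x => Subtype.ext (LinearMap.congr_fun (h.comm i j).eq x),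
      fun i => LinearMap.ext fun x => Subtype.ext (by
        rw [End.pow_restrict _ (hU i)]; simp [h.pow])⟩
  rw [h1.finrank_top hψ]
  refine Finset.sum_congr rfl fun χ _ => ?_
  rw [← finrank_comap_subtype, mu, show J ψ (fun i => (c i).restrict (hU i)) χ =
    (J ψ c χ).comap U.subtype from Submodule.ext fun x => by simp [mem_J, Subtype.ext_iff]]

theorem Fam.ed_eq (hψ : Psi ψ) (h : Fam q c) {g : End k V} (hg : ∀ i, Commute g (c i))
    (φ : (ι → ZMod q) → ZMod q) (hφ : ∀ χ, ∀ x ∈ J ψ c χ, g x = ψ (φ χ) • x) (a : ZMod q) :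
    ed ψ g a = ∑ χ, if φ χ = a then mu ψ c χ else 0 := by
  rw [ed, h.finrank_eq hψ _ fun i x hx => End.mem_eigenspace_iff.2 (by
    rw [← End.mul_apply, (hg i).eq, End.mul_apply, End.mem_eigenspace_iff.1 hx, map_smul])]
  refine Finset.sum_congr rfl fun χ _ => ?_
  split_ifs with e
  · rw [inf_eq_right.2 fun x hx => End.mem_eigenspace_iff.2 (e ▸ hφ χ x hx), mu]
  · rw [Submodule.finrank_eq_zero, eq_bot_iff]
    rintro x ⟨h1, h2⟩
    by_contra h0
    exact e (hψ.inj (smul_left_injective k h0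
      ((hφ χ x h2).symm.trans (End.mem_eigenspace_iff.1 h1))))

end Fin

omit [IsAlgClosed k] [NeZero q] in
theorem finrank_le_of_map {U W : Submodule k V} {h : End k V} (hh : Injective h)
    (hU : ∀ x ∈ U, h x ∈ W) : finrank k U ≤ finrank k W :=
  LinearMap.finrank_le_finrank_of_injective (f := h.restrict hU) fun _ _ e =>
    Subtype.ext (hh (congrArg Subtype.val e))

omit [IsAlgClosed k] [NeZero q] in
theorem mu_le {h : End k V} (hh : Injective h) {π : ι → ι} {n : ι → ℕ}
    (H : ∀ i, c i * h = h * c (π i) ^ n i) (χ : ι → ZMod q) :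
    mu ψ c χ ≤ mu ψ c fun i => n i * χ (π i) :=
  finrank_le_of_map hh fun x hx => mem_J.2 fun i => by
    rw [← End.mul_apply, H, End.mul_apply, pow_apply_of_eq (mem_J.1 hx _), map_smul,
      ← AddChar.map_nsmul_eq_pow, nsmul_eq_mul]

theorem eq_of_le_comp {X : Type*} [Finite X] {f : X → ℕ} {T : X → X} (hT : Injective T)
    (h : ∀ x, f x ≤ f (T x)) (x : X) : f (T x) = f x := by
  have := Fintype.ofFinite X
  have h1 : ∑ x, f x = ∑ x, f (T x) :=
    (Equiv.sum_comp (Equiv.ofBijective T (Finite.injective_iff_bijective.1 hT)) f).symm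
  exact ((Finset.sum_eq_sum_iff_of_le fun x _ => h x).1 h1 x (Finset.mem_univ _)).symm

omit [IsAlgClosed k] in
theorem mu_eq [Finite ι] [Fact q.Prime] {h : End k V} (hh : Injective h) {π : ι → ι} {n : ι → ℕ}
    (H : ∀ i, c i * h = h * c (π i) ^ n i) (hπ : Surjective π) (hn : ∀ i, (n i : ZMod q) ≠ 0)
    (χ : ι → ZMod q) : (mu ψ c fun i => n i * χ (π i)) = mu ψ c χ :=
  eq_of_le_comp (T := fun (χ : ι → ZMod q) i => n i * χ (π i)) (fun a b e => funext fun j => by
    obtain ⟨i, rfl⟩ := hπ j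
    exact mul_left_cancel₀ (hn i) (congrFun e i)) (mu_le hh H) χ

theorem eq_of_cert {X K : Type*} {m : X → ℕ} {T : K → X → X} (hT : ∀ a x, m (T a x) = m x)
    (rep : X → X) (dep : X → ℕ)
    (h : ∀ x, x = rep x ∨ ∃ a, dep (T a x) < dep x ∧ rep (T a x) = rep x) (x : X) :
    m x = m (rep x) := by
  induction e : dep x using Nat.strong_induction_on generalizing x with
  | _ n ih =>
    rcases h x with h1 | ⟨a, h1, h2⟩
    · rw [← h1]
    · rw [← hT a x, ih _ (e ▸ h1) _ rfl, h2]

section One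

variable {g : End k V}

theorem finrank_eq_sum_inf (hψ : Psi ψ) (hg : g ^ q = 1) (U : Submodule k V)
    (hU : ∀ x ∈ U, g x ∈ U) : finrank k U = ∑ a, finrank k ↥(U ⊓ g.eigenspace (ψ a)) := by
  have h : Fam q fun _ : Unit => g := ⟨fun _ _ => Commute.refl g, fun _ => hg⟩
  rw [h.finrank_eq hψ U fun _ => hU]
  refine Fintype.sum_equiv (Equiv.funUnique _ _) _ _ fun χ => ?_
  rw [J, iInf_unique]
  rfl

theorem sum_ed (hψ : Psi ψ) (hg : g ^ q = 1) : ∑ a, ed ψ g a = finrank k V := by
  rw [← finrank_top, finrank_eq_sum_inf hψ hg ⊤ fun _ _ => trivial]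
  exact Finset.sum_congr rfl fun a _ => by rw [top_inf_eq, ed]

omit [IsAlgClosed k] [NeZero q] in
theorem eq_one_of_ed (h : ed ψ g 0 = finrank k V) : g = 1 := by
  have := Submodule.eq_top_of_finrank_eq h
  ext x
  simpa using End.mem_eigenspace_iff.1 (this.ge (Submodule.mem_top (x := x)))

omit [IsAlgClosed k] in
/-- A rational element. -/
theorem ed_eq_of_rat [Fact q.Prime] {h : End k V} (hh : Injective h) {u : ℕ}
    (H : g * h = h * g ^ u) (hu : ∀ x : ZMod q, x ≠ 0 → ∃ j < q, x = (u : ZMod q) ^ j ∧ u ≠ (0 : ZMod q))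
    {x : ZMod q} (hx : x ≠ 0) : ed ψ g x = ed ψ g 1 := by
  obtain ⟨j, -, rfl, h0⟩ := hu x hx
  have key := eq_of_le_comp (f := ed ψ g) (T := fun x => (u : ZMod q) * x)
    (mul_right_injective₀ h0) fun x => finrank_le_of_map hh fun v hv => End.mem_eigenspace_iff.2 (by
      rw [← End.mul_apply, H, End.mul_apply, pow_apply_of_eq (End.mem_eigenspace_iff.1 hv), map_smul,
        ← AddChar.map_nsmul_eq_pow, nsmul_eq_mul])
  clear hx
  induction j with
  | zero => simp
  | succ j ih => rw [pow_succ', key, ih]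

theorem finrank_eq_of_rat (hψ : Psi ψ) (hg : g ^ q = 1)
    (h : ∀ x, x ≠ 0 → ed ψ g x = ed ψ g 1) :
    finrank k V = ed ψ g 0 + (q - 1) * ed ψ g 1 := by
  classical
  rw [← sum_ed hψ hg, ← Finset.add_sum_erase _ _ (Finset.mem_univ 0),
    Finset.sum_congr rfl fun x hx => h x (Finset.ne_of_mem_erase hx)]
  simp [Finset.card_erase_of_mem]

theorem ed_pos_of_rat (hψ : Psi ψ) (hg : g ^ q = 1) (h : ∀ x, x ≠ 0 → ed ψ g x = ed ψ g 1)
    (h1 : g ≠ 1) : 0 < ed ψ g 1 :=
  Nat.pos_of_ne_zero fun e => h1 (eq_one_of_ed (ψ := ψ) (by rw [finrank_eq_of_rat hψ hg h, e]; simp))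

theorem le_finrank_of_rat (hψ : Psi ψ) (hg : g ^ q = 1) (h : ∀ x, x ≠ 0 → ed ψ g x = ed ψ g 1)
    (h1 : g ≠ 1) : ed ψ g 0 + (q - 1) ≤ finrank k V := by
  rw [finrank_eq_of_rat hψ hg h]
  exact Nat.add_le_add_left (Nat.le_mul_of_pos_right _ (ed_pos_of_rat hψ hg h h1)) _

/-- Two commuting rational elements, the second inverted in the centraliser of the first. -/
theorem le_finrank_of_pair (hψ : Psi ψ) (hg : g ^ q = 1) (h : ∀ x, x ≠ 0 → ed ψ g x = ed ψ g 1)
    (h1 : g ≠ 1) {q' : ℕ} [NeZero q'] {ψ' : AddChar (ZMod q') k} (hψ' : Psi ψ') {d t : End k V}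
    (hd : d ^ q' = 1) (h' : ∀ x, x ≠ 0 → ed ψ' d x = ed ψ' d 1) (h1' : d ≠ 1) (ho : Odd q')
    (hgd : Commute g d) (hgt : Commute g t) (ht : Injective t) (htd : d * t * d = t) :
    2 * (q - 1) ≤ finrank k V ∨ (q - 1) + (q' - 1) ≤ finrank k V := by
  classical
  by_cases h2 : 2 ≤ ed ψ g 1
  · left
    rw [finrank_eq_of_rat hψ hg h, mul_comm 2]
    exact (Nat.mul_le_mul_left _ h2).trans (Nat.le_add_left _ _)
  right
  have h3 : ed ψ g 1 = 1 := by have := ed_pos_of_rat hψ hg h h1; omega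
  refine le_trans (Nat.add_le_add_right ?_ _) (le_finrank_of_rat hψ' hd h' h1')
  have hm : ∀ {s : End k V}, Commute g s → ∀ a, ∀ x ∈ g.eigenspace a, s x ∈ g.eigenspace a :=
    fun hs a x hx => End.mem_eigenspace_iff.2 (by
      rw [← End.mul_apply, hs.eq, End.mul_apply, End.mem_eigenspace_iff.1 hx, map_smul])
  have h4 : ∀ a, a ≠ 0 → g.eigenspace (ψ a) ≤ d.eigenspace (ψ' 0) := fun a ha x hx => by
    by_cases h0 : x = 0
    · simp [h0]
    have h5 := (finrank_eq_one_iff_of_nonzero' (⟨x, hx⟩ : g.eigenspace (ψ a))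
      (fun e => h0 (congrArg Subtype.val e))).1 ((h a ha).trans h3)
    obtain ⟨l, hl⟩ := h5 ⟨_, hm hgd _ x hx⟩
    obtain ⟨m, hm⟩ := h5 ⟨_, hm hgt _ x hx⟩
    have e1 : d x = l • x := (congrArg Subtype.val hl).symm
    have e2 : t x = m • x := (congrArg Subtype.val hm).symm
    have e3 := LinearMap.congr_fun htd x
    rw [End.mul_apply, End.mul_apply, e1, map_smul, e2, map_smul, map_smul, e1, smul_smul,
      smul_smul] at e3
    have e4 : m ≠ 0 := by
      rintro rfl
      exact h0 (ht (by rw [e2]; simp))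
    have e5 : l ^ 2 = 1 := mul_left_cancel₀ e4 (by
      rw [mul_one]
      exact Eq.trans (by ring) (smul_left_injective k h0 e3))
    have e6 : l ^ q' = 1 := by
      have := pow_apply_of_eq e1 q'
      rw [hd, End.one_apply] at this
      exact smul_left_injective k h0 (this.symm.trans (one_smul k x).symm)
    obtain ⟨j, rfl⟩ := ho
    rw [pow_succ, pow_mul, e5, one_pow, one_mul] at e6
    rw [End.mem_eigenspace_iff, e1, e6, AddChar.map_zero_eq_one]
  rw [ed, finrank_eq_sum_inf hψ hg _ fun x hx => End.mem_eigenspace_iff.2 (by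
    rw [← End.mul_apply, ← hgd.eq, End.mul_apply, End.mem_eigenspace_iff.1 hx, map_smul]),
    ← Finset.add_sum_erase _ _ (Finset.mem_univ 0), Finset.sum_congr rfl (g := fun _ => 1)
      fun a ha => by
        rw [inf_eq_right.2 (h4 a (Finset.ne_of_mem_erase ha))]
        exact (h a (Finset.ne_of_mem_erase ha)).trans h3]
  simp [Finset.card_erase_of_mem]

end One

omit [IsAlgClosed k] in
/-- Operators that are multiplied by distinct characters under conjugation are independent. -/
theorem card_le_sq {A S Y : Type*} [Group A] [Fintype S] [Monoid Y] (ρ : A →* End k V) (x : S → A)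
    (y : Y → A) (l : S → Y →* k) (hl : Injective l) {W : Submodule k V} (hW : W ≠ ⊥)
    (h1 : ∀ g, ∀ w ∈ W, ρ (y g)⁻¹ w ∈ W)
    (h2 : ∀ s g, ∀ w ∈ W, ρ (y g * x s * (y g)⁻¹) w = l s g • ρ (x s) w) :
    Fintype.card S ≤ finrank k V ^ 2 := by
  have h3 : LinearIndependent k fun s => (ρ (x s)).domRestrict W := by
    refine Fintype.linearIndependent_iff.2 fun a ha s => ?_
    obtain ⟨w, hw, h0⟩ := Submodule.exists_mem_ne_zero_of_ne_bot hW
    have h4 : ρ (x s) w ≠ 0 := fun e => h0 (by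
      rw [← End.one_apply (R := k) w, ← map_one ρ, ← inv_mul_cancel (x s), map_mul, End.mul_apply, e,
        map_zero])
    obtain ⟨f, hf⟩ := Module.Projective.exists_dual_ne_zero k h4
    have h5 := Fintype.linearIndependent_iff.1 ((linearIndependent_monoidHom Y k).comp l hl)
      (fun s => a s * f (ρ (x s) w)) (funext fun g => by
        have e := congrArg (fun φ => f (ρ (y g) (φ ⟨_, h1 g w hw⟩))) ha
        simp only [LinearMap.sum_apply, LinearMap.smul_apply, LinearMap.domRestrict_apply, map_sum,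
          map_smul, LinearMap.zero_apply, map_zero, ← End.mul_apply, ← map_mul, ← mul_assoc,
          h2 _ _ _ hw] at e
        simpa [Finset.sum_apply, mul_assoc, mul_comm (l _ g)] using e) s
    exact (mul_eq_zero.1 h5).resolve_right hf
  refine h3.fintype_card_le_finrank.trans ?_
  rw [Module.finrank_linearMap, sq]
  exact Nat.mul_le_mul_right _ W.finrank_le

end Cfsg.Agent.Chev.AS
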