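import Mathlib
import Cfsg.Agent.Chev.ASChev

/-!
# Families of commuting cycles
-/

set_option autoImplicit false

namespace Cfsg.Agent.Chev.AS

open Module Function Subgroup Equiv Equiv.Perm

universe u

/-- The number of non-zero entries. -/
def wt {m q : ℕ} (χ : Fin m → ZMod q) : ℕ := (Finset.univ.filter fun i => χ i ≠ 0).card

/-- The standard vector of given weight. -/
def std (m q w : ℕ) : Fin m → ZMod q := fun i => if i.val < w then 1 else 0

/-- Commuting cycles and even permutations normalising the group they generate. -/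
structure FamData (r m q t : ℕ) where
  c : Fin m → Perm (Fin r)
  σ : Fin t → Perm (Fin r)
  π : Fin t → Fin m → Fin m
  n : Fin t → Fin m → ℕ
  dep : ℕ

namespace FamData

variable {r m q t : ℕ} (X : FamData r m q t)

/-- The action on characters. -/
def T (a : Fin t) (χ : Fin m → ZMod q) : Fin m → ZMod q := fun i => X.n a i * χ (X.π a i)

/-- The distance from the standard vector. -/
def dist (χ : Fin m → ZMod q) : ℕ := dig X.dep 8 (∑ i, (χ i).val * q ^ i.val)

/-- The data are consistent. -/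
def Ok : Prop :=
  (∀ i, (X.c i).sign = 1 ∧ X.c i ^ q = 1 ∧ ∀ j, X.c i * X.c j = X.c j * X.c i) ∧
    (∀ a, (X.σ a).sign = 1 ∧ (∀ j, ∃ i, X.π a i = j) ∧
      ∀ i, (X.n a i : ZMod q) ≠ 0 ∧ X.c i * X.σ a = X.σ a * X.c (X.π a i) ^ X.n a i) ∧
    ∀ χ, χ = std m q (wt χ) ∨ ∃ a, X.dist (X.T a χ) < X.dist χ ∧ wt (X.T a χ) = wt χ

instance [NeZero q] : Decidable X.Ok := inferInstanceAs (Decidable (_ ∧ _))

end FamData

section

variable {k V : Type*} [Field k] [IsAlgClosed k] [AddCommGroup V] [Module k V]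
  [FiniteDimensional k V] {A : Type*} [Group A] [Finite A] (ρ : A →* End k V) {r m q t : ℕ}
  [hq : Fact q.Prime] {f : A →* alternatingGroup (Fin r)} (hf : Surjective f)
  (hK : ¬ q ∣ Nat.card f.ker) (ψ : AddChar (ZMod q) k)

omit [IsAlgClosed k] in
include hf hK in
theorem FamData.Ok.lift {X : FamData r m q t} (h : X.Ok) :
    ∃ c : Fin m → A, (∀ i, (f (c i) : Perm (Fin r)) = X.c i) ∧ (∀ i j, Commute (c i) (c j)) ∧
      (∀ i, c i ^ q = 1) ∧ ∃ a : ℕ → ℕ, ∀ χ, mu ψ (fun i => ρ (c i)) χ = a (wt χ) := by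
  obtain ⟨c, h1, h2, h3, h4⟩ := exists_lift_fam hf hK (fun i => ⟨X.c i, (h.1 i).1⟩)
    (fun i j => Subtype.ext ((h.1 i).2.2 j)) fun i => Subtype.ext (h.1 i).2.1
  refine ⟨c, fun i => congrArg Subtype.val (h1 i), h2, h3, fun w => mu ψ _ (std m q w),
    eq_of_cert (T := X.T) (fun a χ => ?_) (fun χ => std m q (wt χ)) X.dist fun χ =>
      (h.2.2 χ).imp_right fun ⟨a, h5, h6⟩ => ⟨a, h5, by rw [h6]⟩⟩
  obtain ⟨s, hs⟩ := h4 ⟨X.σ a, (h.2.1 a).1⟩ (X.π a) (X.n a) fun i =>
    Subtype.ext ((h.2.1 a).2.2 i).2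
  exact mu_eq (rep_injective ρ s) (fun i => by rw [← map_pow, ← map_mul, ← map_mul, hs])
    (h.2.1 a).2.1 (fun i => ((h.2.1 a).2.2 i).1) χ

omit [IsAlgClosed k] in
include hf hK in
theorem RatEl.lift {g h : Perm (Fin r)} {u : ℕ} (H : RatEl q g h u) :
    ∃ c : A, c ^ q = 1 ∧ c ≠ 1 ∧ ∀ x, x ≠ 0 → ed ψ (ρ c) x = ed ψ (ρ c) 1 := by
  obtain ⟨c, h1, -, h3, h4⟩ := exists_lift_fam hf hK (fun _ : Unit => ⟨g, H.1⟩)
    (fun i j => Commute.refl _) fun i => Subtype.ext H.2.2.1
  obtain ⟨s, hs⟩ := h4 ⟨h, H.2.1⟩ id (fun _ => u) fun i => Subtype.ext H.2.2.2.2.1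
  refine ⟨c (), h3 (), fun e => H.2.2.2.1 (congrArg Subtype.val ((h1 ()).symm.trans
    (by rw [e, map_one]))), fun _ => ed_eq_of_rat (rep_injective ρ s)
      (by rw [← map_pow, ← map_mul, ← map_mul, hs ()]) H.2.2.2.2.2⟩

omit hq in
theorem sum_wt [NeZero q] (P : (Fin m → ZMod q) → Prop) [DecidablePred P] (a : ℕ → ℕ) {L : List ℕ}
    (h : ∀ w < m + 1, (Finset.univ.filter fun χ => P χ ∧ wt χ = w).card = L.getD w 0) :
    (∑ χ, if P χ then a (wt χ) else 0) = ∑ w ∈ Finset.range (m + 1), L.getD w 0 * a w := by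
  rw [← Finset.sum_filter, ← Finset.sum_fiberwise_of_maps_to (t := Finset.range (m + 1)) (g := wt)
    fun χ _ => Finset.mem_range.2 (Nat.lt_succ_of_le ((Finset.card_le_univ _).trans (by simp)))]
  refine Finset.sum_congr rfl fun w hw => ?_
  rw [Finset.filter_filter, ← h w (Finset.mem_range.1 hw),
    Finset.sum_congr rfl (g := fun _ => a w) fun χ hχ => by rw [(Finset.mem_filter.1 hχ).2.2]]
  simp

variable {ψ} {c : Fin m → End k V} {a : ℕ → ℕ}

theorem Fam.finrank_wt (hψ : Psi ψ) (h : Fam q c) (ha : ∀ χ, mu ψ c χ = a (wt χ)) {L : List ℕ}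
    (hL : ∀ w < m + 1, (Finset.univ.filter fun χ : Fin m → ZMod q => True ∧ wt χ = w).card =
      L.getD w 0) : finrank k V = ∑ w ∈ Finset.range (m + 1), L.getD w 0 * a w := by
  rw [h.finrank_top hψ, ← sum_wt _ a hL]
  simp [ha]

theorem Fam.ed_wt (hψ : Psi ψ) (h : Fam q c) (ha : ∀ χ, mu ψ c χ = a (wt χ)) {g : End k V}
    (hg : ∀ i, Commute g (c i)) (φ : (Fin m → ZMod q) → ZMod q)
    (hφ : ∀ χ, ∀ x ∈ J ψ c χ, g x = ψ (φ χ) • x) {L L' : List ℕ}
    (hL : ∀ x, ∀ w < m + 1, (Finset.univ.filter fun χ : Fin m → ZMod q => φ χ = x ∧ wt χ = w).card =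
      (if x = 0 then L else L').getD w 0) : (∀ x, x ≠ 0 → ed ψ g x = ed ψ g 1) ∧
        ed ψ g 0 = ∑ w ∈ Finset.range (m + 1), L.getD w 0 * a w := by
  have key : ∀ x, ed ψ g x = ∑ w ∈ Finset.range (m + 1), (if x = 0 then L else L').getD w 0 * a w :=
    fun x => by simp only [h.ed_eq hψ hg φ hφ, ha, sum_wt _ a (hL x)]
  exact ⟨fun x hx => by rw [key, key, if_neg hx, if_neg one_ne_zero], by rw [key, if_pos rfl]⟩

theorem Fam.ed_one (hψ : Psi ψ) (h : Fam q c) (ha : ∀ χ, mu ψ c χ = a (wt χ)) (i : Fin m)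
    {L L' : List ℕ}
    (hL : ∀ x, ∀ w < m + 1, (Finset.univ.filter fun χ : Fin m → ZMod q => χ i = x ∧ wt χ = w).card =
      (if x = 0 then L else L').getD w 0) : (∀ x, x ≠ 0 → ed ψ (c i) x = ed ψ (c i) 1) ∧
        ed ψ (c i) 0 = ∑ w ∈ Finset.range (m + 1), L.getD w 0 * a w :=
  h.ed_wt hψ ha (h.comm i) (fun χ => χ i) (fun _ _ hx => mem_J.1 hx i) hL

theorem Fam.ed_two (hψ : Psi ψ) (h : Fam q c) (ha : ∀ χ, mu ψ c χ = a (wt χ)) (i j : Fin m)
    {L L' : List ℕ} (hL : ∀ x, ∀ w < m + 1, (Finset.univ.filter fun χ : Fin m → ZMod q =>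
      χ i + χ j = x ∧ wt χ = w).card = (if x = 0 then L else L').getD w 0) :
    (∀ x, x ≠ 0 → ed ψ (c i * c j) x = ed ψ (c i * c j) 1) ∧
      ed ψ (c i * c j) 0 = ∑ w ∈ Finset.range (m + 1), L.getD w 0 * a w :=
  h.ed_wt hψ ha (fun l => (h.comm i l).mul_left (h.comm j l)) (fun χ => χ i + χ j)
    (fun _ _ hx => by
      rw [End.mul_apply, mem_J.1 hx, map_smul, mem_J.1 hx, smul_smul, AddChar.map_add_eq_mul,
        mul_comm]) hL

omit hq [IsAlgClosed k] [FiniteDimensional k V] [Finite A] in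
theorem fam_of {ι : Type*} {c : ι → A} (h1 : ∀ i j, Commute (c i) (c j)) (h2 : ∀ i, c i ^ q = 1) :
    Fam q fun i => ρ (c i) :=
  ⟨fun i j => (h1 i j).map ρ, fun i => by rw [← map_pow, h2, map_one]⟩

end

/-- The family of 2 cycles of length 7. -/
def fam7 : FamData 14 2 7 3 where
  c := ![c[0, 1, 2, 3, 4, 5, 6], c[7, 8, 9, 10, 11, 12, 13]]
  σ := ![c[1, 3, 2, 6, 4, 5] * c[8, 10, 9, 13, 11, 12],
    c[0, 7] * c[1, 10, 3, 9, 2, 13, 6, 11, 4, 12, 5, 8],
    c[1, 2, 4] * c[3, 6, 5]]
  π := ![![0, 1], ![1, 0], ![0, 1]]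
  n := ![![5, 5], ![1, 5], ![4, 1]]
  dep := 0x3040403030503050505040406040405040304050302030301020402030403020204020203020101000102030201010000

theorem fam7_ok : fam7.Ok := by decide +kernel

/-- The family of 3 cycles of length 5. -/
def fam5 : FamData 15 3 5 4 where
  c := ![c[0, 1, 2, 3, 4], c[5, 6, 7, 8, 9], c[10, 11, 12, 13, 14]]
  σ := ![c[1, 2, 4, 3] * c[6, 7, 9, 8],
    c[0, 5] * c[1, 7, 2, 9, 4, 8, 3, 6],
    c[0, 5, 10] * c[1, 6, 11] * c[2, 7, 12] * c[3, 8, 13] * c[4, 9, 14],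
    c[1, 4] * c[2, 3]]
  π := ![![0, 1, 2], ![1, 0, 2], ![2, 0, 1], ![0, 1, 2]]
  n := ![![3, 3, 1], ![1, 3, 1], ![1, 1, 1], ![4, 1, 1]]
  dep := 0x405040404050505050504040304040304030203030403020205050505050606050505040504040404040303040404030303040404040405050404040304030303030302020303030202020203020303030303040402020103030102010002020302010102030203020303030403020201030201020100010102010000

theorem fam5_ok : fam5.Ok := by decide +kernel

/-- The family of 4 cycles of length 3. -/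
def fam34 : FamData 12 4 3 3 where
  c := ![c[0, 1, 2], c[3, 4, 5], c[6, 7, 8], c[9, 10, 11]]
  σ := ![c[1, 2] * c[4, 5],
    c[0, 3] * c[1, 5, 2, 4],
    c[0, 3, 6, 9] * c[1, 5, 8, 11, 2, 4, 7, 10]]
  π := ![![0, 1, 2, 3], ![1, 0, 2, 3], ![3, 0, 1, 2]]
  n := ![![2, 2, 1, 1], ![1, 2, 1, 1], ![1, 2, 1, 1]]
  dep := 0x40404030403030403030303020204020302030303020203020202040404030404030403010205010004040303020202010303010201040504050403040403010204010004040302010202010001010000

theorem fam34_ok : fam34.Ok := by decide +kernel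

/-- The family of 6 cycles of length 3. -/
def fam36 : FamData 18 6 3 3 where
  c := ![c[0, 1, 2], c[3, 4, 5], c[6, 7, 8], c[9, 10, 11], c[12, 13, 14], c[15, 16, 17]]
  σ := ![c[1, 2] * c[4, 5],
    c[0, 3] * c[1, 5, 2, 4],
    c[0, 3, 6, 9, 12, 15] * c[1, 5, 8, 11, 14, 17, 2, 4, 7, 10, 13, 16]]
  π := ![![0, 1, 2, 3, 4, 5], ![1, 0, 2, 3, 4, 5], ![5, 0, 1, 2, 3, 4]]
  n := ![![2, 2, 1, 1, 1, 1], ![1, 2, 1, 1, 1, 1], ![1, 2, 1, 1, 1, 1]]
  dep := 0x606060506050506050505050405060405040505050405060405040606060506060506050404070304060607060404040304050304030909090a0a0a0b0a0b04040903040a0a0a0b0404040304050304030707070607060607060505060405070506050505050405060405040707070607060607060303060202070506050606060505060505050a08080909090a090b0303090203090a0a0b0303030203040203020807070808070808070908080908080909060a09090a09090a09050808080909070809070303080202080909060a08080909090a0905080707080807080807030308020208090806030303020203020202070707060606060606060606050506050505060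60605050605050507070706060706060604040703040706070605050504040504040409080909090a0a0a0a04040a03040a0a090a0404040304050304030707070607060607060606060505070506050606060505060505050707070607070607060102080100070706060505050406060405040909090a0a090a0a0a04050a04030a0b0a0b0405050403040403030708070908060708060809070809080908050a090a0a0a0a0a09050809080909070809060202080103070809070909090a0a090a0a040808080909080909070202090103080909070202020103030102010607060706050606050707060708060605040b0a070b0a060605040708070807060706050708070807060707060a09060a0a050504030808080909070809060809080909070809060808050909050404030708070707060707060808070808070606050b0a070b0b060605040708070807060707060102070100070706050a0a060b0b07050604070807090806070806080907080908090805090905090a04040302060706070705060705070806070807060704080907080907060604070807080806070805010207010006070705070806090806050603060706080705060705010206010006070704010202010001010000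

theorem fam36_ok : fam36.Ok := by decide +kernel

end Cfsg.Agent.Chev.AS
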