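import Mathlib
import Cfsg.Prelude.Def_E6
import Cfsg.Agent.Chev.E6Rep

/-!
# The cubic form in 27 variables: polarisations and tables
-/

set_option autoImplicit false

namespace Cfsg.Agent.Chev.E6R

open Cfsg Cfsg.Lie Matrix

def thT : ℕ := 0x12982b640007000c0045cb000000000004814a82e50008000c000001172c00000009d016b8040004000000000000045cb04a6000018c810001c003020d5000000012050000601a014002000300000835400027400000ce8001000100000000000020d502b6063200000040007000cf6240000000a82f806800000050008000c0003d8900016b833a000000004000400000000000f625051000000000000095018dd0019003000000041440000000240b601d7002c00540000000001051000052c0d7028004c00900072040000000025400000f8034006400c000001c810000902c0003c1105c00b001500000000072054b0000084400a00130024030c00000000018d03e0000000d001900300000c300000601cf0440000017002c0054000000030c0d70211000000028004c00944008000f00357a00000000000000080647000d0018000000d5e800000000002180ab00140024000000000357a000008804280110020003c19b4c00000000002000006381c00340060000066d300000008000180802c00500090000000019b4c22000003a000044008000fc56400000000064018e0000007000d001800031590000180a6020000000b001400240000000c5644280e800000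

def cfT : ℕ := 0x156121451405555469051455405558491451555404956114510155645464514550152558514515550184955145005551a45545145405612555145155400155556121451550155469051455550158491451405554956114515405645464514555402558514510155584955145150151a45545145550212555145051450155556121451550155469051455550158494514405554956114515405645464514555402558545140155584955145150151a4554514555021255

def rtT : ℕ := 0x3ae120000980000070d80850401528000007849fa908c550072012000098000407c0458800c177849f800001687683c7000001200009800d1801bb600284a908c5687680000046000003ae1280007001a8402015004c00000ec8be500d800460150072012804000f45010cc002cec8be000002c0ccc000463c700000128d002db806a28008500d82c0ccc000008400044000003ae0d9a0106000284c0000001d107a9c12f00840004401500727cf00890c0172c01d107a0000056159000084000443c700182c0366a00488009c12f5615900000000000ad3ba58a1d8046863000064000004e0002d0c0086aad3ba000002d52f120044023000064000290401788004b658a1dad52f00000099280000230000640158400c450029b80000028220181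9102000004684000004c01a2c00f08002c28220000000e10900020120044000002800d97007c48018181910e109000000000029928000000150070c00402800d00000325ef59b07cb80008e00000468601a010cf006a2c0325ef400000d18bf00b80008e012004504d80887c03618019b07cd18bf000000000b80008e9928084700454001b8d000059e0030f801a8000000d19b20e1828002b9500003c00000d61806d100378ad19b2000002d58ae3008e01500003c00010580092e005180e182ad58ac00000640000001500003c580343001b1a00e0000018b05e101823a0000002b870000d40406c020b701098b05e0000052a13803a023008e00700100098900505002a1018252a138000000003a64000000071e3400f9b0080e00000003f7cf491120e0000720000002ba1c001120808b0803f7cf400000f1dba00e000072023008e589802e500182a0091120f1dba000000000e00007264000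

/-- The signed monomials of the cubic form. -/
def L : List (ℤ × ℕ × ℕ × ℕ) := [(1, 0, 4, 8), (-1, 0, 5, 7), (-1, 1, 3, 8), (1, 1, 5, 6), (1, 2, 3, 7), (-1, 2, 4, 6), (1, 9, 13, 17), (-1, 9, 14, 16), (-1, 10, 12, 17), (1, 10, 14, 15), (1, 11, 12, 16), (-1, 11, 13, 15), (1, 18, 22, 26), (-1, 18, 23, 25), (-1, 19, 21, 26), (1, 19, 23, 24), (1, 20, 21, 25), (-1, 20, 22, 24), (-1, 0, 9, 18), (-1, 0, 10, 21), (-1, 0, 11, 24), (-1, 1, 12, 18), (-1, 1, 13, 21), (-1, 1, 14, 24), (-1, 2, 15, 18), (-1, 2, 16, 21), (-1, 2, 17, 24), (-1, 3, 9, 19), (-1, 3, 10, 22), (-1, 3, 11, 25), (-1, 4, 12, 19), (-1, 4, 13, 22), (-1, 4, 14, 25), (-1, 5, 15, 19), (-1, 5, 16, 22), (-1, 5, 17, 25), (-1, 6, 9, 20), (-1, 6, 10, 23), (-1, 6, 11, 26), (-1, 7, 12, 20), (-1, 7, 13, 23), (-1, 7, 14, 26), (-1, 8, 15, 20), (-1, 8, 16, 23), (-1, 8, 17, 26)]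

/-- The third vertex of the triangle on `a`, `c`. -/
def th (a c : ℕ) : ℕ := dig thT 5 (a * 27 + c)

/-- The sign of the triangle on `a`, `c` (zero if there is none). -/
def cf (a c : ℕ) : ℤ := Int.subNatNat (dig cfT 2 (a * 27 + c)) 1

/-- The root moving `a` to `c`. -/
def rt (a c : ℕ) : ℕ := dig rtT 7 (a * 27 + c)

/-- The index with a given code. -/
def idx (k : ℕ) : I27 := (⟨k / 9 % 3, Nat.mod_lt _ (by decide)⟩, ⟨k / 3 % 3, Nat.mod_lt _ (by decide)⟩,
  ⟨k % 3, Nat.mod_lt _ (by decide)⟩)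

/-- The codes of the indices. -/
def e : I27 ≃ Fin rep.n where
  toFun a := (⟨9 * a.1 + 3 * a.2.1 + a.2.2, by omega⟩ : Fin 27)
  invFun k := idx k
  left_inv a := by revert a; decide
  right_inv a := Fin.ext (by have : a.1 < 27 := a.2; simp only [idx]; omega)

theorem e_idx {k : ℕ} (h : k < 27) : (e (idx k) : ℕ) = k := congrArg Fin.val (e.right_inv ⟨k, h⟩)

theorem idx_e (a : I27) : idx (e a) = a := e.left_inv a

theorem e_lt (a : I27) : (e a : ℕ) < 27 := (e a).2

variable {F : Type*} [Field F]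

variable (F) in
/-- The basis vectors. -/
def b (k : ℕ) : I27 → F := rep.bv e F k

theorem b_idx (a : ℕ) {k : ℕ} (h : k < 27) : b F a (idx k) = if k = a then 1 else 0 := by
  simp only [b, RepTab.bv, e_idx h]

omit [Field F] in
theorem ext_idx {v w : I27 → F} (h : ∀ k < 27, v (idx k) = w (idx k)) : v = w :=
  funext fun a => by rw [← idx_e a]; exact h _ (e_lt a)

theorem eq_sum_b (v : I27 → F) : v = ∑ k ∈ Finset.range 27, v (idx k) • b F k := by
  refine ext_idx fun k hk => ?_
  simp only [Finset.sum_apply, Pi.smul_apply, b_idx _ hk, smul_eq_mul, mul_ite, mul_one, mul_zero,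
    Finset.sum_ite_eq, Finset.mem_range, hk, if_true]

theorem b_ne_zero {a : ℕ} (h : a < 27) : b F a ≠ 0 := fun h0 => by
  have := congrFun h0 (idx a)
  simp [b_idx _ h] at this

/-- The cubic form of a list of monomials. -/
def Tl (l : List (ℤ × ℕ × ℕ × ℕ)) (v : I27 → F) : F :=
  (l.map fun q => (q.1 : F) * (v (idx q.2.1) * v (idx q.2.2.1) * v (idx q.2.2.2))).sum

/-- Its first polarisation. -/
def Dl (l : List (ℤ × ℕ × ℕ × ℕ)) (v w : I27 → F) : F :=
  (l.map fun q => (q.1 : F) * (v (idx q.2.1) * v (idx q.2.2.1) * w (idx q.2.2.2) +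
    v (idx q.2.1) * v (idx q.2.2.2) * w (idx q.2.2.1) +
    v (idx q.2.2.1) * v (idx q.2.2.2) * w (idx q.2.1))).sum

/-- Its full polarisation. -/
def Trl (l : List (ℤ × ℕ × ℕ × ℕ)) (u v w : I27 → F) : F :=
  (l.map fun q => (q.1 : F) * (u (idx q.2.1) * w (idx q.2.2.2) * v (idx q.2.2.1) +
    (u (idx q.2.1) * w (idx q.2.2.1) * v (idx q.2.2.2) +
    (u (idx q.2.2.1) * w (idx q.2.2.2) * v (idx q.2.1) +
    (u (idx q.2.2.1) * w (idx q.2.1) * v (idx q.2.2.2) +
    (u (idx q.2.2.2) * w (idx q.2.2.1) * v (idx q.2.1) +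
    u (idx q.2.2.2) * w (idx q.2.1) * v (idx q.2.2.1))))))).sum

theorem cubicT_eq (v : I27 → F) : cubicT v = Tl L v := by
  have h : ∀ k, ∀ hk : k < 27, v (idx k) = v (⟨k / 9, by omega⟩, ⟨k / 3 % 3, by omega⟩, ⟨k % 3, by omega⟩) := by
    intro k hk
    exact congrArg v (Prod.ext (Fin.ext (Nat.mod_eq_of_lt (by omega))) rfl)
  simp only [Tl, L, List.map_cons, List.map_nil, List.sum_cons, List.sum_nil]
  simp (disch := decide) only [h]
  simp [cubicT, mat3, det_fin_three, trace, mul_apply, Fin.sum_univ_three]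
  ring

section Algebra

variable (l : List (ℤ × ℕ × ℕ × ℕ))

theorem Tl_add_smul (v w : I27 → F) (t : F) :
    Tl l (v + t • w) = Tl l v + t * Dl l v w + t ^ 2 * Dl l w v + t ^ 3 * Tl l w := by
  induction l with
  | nil => simp [Tl, Dl]
  | cons q l ih =>
    simp only [Tl, Dl, List.map_cons, List.sum_cons] at ih ⊢
    rw [ih]; simp only [Pi.add_apply, Pi.smul_apply, smul_eq_mul]; ring

theorem Dl_add (u v w : I27 → F) : Dl l (u + v) w = Dl l u w + Dl l v w + Trl l u v w := by
  induction l with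
  | nil => simp [Trl, Dl]
  | cons q l ih =>
    simp only [Trl, Dl, List.map_cons, List.sum_cons] at ih ⊢
    rw [ih]; simp only [Pi.add_apply]; ring

theorem Dl_smul (c : F) (v w : I27 → F) : Dl l (c • v) w = c ^ 2 * Dl l v w := by
  induction l with
  | nil => simp [Dl]
  | cons q l ih =>
    simp only [Dl, List.map_cons, List.sum_cons] at ih ⊢
    rw [ih]; simp only [Pi.smul_apply, smul_eq_mul]; ring

theorem Trl_swap (u v w : I27 → F) : Trl l u v w = Trl l u w v := by
  unfold Trl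
  congr 2
  funext q; ring

theorem Trl_smul (c d : F) (u v w : I27 → F) : Trl l (c • u) v (d • w) = c * d * Trl l u v w := by
  induction l with
  | nil => simp [Trl]
  | cons q l ih =>
    simp only [Trl, List.map_cons, List.sum_cons] at ih ⊢
    rw [ih]; simp only [Pi.smul_apply, smul_eq_mul]; ring

theorem Trl_add (u v w w' : I27 → F) : Trl l u v (w + w') = Trl l u v w + Trl l u v w' := by
  induction l with
  | nil => simp [Trl]
  | cons q l ih =>
    simp only [Trl, List.map_cons, List.sum_cons] at ih ⊢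
    rw [ih]; simp only [Pi.add_apply]; ring

theorem Trl_eq_zero {u v : I27 → F} (h : ∀ k < 27, Trl l u v (b F k) = 0) (w : I27 → F) :
    Trl l u v w = 0 := by
  rw [eq_sum_b w]
  refine Finset.sum_induction _ (fun w => Trl l u v w = 0) (fun a b ha hb => ?_) ?_ fun k hk => ?_
  · rw [Trl_add, ha, hb, add_zero]
  · simpa using Trl_smul l 1 0 u v 0
  · have := Trl_smul l 1 (w (idx k)) u v (b F k)
    rwa [one_smul, h k (Finset.mem_range.1 hk), mul_zero] at this

theorem Dl_eq_zero {v w : I27 → F} (h : ∀ q ∈ l,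
    v (idx q.2.1) * v (idx q.2.2.1) * w (idx q.2.2.2) = 0 ∧
    v (idx q.2.1) * v (idx q.2.2.2) * w (idx q.2.2.1) = 0 ∧
    v (idx q.2.2.1) * v (idx q.2.2.2) * w (idx q.2.1) = 0) : Dl l v w = 0 := by
  refine List.sum_eq_zero fun x hx => ?_
  obtain ⟨q, hq, rfl⟩ := List.mem_map.1 hx
  rw [(h q hq).1, (h q hq).2.1, (h q hq).2.2]; simp

end Algebra

/-- Conditional `cons`. -/
def cc (i a k x : ℕ) (z : ℤ × ℕ) (l : List (ℤ × ℕ)) : List (ℤ × ℕ) :=
  Bool.rec l (z :: l) (Nat.beq i a && Nat.beq k x)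

/-- The terms of `Tr (b a) · (b x)`. -/
def trv (a x : ℕ) (l : List (ℤ × ℕ × ℕ × ℕ)) : List (ℤ × ℕ) :=
  List.rec [] (fun q _ ih => cc q.2.1 a q.2.2.2 x (q.1, q.2.2.1) (cc q.2.1 a q.2.2.1 x (q.1, q.2.2.2)
    (cc q.2.2.1 a q.2.2.2 x (q.1, q.2.1) (cc q.2.2.1 a q.2.1 x (q.1, q.2.2.2)
    (cc q.2.2.2 a q.2.2.1 x (q.1, q.2.1) (cc q.2.2.2 a q.2.1 x (q.1, q.2.2.1) ih)))))) l

theorem sum_cc (y : I27 → F) (i a k x : ℕ) (z : ℤ × ℕ) (l : List (ℤ × ℕ)) :
    ((cc i a k x z l).map fun p => (p.1 : F) * y (idx p.2)).sum =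
      z.1 * ((if i = a then 1 else 0) * (if k = x then 1 else 0) * y (idx z.2)) +
        (l.map fun p => (p.1 : F) * y (idx p.2)).sum := by
  unfold cc
  cases h : (Nat.beq i a && Nat.beq k x)
  · have : ¬ (i = a ∧ k = x) := by simpa [← Nat.beq_eq] using h
    by_cases h1 : i = a <;> by_cases h2 : k = x <;> simp_all
  · simp only [Bool.and_eq_true, Nat.beq_eq] at h
    simp [h.1, h.2]

theorem Trl_b (a x : ℕ) (y : I27 → F) (l : List (ℤ × ℕ × ℕ × ℕ))
    (hl : ∀ q ∈ l, q.2.1 < 27 ∧ q.2.2.1 < 27 ∧ q.2.2.2 < 27) :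
    Trl l (b F a) y (b F x) = ((trv a x l).map fun p => (p.1 : F) * y (idx p.2)).sum := by
  induction l with
  | nil => rfl
  | cons q l ih =>
    obtain ⟨h1, h2, h3⟩ := hl q List.mem_cons_self
    have := ih fun q hq => hl q (List.mem_cons_of_mem _ hq)
    simp only [Trl, List.map_cons, List.sum_cons] at this ⊢
    rw [this]
    simp only [trv, sum_cc, b_idx _ h1, b_idx _ h2, b_idx _ h3]
    ring

theorem L_spec : ∀ q ∈ L, (q.2.1 < 27 ∧ q.2.2.1 < 27 ∧ q.2.2.2 < 27) ∧
    q.2.1 ≠ q.2.2.1 ∧ q.2.1 ≠ q.2.2.2 ∧ q.2.2.1 ≠ q.2.2.2 := by decide +kernel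

theorem L_adj : ∀ a < 27, ∀ q ∈ L, cf a q.2.1 = 0 ∨ cf a q.2.2.1 = 0 ∨ cf a q.2.2.2 = 0 := by
  decide +kernel

theorem trv_spec : ∀ a < 27, ∀ x < 27, trv a x L = if cf a x = 0 then [] else [(cf a x, th a x)] := by
  decide +kernel

theorem cf_spec : ∀ a < 27, ∀ c < 27, cf a c ≠ 0 →
    cf a c * cf a c = 1 ∧ th a c < 27 ∧ th a (th a c) = c ∧ cf a (th a c) ≠ 0 := by decide +kernel

theorem cf_self : ∀ a < 27, cf a a = 0 := by decide +kernel

set_option synthInstance.maxSize 10000 in
set_option synthInstance.maxHeartbeats 200000 in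
theorem rt_spec : ∀ a < 27, ∀ c < 27, a ≠ c → cf a c = 0 → rt a c < 72 ∧ tg (rt a c) a = c ∧
    sg (rt a c) a * sg (rt a c) a = 1 ∧
    ∀ k < 27, k ≠ a → sg (rt a c) k ≠ 0 → tg (rt a c) k < 27 ∧ cf a (tg (rt a c) k) ≠ 0 := by
  decide +kernel

theorem cast_ne_zero {s : ℤ} (h : s * s = 1) : (s : F) ≠ 0 := fun h0 => by
  have := congrArg (Int.cast : ℤ → F) h
  simp [h0] at this

theorem Tr_b {a x : ℕ} (ha : a < 27) (hx : x < 27) (y : I27 → F) :
    Trl L (b F a) y (b F x) = cf a x * y (idx (th a x)) := by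
  rw [Trl_b _ _ _ _ fun q hq => (L_spec q hq).1, trv_spec a ha x hx]
  split_ifs with h <;> simp [h]

theorem D_b (a : ℕ) (w : I27 → F) : Dl L (b F a) w = 0 := by
  refine Dl_eq_zero _ fun q hq => ?_
  obtain ⟨⟨h1, h2, h3⟩, h4, h5, h6⟩ := L_spec q hq
  simp only [b_idx _ h1, b_idx _ h2, b_idx _ h3]
  refine ⟨?_, ?_, ?_⟩ <;> split_ifs <;> first | omega | simp

/-- A white vector with a non-zero coordinate at `a` and no coordinate collinear to `a` is a
multiple of the basis vector `a`. -/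
theorem eq_smul_of_white {v : I27 → F} (hv : ∀ w, Dl L v w = 0) {a : ℕ} (ha : a < 27)
    (h0 : v (idx a) ≠ 0) (h : ∀ c < 27, c ≠ a → cf a c = 0 → v (idx c) = 0) :
    v = v (idx a) • b F a := by
  obtain ⟨w, hw⟩ : ∃ w, w = v - v (idx a) • b F a := ⟨_, rfl⟩
  have h1 : ∀ c < 27, cf a c = 0 → w (idx c) = 0 := by
    intro c hc h'
    rw [hw, Pi.sub_apply, Pi.smul_apply, b_idx _ hc]
    by_cases hca : c = a
    · simp [hca]
    · simp [hca, h c hc hca h']
  have h2 : w = 0 := by
    refine ext_idx fun c hc => ?_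
    by_cases h' : cf a c = 0
    · exact h1 c hc h'
    obtain ⟨-, k1, k2, k3⟩ := cf_spec a ha c hc h'
    have h3 := hv (b F (th a c))
    have h4 : Dl L w (b F (th a c)) = 0 := by
      refine Dl_eq_zero _ fun q hq => ?_
      obtain ⟨⟨l1, l2, l3⟩, -⟩ := L_spec q hq
      simp only [b_idx _ l1, b_idx _ l2, b_idx _ l3]
      rcases L_adj a ha q hq with m | m | m
      · refine ⟨by simp [h1 _ l1 m], by simp [h1 _ l1 m], ?_⟩
        rw [if_neg fun h => k3 (by rw [← h]; exact m), mul_zero]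
      · refine ⟨by simp [h1 _ l2 m], ?_, by simp [h1 _ l2 m]⟩
        rw [if_neg fun h => k3 (by rw [← h]; exact m), mul_zero]
      · refine ⟨?_, by simp [h1 _ l3 m], by simp [h1 _ l3 m]⟩
        rw [if_neg fun h => k3 (by rw [← h]; exact m), mul_zero]
    have h5 := Trl_smul L (v (idx a)) 1 (b F a) w (b F (th a c))
    rw [show v = v (idx a) • b F a + w by rw [hw]; abel, Dl_add, Dl_smul, D_b, h4, ← one_smul F (b F (th a c)),
      h5, Tr_b ha k1, k2] at h3
    simpa [h0, cast_ne_zero (cf_spec a ha _ k1 k3).1] using h3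
  rw [hw] at h2
  exact sub_eq_zero.1 h2

/-! ### Invariance -/

section Inv

variable (hF : ∃ a : F, a ≠ 0 ∧ a ≠ 1) {g : GL I27 F} (hg : g ∈ E6univ F)
include hg

theorem T_inv (v : I27 → F) : Tl L (g.1 *ᵥ v) = Tl L v := by
  rw [← cubicT_eq, ← cubicT_eq]; exact hg v

include hF

theorem D_inv (v w : I27 → F) : Dl L (g.1 *ᵥ v) (g.1 *ᵥ w) = Dl L v w := by
  obtain ⟨a, h0, h1⟩ := hF
  have key : ∀ t : F, t * (Dl L (g.1 *ᵥ v) (g.1 *ᵥ w) - Dl L v w) +
      t ^ 2 * (Dl L (g.1 *ᵥ w) (g.1 *ᵥ v) - Dl L w v) = 0 := by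
    intro t
    have := T_inv hg (v + t • w)
    rw [mulVec_add, mulVec_smul, Tl_add_smul, Tl_add_smul, T_inv hg, T_inv hg] at this
    linear_combination this
  have : a * (a - 1) * (Dl L (g.1 *ᵥ v) (g.1 *ᵥ w) - Dl L v w) = 0 := by
    linear_combination a ^ 2 * key 1 - key a
  exact sub_eq_zero.1 ((mul_eq_zero.1 this).resolve_left (mul_ne_zero h0 (sub_ne_zero.2 h1)))

theorem Tr_inv (u v w : I27 → F) : Trl L (g.1 *ᵥ u) (g.1 *ᵥ v) (g.1 *ᵥ w) = Trl L u v w := by
  have := D_inv hF hg (u + v) w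
  rw [mulVec_add, Dl_add, Dl_add, D_inv hF hg, D_inv hF hg] at this
  exact add_left_cancel this

end Inv

end Cfsg.Agent.Chev.E6R
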