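import Mathlib
import Cfsg.Agent.Chev.E6Form

/-!
# The root elements of `E₆` preserve the cubic form
-/

set_option autoImplicit false

namespace Cfsg.Agent.Chev.E6R

open Cfsg Cfsg.Lie Matrix

variable {F : Type*} [Field F]

variable (F) in
/-- The root elements. -/
noncomputable def y (r : ℕ) (t : F) : GL I27 F := rep.g e F r t

theorem isSt0_y : IsSt0 chevE6 (y F) := by
  obtain ⟨_⟩ := good_of_mem (D := chevE6) (by simp)
  exact RepTab.isSt0 check

theorem y_b {r k : ℕ} (hr : r < 72) (hk : k < 27) (t : F) :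
    (y F r t).1 *ᵥ b F k = b F k + ((sg r k : F) * t) • b F (tg r k) := by
  rw [y, RepTab.coe_g check hr, b, RepTab.mat_mulVec_bv _ _ hk]
  simp only [rep, sum_nzL, List.map_cons, List.map_nil, List.sum_cons, List.sum_nil]
  simp [b, rep]

theorem y_apply {r k : ℕ} (hr : r < 72) (hk : k < 27) (t : F) (v : I27 → F) :
    ((y F r t).1 *ᵥ v) (idx k) = v (idx k) +
      ∑ j ∈ Finset.range 27, if k = tg r j then (sg r j : F) * t * v (idx j) else 0 := by
  conv_lhs => rw [eq_sum_b v, mulVec_sum]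
  rw [Finset.sum_congr rfl fun j hj => by rw [mulVec_smul, y_b hr (Finset.mem_range.1 hj), smul_add],
    Finset.sum_add_distrib, ← eq_sum_b, Pi.add_apply, Finset.sum_apply]
  congr 1
  refine Finset.sum_congr rfl fun j _ => ?_
  simp only [Pi.smul_apply, b_idx _ hk, smul_eq_mul]
  split_ifs <;> ring

theorem pair_spec : ∀ r < 72, ∀ k < 27, sg r k ≠ 0 → sg r k * sg r k = 1 ∧ tg r k < 27 ∧
    sg (71 - r) k = 0 ∧ sg r (tg r k) = 0 ∧ sg (71 - r) (tg r k) = sg r k ∧ tg (71 - r) (tg r k) = k := by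
  decide +kernel

theorem y_apply' {r k : ℕ} (hr : r < 72) (hk : k < 27) (t : F) (v : I27 → F) :
    ((y F r t).1 *ᵥ v) (idx k) = v (idx k) + (sg (71 - r) k : F) * t * v (idx (tg (71 - r) k)) := by
  rw [y_apply hr hk]
  congr 1
  by_cases h : sg (71 - r) k = 0
  · rw [h, Finset.sum_eq_zero]
    · simp
    · intro j hj
      by_cases h1 : sg r j = 0
      · simp [h1]
      · obtain ⟨-, -, -, -, h2, -⟩ := pair_spec r hr j (Finset.mem_range.1 hj) h1
        rw [if_neg]
        rintro rfl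
        exact h1 (h2 ▸ h)
  · obtain ⟨-, k1, -, -, k2, k3⟩ := pair_spec (71 - r) (by omega) k hk h
    rw [show 71 - (71 - r) = r by omega] at k2 k3
    rw [Finset.sum_eq_single_of_mem _ (Finset.mem_range.2 k1), if_pos k3.symm, k2]
    intro j hj hne
    by_cases h1 : sg r j = 0
    · simp [h1]
    · obtain ⟨-, -, -, -, -, h2⟩ := pair_spec r hr j (Finset.mem_range.1 hj) h1
      rw [if_neg]
      rintro rfl
      exact hne h2.symm

theorem T_y {r : ℕ} (hr : r ∈ [56, 15, 46, 25, 42, 29, 39, 32, 37, 34, 36, 35]) (t : F) (v : I27 → F) :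
    Tl L ((y F r t).1 *ᵥ v) = Tl L v := by
  simp only [List.mem_cons, List.not_mem_nil, or_false] at hr
  simp only [Tl, L, List.map_cons, List.map_nil, List.sum_cons, List.sum_nil]
  rcases hr with rfl | rfl | rfl | rfl | rfl | rfl | rfl | rfl | rfl | rfl | rfl | rfl <;>
  · simp (disch := decide) only [y_apply']
    simp only [sg, tg, dig, sgT, tgT, Nat.reduceMul, Nat.reduceAdd, Nat.reduceSub,
      Nat.reduceShiftRight, Nat.reducePow, Nat.reduceMod, Int.subNatNat_eq_coe]
    push_cast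
    ring

theorem Gs_le : Gs chevE6 (y F) ≤ E6univ F := by
  obtain ⟨T⟩ := exists_rootTable (D := chevE6) (by simp)
  have h : ∀ r ∈ [56, 15, 46, 25, 42, 29, 39, 32, 37, 34, 36, 35], ∀ t, y F r t ∈ E6univ F :=
    fun r hr t v => by rw [cubicT_eq, cubicT_eq]; exact T_y hr t v
  refine (isSt0_y.isSt (by simp)).Gs_le_of_simple T (fun i => h _ ?_) fun i => h _ ?_ <;>
    revert i <;> decide +kernel

end Cfsg.Agent.Chev.E6R
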