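import Mathlib
import Cfsg.Agent.Chev.E6Mem

/-!
# The isometry group of the cubic form is generated by the root elements of `E₆`
-/

set_option autoImplicit false

namespace Cfsg.Agent.Chev.E6R

open Cfsg Cfsg.Lie Matrix

variable {F : Type*} [Field F]

/-- `g` scales the basis vectors with codes in `A`. -/
def Sc (g : GL I27 F) (A : List ℕ) : Prop := ∀ a ∈ A, ∃ c : F, c ≠ 0 ∧ g.1 *ᵥ b F a = c • b F a

/-- The coordinate `c` of `g (b a)` vanishes if `g` scales the basis vectors in `A`. -/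
def excl (A : List ℕ) (a c : ℕ) : Prop :=
  (∃ a₀ ∈ A, cf a₀ a = 0 ∧ cf a₀ c ≠ 0) ∨ (∃ a₀ ∈ A, cf a₀ c ≠ 0 ∧ th a₀ c ∈ A ∧ c ≠ a)

instance (A : List ℕ) (a c : ℕ) : Decidable (excl A a c) := by unfold excl; infer_instance

/-- The root elements of `r` fix the basis vectors in `A`. -/
def fix (A : List ℕ) (r : ℕ) : Prop := ∀ a₀ ∈ A, sg r a₀ = 0

instance (A : List ℕ) (r : ℕ) : Decidable (fix A r) := by unfold fix; infer_instance

/-- A root fixing `A` moves `c` to `d`. -/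
def mv (A : List ℕ) (c d : ℕ) : Prop := c ≠ d ∧ cf c d = 0 ∧ fix A (rt c d)

instance (A : List ℕ) (c d : ℕ) : Decidable (mv A c d) := by unfold mv; infer_instance

/-- The conditions for one step of the reduction to a diagonal matrix. -/
def Step (A : List ℕ) (a : ℕ) : Prop :=
  a < 27 ∧ ((∃ a₀ ∈ A, cf a₀ a ≠ 0 ∧ th a₀ a ∈ A) ∨ ∀ c < 27, excl A a c ∨
    (0 ∈ A ∧ cf 0 a ≠ 0 ∧ cf 0 c = 0) ∨ c = a ∨ mv A c a ∨ ∃ d < 27, mv A c d ∧ mv A d a) ∧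
  ∀ c < 27, c = a ∨ cf a c ≠ 0 ∨ excl A a c ∨ fix A (rt a c)

set_option synthInstance.maxSize 10000 in
instance (A : List ℕ) (a : ℕ) : Decidable (Step A a) := by unfold Step; infer_instance

theorem mul_mulVec (g h : GL I27 F) (v : I27 → F) : (g * h).1 *ᵥ v = g.1 *ᵥ (h.1 *ᵥ v) := by
  rw [Units.val_mul, mulVec_mulVec]

theorem apply_inv (g : GL I27 F) (v : I27 → F) : g.1 *ᵥ ((g⁻¹).1 *ᵥ v) = v := by
  rw [← mul_mulVec, mul_inv_cancel, Units.val_one, one_mulVec]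

theorem y_mem {r : ℕ} (hr : r < 72) (t : F) : y F r t ∈ Gs chevE6 (y F) :=
  mem_XS (S := {r | r < chevE6.nroots}) hr t

theorem y_rt {a c k : ℕ} (ha : a < 27) (hc : c < 27) (hk : k < 27) (h1 : a ≠ c) (h2 : cf a c = 0)
    (h3 : cf a k = 0) (t : F) (v : I27 → F) : ((y F (rt a c) t).1 *ᵥ v) (idx k) =
      v (idx k) + if k = c then (sg (rt a c) a : F) * t * v (idx a) else 0 := by
  obtain ⟨k1, k2, -, k4⟩ := rt_spec a ha c hc h1 h2
  rw [y_apply k1 hk, Finset.sum_eq_single_of_mem _ (Finset.mem_range.2 ha), k2]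
  intro j hj hne
  by_cases h : sg (rt a c) j = 0
  · simp [h]
  · rw [if_neg]
    rintro rfl
    exact (k4 j (Finset.mem_range.1 hj) hne h).2 h3

theorem Sc.mul_y {g : GL I27 F} {A : List ℕ} (hs : Sc g A) (hA : ∀ a ∈ A, a < 27) {r : ℕ}
    (hr : r < 72) (hf : fix A r) (t : F) : Sc (y F r t * g) A := fun a ha => by
  obtain ⟨c, hc, h⟩ := hs a ha
  exact ⟨c, hc, by rw [mul_mulVec, h, mulVec_smul, y_b hr (hA a ha), hf a ha]; simp⟩

section Rules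

variable (hF : ∃ a : F, a ≠ 0 ∧ a ≠ 1) {g : GL I27 F} (hg : g ∈ E6univ F) {A : List ℕ}
  (hA : ∀ a ∈ A, a < 27) (hs : Sc g A) {a : ℕ} (ha : a < 27)
include hF hg

theorem rule_tri {a₀ a₁ : ℕ} (h₀ : a₀ < 27) (h₁ : a₁ < 27) (h : cf a₀ a₁ ≠ 0) {c₀ c₁ : F}
    (k₀ : g.1 *ᵥ b F a₀ = c₀ • b F a₀) (k₁ : g.1 *ᵥ b F a₁ = c₁ • b F a₁) (a : ℕ) :
    c₀ * c₁ * (g.1 *ᵥ b F a) (idx (th a₀ a₁)) = if th a₀ a₁ = a then 1 else 0 := by
  have := Tr_inv hF hg (b F a₀) (b F a) (b F a₁)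
  rw [k₀, k₁, Trl_smul, Tr_b h₀ h₁, Tr_b h₀ h₁, b_idx _ (cf_spec _ h₀ _ h₁ h).2.1] at this
  refine mul_left_cancel₀ (cast_ne_zero (cf_spec _ h₀ _ h₁ h).1) ?_
  linear_combination this

include hA hs ha

theorem rule_excl {c : ℕ} (hc : c < 27) (h : excl A a c) : (g.1 *ᵥ b F a) (idx c) = 0 := by
  rcases h with ⟨a₀, h0, h1, h2⟩ | ⟨a₀, h0, h1, h2, h3⟩
  · obtain ⟨c₀, k0, k1⟩ := hs a₀ h0
    obtain ⟨-, l1, l2, l3⟩ := cf_spec _ (hA _ h0) _ hc h2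
    have := Tr_inv hF hg (b F a₀) (b F a) ((g⁻¹).1 *ᵥ b F (th a₀ c))
    rw [apply_inv, k1, ← one_smul F (b F (th a₀ c)), Trl_smul, Tr_b (hA _ h0) l1, l2, Trl_swap,
      Tr_b (hA _ h0) ha, h1] at this
    simpa [k0, cast_ne_zero (cf_spec _ (hA _ h0) _ l1 l3).1] using this
  · obtain ⟨c₀, k0, k1⟩ := hs a₀ h0
    obtain ⟨c₁, k2, k3⟩ := hs _ h2
    obtain ⟨-, l1, l2, l3⟩ := cf_spec _ (hA _ h0) _ hc h1
    have := rule_tri hF hg (hA _ h0) l1 l3 k1 k3 a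
    rw [l2, if_neg h3] at this
    simpa [k0, k2] using this

theorem rule_direct {a₀ : ℕ} (h0 : a₀ ∈ A) (h1 : cf a₀ a ≠ 0) (h2 : th a₀ a ∈ A) :
    (g.1 *ᵥ b F a) (idx a) ≠ 0 := by
  obtain ⟨c₀, -, k1⟩ := hs a₀ h0
  obtain ⟨c₁, -, k3⟩ := hs _ h2
  obtain ⟨-, l1, l2, l3⟩ := cf_spec _ (hA _ h0) _ ha h1
  have := rule_tri hF hg (hA _ h0) l1 l3 k1 k3 a
  rw [l2, if_pos rfl] at this
  exact right_ne_zero_of_mul (this ▸ one_ne_zero)

theorem rule_start : ∃ c < 27, (g.1 *ᵥ b F a) (idx c) ≠ 0 ∧ ¬ (0 ∈ A ∧ cf 0 a ≠ 0 ∧ cf 0 c = 0) := by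
  by_contra hc
  push Not at hc
  by_cases h : 0 ∈ A ∧ cf 0 a ≠ 0
  · obtain ⟨c₀, k0, k1⟩ := hs 0 h.1
    obtain ⟨-, l1, l2, l3⟩ := cf_spec 0 (by decide) a ha h.2
    have := Tr_inv hF hg (b F 0) (b F a) (b F (th 0 a))
    rw [k1, ← one_smul F (g.1 *ᵥ b F (th 0 a)), Trl_smul, Tr_b (by decide) l1, l2, b_idx _ ha,
      Trl_eq_zero L fun k hk => ?_] at this
    · simpa [cast_ne_zero (cf_spec 0 (by decide) _ l1 l3).1] using this.symm
    · rw [Tr_b (by decide) hk]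
      by_cases h' : cf 0 k = 0
      · simp [h']
      · obtain ⟨-, m1, -, m3⟩ := cf_spec 0 (by decide) k hk h'
        by_contra h''
        exact m3 (hc _ m1 (right_ne_zero_of_mul h'')).2.2
  · have : g.1 *ᵥ b F a = 0 := ext_idx fun k hk => by
      by_contra h'
      exact h ⟨(hc k hk h').1, (hc k hk h').2.1⟩
    apply b_ne_zero (F := F) ha
    rw [← apply_inv g⁻¹ (b F a), inv_inv, this, mulVec_zero]

end Rules

theorem route {g : GL I27 F} {A : List ℕ} (hA : ∀ a ∈ A, a < 27) (hs : Sc g A) {v : I27 → F}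
    {c d : ℕ} (hc : c < 27) (hd : d < 27) (h : mv A c d) (h0 : (g.1 *ᵥ v) (idx c) ≠ 0) :
    ∃ k ∈ Gs chevE6 (y F), Sc (k * g) A ∧ ((k * g).1 *ᵥ v) (idx d) ≠ 0 := by
  by_cases h1 : (g.1 *ᵥ v) (idx d) = 0
  · obtain ⟨k1, -, k3, -⟩ := rt_spec c hc d hd h.1 h.2.1
    refine ⟨_, y_mem k1 1, hs.mul_y hA k1 h.2.2 1, ?_⟩
    rw [mul_mulVec, y_rt hc hd hd h.1 h.2.1 h.2.1, h1]
    simpa [cast_ne_zero k3] using h0
  · exact ⟨1, one_mem _, by rwa [one_mul], by rwa [one_mul]⟩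

theorem clear {g : GL I27 F} {A : List ℕ} (hA : ∀ a ∈ A, a < 27) (hs : Sc g A) {v : I27 → F}
    {a : ℕ} (ha : a < 27) (h0 : (g.1 *ᵥ v) (idx a) ≠ 0) (n : ℕ) (hn : n ≤ 27) :
    ∃ k ∈ Gs chevE6 (y F), Sc (k * g) A ∧ ((k * g).1 *ᵥ v) (idx a) ≠ 0 ∧
      ∀ c < n, mv A a c → ((k * g).1 *ᵥ v) (idx c) = 0 := by
  induction n with
  | zero => exact ⟨1, one_mem _, by rwa [one_mul], by rwa [one_mul], by simp⟩
  | succ n ih =>
    obtain ⟨k, hk, h1, h2, h3⟩ := ih (by omega)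
    by_cases h : mv A a n
    · obtain ⟨k1, -, k3, -⟩ := rt_spec a ha n hn h.1 h.2.1
      obtain ⟨t, ht⟩ : ∃ t : F, ((k * g).1 *ᵥ v) (idx n) +
          (sg (rt a n) a : F) * t * ((k * g).1 *ᵥ v) (idx a) = 0 :=
        ⟨-((k * g).1 *ᵥ v) (idx n) / ((sg (rt a n) a : F) * ((k * g).1 *ᵥ v) (idx a)), by
          have := cast_ne_zero (F := F) k3
          field_simp; ring⟩
      refine ⟨y F (rt a n) t * k, mul_mem (y_mem k1 t) hk, ?_, ?_, fun c hc hm => ?_⟩ <;>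
        rw [mul_assoc]
      · exact h1.mul_y hA k1 h.2.2 t
      · rwa [mul_mulVec, y_rt ha hn ha h.1 h.2.1 (cf_self a ha), if_neg h.1, add_zero]
      · rw [mul_mulVec, y_rt ha hn (by omega) h.1 h.2.1 hm.2.1]
        split_ifs with h'
        · rw [h', ht]
        · rw [add_zero, h3 c (by omega) hm]
    · refine ⟨k, hk, h1, h2, fun c hc hm => h3 c ?_ hm⟩
      by_contra h'
      exact h ((show c = n by omega) ▸ hm)

theorem step (hF : ∃ a : F, a ≠ 0 ∧ a ≠ 1) {g : GL I27 F} (hg : g ∈ E6univ F) {A : List ℕ}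
    (hA : ∀ a ∈ A, a < 27) (hs : Sc g A) {a : ℕ} (h : Step A a) :
    ∃ k ∈ Gs chevE6 (y F), Sc (k * g) (a :: A) := by
  obtain ⟨ha, h1, h2⟩ := h
  obtain ⟨k, hk, k1, k2⟩ : ∃ k ∈ Gs chevE6 (y F), Sc (k * g) A ∧ ((k * g).1 *ᵥ b F a) (idx a) ≠ 0 := by
    rcases h1 with ⟨a₀, l0, l1, l2⟩ | h1
    · exact ⟨1, one_mem _, by rwa [one_mul], by rw [one_mul]; exact rule_direct hF hg hA hs ha l0 l1 l2⟩
    obtain ⟨c, hc, l1, l2⟩ := rule_start hF hg hA hs ha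
    rcases h1 c hc with l | l | rfl | l | ⟨d, hd, l, l'⟩
    · exact absurd (rule_excl hF hg hA hs ha hc l) l1
    · exact absurd l l2
    · exact ⟨1, one_mem _, by rwa [one_mul], by rwa [one_mul]⟩
    · exact route hA hs hc ha l l1
    · obtain ⟨k, hk, m1, m2⟩ := route hA hs hc hd l l1
      obtain ⟨k', hk', m3, m4⟩ := route hA m1 hd ha l' m2
      exact ⟨k' * k, mul_mem hk' hk, by rwa [mul_assoc], by rwa [mul_assoc]⟩
  obtain ⟨k', hk', m1, m2, m3⟩ := clear hA k1 ha k2 27 le_rfl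
  have hg' : k' * (k * g) ∈ E6univ F := mul_mem (Gs_le hk') (mul_mem (Gs_le hk) hg)
  refine ⟨k' * k, mul_mem hk' hk, ?_⟩
  rw [mul_assoc]
  intro a' ha'
  rcases List.mem_cons.1 ha' with rfl | ha'
  · refine ⟨_, m2, eq_smul_of_white (fun w => ?_) ha m2 fun c hc n1 n2 => ?_⟩
    · rw [← apply_inv (k' * (k * g)) w, D_inv hF hg', D_b]
    · rcases h2 c hc with l | l | l | l
      · exact absurd l n1
      · exact absurd n2 l
      · exact rule_excl hF hg' hA m1 ha hc l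
      · exact m3 c hc ⟨Ne.symm n1, n2, l⟩
  · exact m1 a' ha'

/-- The conditions for a sequence of steps. -/
def Steps : List ℕ → Prop
  | [] => True
  | a :: A => Step A a ∧ Steps A

instance decSteps : ∀ A, Decidable (Steps A)
  | [] => isTrue trivial
  | a :: A => @instDecidableAnd (Step A a) (Steps A) _ (decSteps A)

theorem steps (hF : ∃ a : F, a ≠ 0 ∧ a ≠ 1) {g : GL I27 F} (hg : g ∈ E6univ F) {A : List ℕ}
    (h : Steps A) : (∀ a ∈ A, a < 27) ∧ ∃ k ∈ Gs chevE6 (y F), Sc (k * g) A := by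
  induction A with
  | nil => exact ⟨by simp, 1, one_mem _, by simp [Sc]⟩
  | cons a A ih =>
    obtain ⟨hA, k, hk, hs⟩ := ih h.2
    obtain ⟨k', hk', hs'⟩ := step hF (mul_mem (Gs_le hk) hg) hA hs h.1
    exact ⟨List.forall_mem_cons.2 ⟨h.1.1, hA⟩, k' * k, mul_mem hk' hk, by rwa [mul_assoc]⟩

theorem steps_all : Steps [26, 25, 24, 23, 22, 20, 19, 17, 16, 15, 14, 13, 12, 11, 6, 3, 2, 1, 21, 10,
    18, 9, 7, 5, 8, 4, 0] := by decide +kernel

/-! ### The torus -/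

variable (F) in
/-- The elements `n_r(t)`. -/
noncomputable def nd (r : ℕ) (t : F) : GL I27 F := y F r t * y F (71 - r) (-t⁻¹) * y F r t

theorem nd_mem {r : ℕ} (hr : r < 72) (t : F) : nd F r t ∈ Gs chevE6 (y F) :=
  mul_mem (mul_mem (y_mem hr _) (y_mem (by omega) _)) (y_mem hr _)

theorem nd_fix {r k : ℕ} (hr : r < 72) (hk : k < 27) (h1 : sg r k = 0) (h2 : sg (71 - r) k = 0)
    (t : F) : (nd F r t).1 *ᵥ b F k = b F k := by
  simp only [nd, mul_mulVec, y_b hr hk, y_b (show 71 - r < 72 by omega) hk, h1, h2, Int.cast_zero,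
    zero_mul, zero_smul, add_zero]

theorem nd_src {r k : ℕ} (hr : r < 72) (hk : k < 27) (h : sg r k ≠ 0) {t : F} (ht : t ≠ 0) :
    (nd F r t).1 *ᵥ b F k = ((sg r k : F) * t) • b F (tg r k) ∧
    (nd F r t).1 *ᵥ b F (tg r k) = (-(sg r k : F) * t⁻¹) • b F k := by
  obtain ⟨k1, k2, k3, k4, k5, k6⟩ := pair_spec r hr k hk h
  have h1 : (sg r k : F) * sg r k = 1 := by exact_mod_cast congrArg (Int.cast : ℤ → F) k1
  have hr' : 71 - r < 72 := by omega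
  simp only [nd, mul_mulVec, y_b hr hk, y_b hr' hk, y_b hr k2, y_b hr' k2, k3, k4, k5, k6,
    mulVec_add, mulVec_smul, Int.cast_zero, zero_mul, zero_smul, add_zero]
  constructor <;> match_scalars <;> field_simp <;> grind

theorem exists_hd {r : ℕ} (hr : r < 72) {t : F} (ht : t ≠ 0) : ∃ h ∈ Gs chevE6 (y F),
    (∀ k < 27, ∃ c : F, c ≠ 0 ∧ h.1 *ᵥ b F k = c • b F k) ∧
    (∀ k < 27, sg r k = 0 → sg (71 - r) k = 0 → h.1 *ᵥ b F k = b F k) ∧
    ∀ k < 27, sg r k ≠ 0 → h.1 *ᵥ b F k = t⁻¹ • b F k := by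
  have h1 : ∀ k < 27, sg r k = 0 → sg (71 - r) k = 0 →
      (nd F r t * nd F r (-1)).1 *ᵥ b F k = b F k := fun k hk k1 k2 => by
    rw [mul_mulVec, nd_fix hr hk k1 k2, nd_fix hr hk k1 k2]
  have h2 : ∀ k < 27, sg r k ≠ 0 → (nd F r t * nd F r (-1)).1 *ᵥ b F k = t⁻¹ • b F k ∧
      (nd F r t * nd F r (-1)).1 *ᵥ b F (tg r k) = t • b F (tg r k) := fun k hk k1 => by
    have h1 : (sg r k : F) * sg r k = 1 := by
      exact_mod_cast congrArg (Int.cast : ℤ → F) (pair_spec r hr k hk k1).1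
    simp only [mul_mulVec, nd_src hr hk k1 ht, nd_src hr hk k1 (neg_ne_zero.2 (one_ne_zero (α := F))),
      mulVec_smul, smul_smul]
    constructor <;> congr 1 <;> grind
  refine ⟨nd F r t * nd F r (-1), mul_mem (nd_mem hr _) (nd_mem hr _), fun k hk => ?_, h1,
    fun k hk k1 => (h2 k hk k1).1⟩
  by_cases k1 : sg r k = 0
  · by_cases k2 : sg (71 - r) k = 0
    · exact ⟨1, one_ne_zero, by rw [h1 k hk k1 k2, one_smul]⟩
    · obtain ⟨-, l1, -, -, l2, l3⟩ := pair_spec (71 - r) (by omega) k hk k2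
      rw [show 71 - (71 - r) = r by omega] at l2 l3
      exact ⟨t, ht, l3 ▸ (h2 _ l1 (l2 ▸ k2)).2⟩
  · exact ⟨_, inv_ne_zero ht, (h2 k hk k1).1⟩

/-- `g` is diagonal and fixes the basis vectors with codes in `A`. -/
def Fx (g : GL I27 F) (A : List ℕ) : Prop :=
  (∀ a < 27, ∃ c : F, c ≠ 0 ∧ g.1 *ᵥ b F a = c • b F a) ∧ ∀ a ∈ A, g.1 *ᵥ b F a = b F a

/-- The conditions for one step of the reduction of a diagonal matrix. -/
def TStep (A : List ℕ) (a : ℕ) : Prop :=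
  a < 27 ∧ ((∃ a₀ ∈ A, cf a₀ a ≠ 0 ∧ th a₀ a ∈ A) ∨
    ∃ r < 72, sg r a ≠ 0 ∧ fix A r ∧ fix A (71 - r))

instance (A : List ℕ) (a : ℕ) : Decidable (TStep A a) := by unfold TStep; infer_instance

theorem tstep (hF : ∃ a : F, a ≠ 0 ∧ a ≠ 1) {g : GL I27 F} (hg : g ∈ E6univ F) {A : List ℕ}
    (hA : ∀ a ∈ A, a < 27) (hs : Fx g A) {a : ℕ} (h : TStep A a) :
    ∃ k ∈ Gs chevE6 (y F), Fx (k * g) (a :: A) := by
  obtain ⟨ha, h⟩ := h
  obtain ⟨c, hc, hca⟩ := hs.1 a ha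
  rcases h with ⟨a₀, l0, l1, l2⟩ | ⟨r, hr, l0, l1, l2⟩
  · refine ⟨1, one_mem _, ?_⟩
    rw [one_mul]
    refine ⟨hs.1, List.forall_mem_cons.2 ⟨?_, hs.2⟩⟩
    obtain ⟨-, m1, m2, m3⟩ := cf_spec _ (hA _ l0) _ ha l1
    have := rule_tri hF hg (hA _ l0) m1 m3 (c₀ := 1) (c₁ := 1) (by rw [one_smul, hs.2 _ l0])
      (by rw [one_smul, hs.2 _ l2]) a
    rw [m2, hca, Pi.smul_apply, b_idx _ ha] at this
    rw [hca, show c = 1 by simpa using this, one_smul]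
  · obtain ⟨h, hh, m1, m2, m3⟩ := exists_hd hr hc
    refine ⟨h, hh, fun a' ha' => ?_, List.forall_mem_cons.2 ⟨?_, fun a' ha' => ?_⟩⟩
    · obtain ⟨d, hd, hda⟩ := hs.1 a' ha'
      obtain ⟨d', hd', hda'⟩ := m1 a' ha'
      exact ⟨d * d', mul_ne_zero hd hd', by rw [mul_mulVec, hda, mulVec_smul, hda', smul_smul]⟩
    · rw [mul_mulVec, hca, mulVec_smul, m3 a ha l0, smul_smul, mul_inv_cancel₀ hc, one_smul]
    · rw [mul_mulVec, hs.2 a' ha', m2 a' (hA a' ha') (l1 a' ha') (l2 a' ha')]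

/-- The conditions for a sequence of steps. -/
def TSteps : List ℕ → Prop
  | [] => True
  | a :: A => TStep A a ∧ TSteps A

instance decTSteps : ∀ A, Decidable (TSteps A)
  | [] => isTrue trivial
  | a :: A => @instDecidableAnd (TStep A a) (TSteps A) _ (decTSteps A)

theorem tsteps (hF : ∃ a : F, a ≠ 0 ∧ a ≠ 1) {g : GL I27 F} (hg : g ∈ E6univ F) (h0 : Fx g [])
    {A : List ℕ} (h : TSteps A) : (∀ a ∈ A, a < 27) ∧ ∃ k ∈ Gs chevE6 (y F), Fx (k * g) A := by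
  induction A with
  | nil => exact ⟨by simp, 1, one_mem _, by rwa [one_mul]⟩
  | cons a A ih =>
    obtain ⟨hA, k, hk, hs⟩ := ih h.2
    obtain ⟨k', hk', hs'⟩ := tstep hF (mul_mem (Gs_le hk) hg) hA hs h.1
    exact ⟨List.forall_mem_cons.2 ⟨h.1.1, hA⟩, k' * k, mul_mem hk' hk, by rwa [mul_assoc]⟩

theorem tsteps_all : TSteps [11, 25, 26, 23, 20, 6, 24, 5, 4, 14, 17, 22, 19, 16, 15, 7, 13, 12, 8, 21,
    18, 10, 9, 3, 2, 1, 0] := by decide +kernel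

theorem E6univ_eq (hF : ∃ a : F, a ≠ 0 ∧ a ≠ 1) : E6univ F = Gs chevE6 (y F) := by
  refine le_antisymm (fun g hg => ?_) Gs_le
  obtain ⟨-, k, hk, hs⟩ := steps hF hg steps_all
  obtain ⟨-, k', hk', -, hs'⟩ := tsteps hF (mul_mem (Gs_le hk) hg)
    ⟨fun a ha => hs a (by revert a; decide), by simp⟩ tsteps_all
  have : k' * (k * g) = 1 := by
    refine Units.ext (Matrix.toLin'.injective (LinearMap.ext fun v => ?_))
    rw [eq_sum_b v, map_sum, map_sum]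
    refine Finset.sum_congr rfl fun a ha => ?_
    rw [map_smul, map_smul, toLin'_apply, hs' a (by revert a; decide), Units.val_one, toLin'_one,
      LinearMap.id_apply]
  rw [show g = k⁻¹ * k'⁻¹ by rw [← _root_.mul_inv_rev, eq_comm, inv_eq_iff_mul_eq_one, mul_assoc, this]]
  exact mul_mem (inv_mem hk) (inv_mem hk')

theorem nonempty_E6_equiv (hF : ∃ a : F, a ≠ 0 ∧ a ≠ 1) : Nonempty (E6 F ≃* chevE6.group F) := by
  refine isSt0_y.nonempty_Gs_quot (by simp) (fun _ => hF) (E6univ_eq hF) ?_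
  rw [E6univ_eq hF, Ne, eq_bot_iff]
  intro h
  have h1 := y_rt (F := F) (a := 0) (c := 1) (k := 1) (by decide) (by decide) (by decide) (by decide)
    (by decide +kernel) (by decide +kernel) 1 (b F 0)
  rw [Subgroup.mem_bot.1 (h (y_mem (by decide +kernel) 1)), Units.val_one, one_mulVec,
    b_idx _ (show 0 < 27 by decide)] at h1
  simp [cast_ne_zero (show sg (rt 0 1) 0 * sg (rt 0 1) 0 = 1 by decide +kernel)] at h1

end Cfsg.Agent.Chev.E6R
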