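import Mathlib
import Cfsg.Agent.Chev.F22Chk
import Cfsg.Agent.Chev.IsoE6
import Cfsg.Agent.Chev.Aut

/-! A homomorphism from `Fi₂₂` to `E₆(4)`, whose image has trivial centraliser in the group of
inner-diagonal automorphisms. -/

set_option autoImplicit false
set_option linter.unusedSectionVars false

namespace Cfsg.Agent.Chev.F22

open Cfsg.Agent.Comp.SS Cfsg.Agent.Comp.Kron Cfsg.Agent.Chev.E6R Cfsg.Spor Cfsg.Lie Matrix
open Cfsg.Agent.Comp.Dig hiding dig

variable {K : Type*} [Field K] {ω : K}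

theorem isEnum : IsEnum idx 27 where
  inj := by decide
  surj a := ⟨_, e_lt a, idx_e a⟩

theorem val2 (c : ℕ → ℕ) : val ω 2 c = c 0 + c 1 * ω := by simp [val, Finset.sum_range_succ]

theorem xE_eq {i : ℕ} (hi : i < 27) : xE K idx i = b K i := ext_idx fun k hk => by
  rw [b_idx _ hk, xE, Pi.single_apply]
  exact if_congr ⟨isEnum.inj _ hk _ hi, fun h => h ▸ rfl⟩ rfl rfl

variable (K) in
/-- The universal group. -/
noncomputable abbrev U : Subgroup (GL I27 K) := Gs chevE6 (y K)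

/-- the basic letters -/
noncomputable def B (ω : K) (e : ℕ) : U K :=
  toGs chevE6 (y K) (bl.getD e (46, 1)).1 (val ω 2 (c4 (bl.getD e (46, 1)).2))

/-- the generators of the Fischer group -/
noncomputable def s (ω : K) (k : ℕ) : U K := ((wd k).map (B ω)).prod

/-- the representation predicate -/
abbrev Rz (ω : K) : ℕ → GL I27 K → Prop := RepE idx ω 7 27 54 2

theorem prod_rp {G : Type*} [Group G] (f : ℕ → G) (m : ℕ) (w : List ℕ) :
    ((rp m w).map f).prod = (w.map f).prod ^ m := by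
  induction m with
  | zero => simp [rp]
  | succ m ih => rw [rp, List.replicate_succ, List.flatten_cons, List.map_append, List.prod_append,
      pow_succ', ← ih, rp]

theorem mem_rp {m : ℕ} {w : List ℕ} {k : ℕ} (h : k ∈ rp m w) : k ∈ w := by
  obtain ⟨l, h1, h2⟩ := List.mem_flatten.1 h
  rwa [← List.eq_of_mem_replicate h1]

theorem l2_ne : l2 ≠ [] := by simp [l2, raws]

variable (h2 : (2 : K) = 0) (hω : ω ^ 2 = 1 + ω)
include h2 hω

theorem ctx : Ctx idx ω 7 27 2 54 2 op (hat 7 27 54 Cw) where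
  enum := isEnum
  hd := rfl
  f_pos := by norm_num
  m_pos := by norm_num
  p_pos := by norm_num
  indep c c' hc hc' h := by
    have h0 : ω ≠ 0 := fun h => by simp [h] at hω
    have h1 : ω ≠ 1 := fun h => one_ne_zero (α := K) (by rw [h] at hω; linear_combination hω + h2)
    have h3 : 1 + ω ≠ 0 := hω ▸ pow_ne_zero 2 h0
    rw [val2, val2] at h
    clear h2 hω
    have : c 0 = c' 0 ∧ c 1 = c' 1 := by
      have := hc 0; have := hc 1; have := hc' 0; have := hc' 1
      interval_cases c 0 <;> interval_cases c 1 <;> interval_cases c' 0 <;> interval_cases c' 1 <;>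
        simp_all [eq_comm]
    intro t ht
    interval_cases t
    exacts [this.1, this.2]
  spec := opSpec_two (nsmul_bvE (by simpa using h2) _ _ _) (by norm_num) (by norm_num)
    (by norm_num) rfl rfl
  hW := Or.inr ⟨Cw, rfl, wB_spec isEnum rfl (by norm_num) (by simp [val2, hω]) c_W⟩

theorem mdl : IsMdl (Rz ω) (Rz ω) o Nat.beq op hR := (ctx h2 hω).isMdl ((ctx h2 hω).repE_one c_o)

theorem rz_ev {l : List ℕ} (hl : l ≠ []) (f : ℕ → U K) {w : List ℕ}
    (h : ∀ k ∈ w, Rz ω (pick l k) (f k)) : Rz ω (ev l w) (w.map f).prod := by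
  induction w with
  | nil => exact (mdl h2 hω).one
  | cons r w ih =>
    exact (mdl h2 hω).isOp_lab rfl hl (h r (by simp)) _ _ (ih fun k hk => h k (by simp [hk]))

theorem rz_Y {p : ℕ × ℕ} (hp : p ∈ bl) : Rz ω (mk (cY p)) (y K p.1 (val ω 2 (c4 p.2))) := by
  obtain ⟨h1, h3⟩ := c_Y p hp
  refine (ctx h2 hω).repE_of_matB h3 fun i hi j hj => ?_
  rw [← smul_xE, xE_eq hi]
  refine (congrFun (y_b h1 hi _) _).trans ?_
  rw [Pi.add_apply, Pi.smul_apply, b_idx _ hj, b_idx _ hj, smul_eq_mul]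
  by_cases h0 : sg p.1 i = 0
  · by_cases h : j = i <;> simp [h0, h, val2, cY, c4]
  obtain ⟨k1, -, -, k2, -⟩ := pair_spec _ h1 _ hi h0
  have k3 : tg p.1 i ≠ i := fun h => h0 (h ▸ k2)
  have k4 : (sg p.1 i : K) = 1 := by
    rcases Int.eq_one_or_neg_one_of_mul_eq_one k1 with h | h 
    · simp [h]
    · rw [h]; push_cast; linear_combination -h2
  by_cases h : j = i
  · simp [h, k3.symm, val2, cY, c4]
  · by_cases h' : j = tg p.1 i <;> simp [h, h', k3, k4, h0, val2, cY]

theorem rz_B (k : ℕ) : Rz ω (pick l1 k) (B ω k) := by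
  have h : bl.getD k (46, 1) ∈ bl := by
    rw [List.getD_eq_getElem?_getD]
    rcases h : bl[k]? with _ | p
    · decide
    · exact List.mem_of_getElem? h
  have e : pick l1 k = mk (cY (bl.getD k (46, 1))) := List.getD_map _ _ fun p => mk (cY p)
  rw [e, B, coe_toGs (c_Y _ h).1]
  exact rz_Y h2 hω h

theorem rz_s {k : ℕ} (hk : k < 9) : Rz ω (pick l2 k) (s ω k) :=
  Nat.eq_of_beq_eq_true (c_S k hk) ▸ rz_ev h2 hω (by simp [l1, bl]) _ fun k _ => rz_B h2 hω k

theorem rel {m : ℕ} {w : List ℕ} (hw : ∀ k ∈ w, k < 9) (h : Nat.beq (ev l2 (rp m w)) o = true) :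
    (w.map (s ω)).prod ^ m = 1 := by
  rw [← prod_rp]
  exact Subtype.ext ((mdl h2 hω).sound _ _ _ _
    (rz_ev h2 hω l2_ne _ fun k hk => rz_s h2 hω (hw k (mem_rp hk))) (mdl h2 hω).one h)

theorem spider : ([3, 2, 1, 3, 4, 5, 3, 7, 8].map (s ω)).prod ^ 10 ∈ Subgroup.center (U K) := by
  rw [← prod_rp]
  have := (ctx h2 hω).coe_eq_of_matB c_rel.2.1
    (rz_ev h2 hω l2_ne _ fun k hk => rz_s h2 hω (by have := mem_rp hk; revert k; decide))
    (M := Matrix.scalar _ (1 + ω)) fun i hi j hj => by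
      have : idx j = idx i ↔ j = i := ⟨isEnum.inj _ hj _ hi, fun h => h ▸ rfl⟩
      rw [Matrix.scalar_apply, Matrix.diagonal_apply, if_congr this rfl rfl]
      by_cases h : j = i <;> simp [val2, h, c4]
  exact Subgroup.mem_center_iff.2 fun a => Subtype.ext (Units.ext (by
    rw [Subgroup.coe_mul, Subgroup.coe_mul, Units.val_mul, Units.val_mul, this]
    exact (Matrix.scalar_commute _ (fun _ => Commute.all _ _) _).symm))

theorem scalar_of_comm {M : Matrix I27 I27 K}
    (hM : ∀ k, 0 < k → k < 9 → M * (s ω k : GL I27 K) = (s ω k : GL I27 K) * M) :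
    ∃ c : K, M = Matrix.scalar _ c := by
  have X := ctx h2 hω
  have v1 := c_irr.1.1
  have v2 := c_irr.1.2.1
  have v3 := c_irr.1.2.2
  have t1 := c_irr.2.1
  have t2 := c_irr.2.2
  rw [force_eq] at t2
  obtain ⟨g, hg⟩ := X.exists_repE (mdl h2 hω).one (valid_of_validB two_pos v1)
    (valid_of_validB two_pos v2) (by rw [← Nat.eq_of_beq_eq_true v3, hR])
  have hA := rz_ev h2 hω l2_ne (s ω) (w := [2, 4]) fun k hk => rz_s h2 hω (by revert k; decide)
  set N : Matrix I27 I27 K := (s ω 2 : GL I27 K) * (s ω 4 : GL I27 K) + (s ω 2 : GL I27 K) +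
    (s ω 4 : GL I27 K) + 1 with hN
  have hc : ∀ m n : ℕ, Nat.beq (m % 2) (n % 2) = true → (m : K) = n := fun m n h => by
    rw [← Nat.div_add_mod m 2, ← Nat.div_add_mod n 2, Nat.eq_of_beq_eq_true h]
    simp [h2]
  have h1 : ∀ i < 27, N *ᵥ xE K idx i = val ω 2 (c4 (us.getD i 0)) • (g • xE K idx 0) := by
    refine fun i hi => X.ext_vec fun j hj => ?_
    have k := (allR_iff _ _).1 ((allR_iff _ _).1 t2 i hi) j hj
    obtain ⟨k1, k2⟩ := band_iff.1 k
    have a1 := (X.repE_iff.1 hA).2 i hi j hj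
    have a2 := (X.repE_iff.1 (rz_s h2 hω (k := 2) (by norm_num))).2 i hi j hj
    have a3 := (X.repE_iff.1 (rz_s h2 hω (k := 4) (by norm_num))).2 i hi j hj
    have a4 := (X.repE_iff.1 (mdl h2 hω).one).2 i hi j hj
    have a5 := (X.repE_iff.1 hg).2 0 (by norm_num) j hj
    replace k1 := hc _ _ k1
    replace k2 := hc _ _ k2
    simp only [List.map_cons, List.map_nil, List.prod_cons, List.prod_nil, mul_one,
      Subgroup.coe_mul, Units.val_mul, Units.val_one] at a1 a4
    rw [Pi.smul_apply, smul_xE, xE, mulVec_single_one, col_apply, hN, Matrix.add_apply, Matrix.add_apply,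
      Matrix.add_apply, ← a1, ← a2, ← a3, ← a4, ← a5]
    simp only [ent, val2, zero_mul, zero_add, one_mul, smul_eq_mul]
    push_cast at k1 k2
    linear_combination k1 + ω * k2 - (c4 (us.getD i 0) 1 * dg 7 (pick l2 9) (27 + j)) * hω
  have h3 : ∀ v, ∃ c : K, N *ᵥ v = c • (g • xE K idx 0) := fun v => by
    refine ⟨∑ k ∈ Finset.range 27, v (idx k) * val ω 2 (c4 (us.getD k 0)), ?_⟩
    conv_lhs => rw [eq_sum_b v]
    rw [mulVec_sum, Finset.sum_smul]
    refine Finset.sum_congr rfl fun k hk => ?_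
    rw [mulVec_smul, ← xE_eq (Finset.mem_range.1 hk), h1 k (Finset.mem_range.1 hk), mul_smul]
  have h4 : M * N = N * M := by
    have a := hM 2 (by norm_num) (by norm_num)
    have b := hM 4 (by norm_num) (by norm_num)
    rw [hN, mul_add, mul_add, mul_add, add_mul, add_mul, add_mul, ← mul_assoc, a, mul_assoc, b,
      mul_assoc, mul_one, one_mul]
  obtain ⟨c, h5⟩ := h3 (M *ᵥ xE K idx 0)
  rw [mulVec_mulVec, ← h4, ← mulVec_mulVec, h1 0 (by norm_num),
    show val ω 2 (c4 (us.getD 0 0)) = 1 by simp [val2, us, c4], one_smul] at h5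
  have h6 : ∀ i < 27, M *ᵥ (g • xE K idx i) = c • (g • xE K idx i) := by
    intro i
    induction i using Nat.strong_induction_on with
    | _ i ih =>
      intro hi
      rcases t1 i hi with rfl | ⟨k1, k2, k3, k4⟩
      · exact h5
      rw [(Rep.dig_eq_iff (f := 7) (d := 54) X.f_pos X.p_pos X.indep' hg ((mdl h2 hω).isOp_lab rfl
        l2_ne (rz_s h2 hω k2) _ _ hg) hi (k3.trans hi)).1 (Nat.eq_of_beq_eq_true k4), mul_smul]
      show M *ᵥ (_ *ᵥ _) = c • (_ *ᵥ _)
      rw [mulVec_mulVec, hM _ k1 k2, ← mulVec_mulVec, ih _ k3 (k3.trans hi), mulVec_smul]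
  refine ⟨c, (Units.mul_left_inj g).1 (X.ext_mat fun i hi => ?_)⟩
  rw [← mulVec_mulVec, ← mulVec_mulVec]
  refine (h6 i hi).trans ?_
  funext a
  rw [scalar_apply, mulVec_diagonal]
  rfl

omit h2 hω in
/-- the weights of the module -/
def wt (k i : ℕ) : ℤ := Int.subNatNat (dig WT 3 (6 * k + i)) 4

omit h2 hω in
theorem wt_spec : ∀ r : Rt chevE6, ∀ k < 27, sg r k ≠ 0 →
    tg r k < 27 ∧ ∀ i : Nd chevE6, wt (tg r k) i = wt k i + v r i := by decide +kernel

omit h2 hω in
theorem exists_diag (θ : U K →* chevE6.group K)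
    (hθ : ∀ r < chevE6.nroots, ∀ t, θ (toGs chevE6 (y K) r t) = xC chevE6 K r t)
    (c : Nd chevE6 → Kˣ) : ∃ D : GL I27 K, ∀ a : U K, ∃ a' : U K,
      (a' : GL I27 K) = D * a * D⁻¹ ∧ θ a' = diagAut chevE6 K c (θ a) := by
  let δ : ℕ → Kˣ := fun k => ∏ i, c i ^ wt k i
  let D : GL I27 K := ⟨diagonal fun a => δ (e a), diagonal fun a => ((δ (e a))⁻¹ : Kˣ),
    by simp, by simp⟩
  have hD : ∀ k < 27, D.1 *ᵥ b K k = (δ k : K) • b K k := fun k hk => ext_idx fun j hj => by
    rw [mulVec_diagonal, Pi.smul_apply, b_idx _ hj, e_idx hj]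
    split_ifs with h <;> simp [h]
  let P : Subgroup (U K) :=
    { carrier := {a | ∃ a' : U K, (a' : GL I27 K) = D * a * D⁻¹ ∧ θ a' = diagAut chevE6 K c (θ a)}
      one_mem' := ⟨1, by simp⟩
      mul_mem' := by
        rintro a₁ a₂ ⟨b₁, k1, k2⟩ ⟨b₂, k3, k4⟩
        exact ⟨b₁ * b₂, by simp [k1, k3, mul_assoc], by simp [k2, k4]⟩
      inv_mem' := by
        rintro a₁ ⟨b₁, k1, k2⟩
        exact ⟨b₁⁻¹, by simp [k1, mul_assoc], by simp [k2]⟩ }
  suffices h : ⊤ ≤ P from ⟨D, fun a => h (Subgroup.mem_top a)⟩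
  rw [← Gs_toGs]
  refine XS_le.2 fun r hr t => ⟨toGs chevE6 (y K) r (rootChar c ⟨r, hr⟩ * t), ?_, ?_⟩
  · rw [coe_toGs hr, coe_toGs hr, eq_mul_inv_iff_mul_eq]
    refine Units.ext (Matrix.toLin'.injective (LinearMap.ext fun w => ?_))
    rw [eq_sum_b w, map_sum, map_sum]
    refine Finset.sum_congr rfl fun k hk => ?_
    replace hk := Finset.mem_range.1 hk
    rw [map_smul, map_smul, toLin'_apply, toLin'_apply, mul_mulVec, mul_mulVec, hD k hk, mulVec_smul,
      y_b hr hk, y_b hr hk, mulVec_add, mulVec_smul, hD k hk, smul_add]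
    by_cases h0 : sg r k = 0
    · simp [h0]
    obtain ⟨k1, k2⟩ := wt_spec ⟨r, hr⟩ k hk h0
    have : δ (tg r k) = δ k * rootChar c ⟨r, hr⟩ := by
      simp only [δ, rootChar, ← Finset.prod_mul_distrib, ← _root_.zpow_add]
      exact Finset.prod_congr rfl fun i _ => by rw [← k2]
    rw [hD _ k1, this, smul_smul, smul_smul, Units.val_mul]
    congr 3
    ring
  · rw [hθ r hr, hθ r hr]
    exact (diagAut_xC c ⟨r, hr⟩ t).symm

theorem num_lt (x : Fi22.Gen) : num x < 9 := by cases x <;> decide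

theorem s_sq {k : ℕ} (hk : k < 9) : s ω k * s ω k = 1 := by
  have : ∃ x ∈ coxNodes Fi22.edges, num x = k := by revert k; decide
  obtain ⟨x, hx, rfl⟩ := this
  simpa [coxLabel] using rel h2 hω (by simp [hk]) (c_rel.1 x hx x hx)

theorem exists_emb : ∃ (θ : U K →* chevE6.group K) (Ψ : Fi22 →* chevE6.group K),
    (∀ r < chevE6.nroots, ∀ t, θ (toGs chevE6 (y K) r t) = xC chevE6 K r t) ∧
    (∀ x, Ψ (PresentedGroup.of x) = θ (s ω (num x))) ∧
    ∀ g c, (∀ k, 0 < k → k < 9 → g * diagAut chevE6 K c (θ (s ω k)) * g⁻¹ = θ (s ω k)) →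
      ∀ u, g * diagAut chevE6 K c u * g⁻¹ = u := by
  have hD : chevE6 ∈ [chevG2, chevB2, chevD4, chevF4, chevE6, chevE7, chevE8] := by simp
  have h3 : chevE6 = chevG2 ∨ chevE6 = chevB2 → ∃ a : K, a ≠ 0 ∧ a ≠ 1 := by
    rintro (h | h) <;> exact absurd (congrArg ChevalleyDatum.rank h) (by decide)
  have : Nontrivial (U K) := ⟨B ω 0, 1, fun h => by
    have := (ctx h2 hω).unique (rz_B h2 hω 0) (by rw [h]; exact (mdl h2 hω).one)
    exact absurd this (by decide +kernel)⟩
  obtain ⟨θ, hθ⟩ := (isSt0_y.toGs hD).exists_hom hD h3 (Gs_toGs (y := y K))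
  have hk := ((isSt0_y.toGs hD).isSt hD).ker_eq_center rootTableE6 θ hθ Gs_toGs
  refine ⟨θ, PresentedGroup.toGroup (f := fun x => θ (s ω (num x))) ?_, hθ,
    fun x => PresentedGroup.toGroup.of _, fun g c hg u => ?_⟩
  · rintro r (⟨x, hx, y, hy, rfl⟩ | hr)
    · simpa using congrArg θ (rel h2 hω (by simp [num_lt h2 hω]) (c_rel.1 x hx y hy))
    · simp only [Fi22.extra, List.mem_cons, List.not_mem_nil, or_false, Set.mem_ofPred_eq] at hr
      rcases hr with rfl | rfl | rfl
      · simpa [num, mul_assoc] using MonoidHom.mem_ker.1 (hk.ge (spider h2 hω))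
      · simpa [num, mul_assoc] using congrArg θ (rel h2 hω (by decide) c_rel.2.2.1)
      · simpa [num, mul_assoc] using congrArg θ (rel h2 hω (by decide) c_rel.2.2.2)
  obtain ⟨D, hD'⟩ := exists_diag θ hθ c
  obtain ⟨g, rfl⟩ := surjective_of_hom θ hθ g
  obtain ⟨u, rfl⟩ := surjective_of_hom θ hθ u
  obtain ⟨μ, hμ⟩ := scalar_of_comm h2 hω (M := ((g * D : GL I27 K) : Matrix I27 I27 K))
    fun k k1 k2 => by
      obtain ⟨a, a1, a2⟩ := hD' (s ω k)
      have z1 : s ω k * (g * a * g⁻¹) ∈ Subgroup.center (U K) := hk.le (by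
        rw [MonoidHom.mem_ker, map_mul, map_mul, map_mul, map_inv, a2, hg k k1 k2, ← map_mul,
          s_sq h2 hω k2, map_one])
      obtain ⟨ν, hν⟩ := scalar_of_comm h2 hω
        (M := ((s ω k * (g * a * g⁻¹) : U K) : GL I27 K)) fun j _ _ =>
          congrArg (fun x : U K => ((x : GL I27 K) : Matrix I27 I27 K))
            (Subgroup.mem_center_iff.1 z1 _).symm
      have a3 : a * a = 1 := Subtype.ext (by
        rw [Subgroup.coe_mul, a1, conj_mul, ← Subgroup.coe_mul, s_sq h2 hω k2]; simp)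
      have z2 : s ω k * (g * a * g⁻¹) * (s ω k * (g * a * g⁻¹)) = 1 := by
        rw [mul_assoc, Subgroup.mem_center_iff.1 z1, mul_assoc (s ω k), conj_mul, a3]
        simp [s_sq h2 hω k2]
      have z3 := congrArg (fun x : U K => ((x : GL I27 K) : Matrix I27 I27 K) (idx 0) (idx 0)) z2
      simp only [Subgroup.coe_mul _ (s ω k * _), Units.val_mul, hν, ← map_mul] at z3
      have z4 : ν = 1 := by
        have : (ν - 1) ^ 2 = 0 := by
          simp at z3
          linear_combination z3 + (1 - ν) * h2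
        exact sub_eq_zero.1 (pow_eq_zero_iff two_ne_zero |>.1 this)
      rw [z4, map_one, Units.val_eq_one, Subgroup.coe_mul, Subgroup.coe_mul, Subgroup.coe_mul, a1,
        Subgroup.coe_inv] at hν
      rw [← Units.val_mul, ← Units.val_mul, Units.val_inj]
      have := congrArg (fun x : U K => (x : GL I27 K)) (s_sq h2 hω k2)
      simp only [Subgroup.coe_mul, Subgroup.coe_one] at this
      rw [← mul_left_cancel_iff (a := (s ω k : GL I27 K)), ← mul_assoc _ (s ω k : GL I27 K), this,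
        ← hν]
      group
  obtain ⟨a, a1, a2⟩ := hD' u
  rw [← a2, ← map_inv, ← map_mul, ← map_mul]
  refine congrArg θ (Subtype.ext ?_)
  have : (g * D : GL I27 K) * u = u * (g * D) := Units.ext (by
    rw [Units.val_mul, hμ, Units.val_mul (u : GL I27 K), hμ]
    exact Matrix.scalar_commute _ (fun _ => Commute.all _ _) _)
  rw [Subgroup.coe_mul, Subgroup.coe_mul, a1, Subgroup.coe_inv, ← mul_assoc, ← mul_assoc, this]
  group

end Cfsg.Agent.Chev.F22
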