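import Mathlib
import Cfsg.Agent.Chev.F22Emb
import Cfsg.Agent.S5743
import Cfsg.Agent.S1696

/-! Three classes of subgroups `Fi₂₂` and `Ω₇(3)` in `²E₆(2)`. -/

set_option autoImplicit false

namespace Cfsg.Agent.Chev.F22

open Cfsg.Agent.Chev.E6R Cfsg.Spor Cfsg.Lie Cfsg.Agent.St Cfsg.Agent.Chev.E6

theorem aut_sq {A : Type*} [Group A] (h : ∀ a : Out A, a * a = 1) (α : MulAut A) :
    ∃ h, ∀ a, α (α a) = h * a * h⁻¹ := by
  obtain ⟨g, hg⟩ := (QuotientGroup.eq_one_iff (α * α)).1 (h α)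
  exact ⟨g, fun a => (DFunLike.congr_fun hg a).symm⟩

theorem exists_num : ∀ k < 9, 0 < k → ∃ x ∈ coxNodes Fi22.edges, x ≠ .a ∧ num x = k := by decide

theorem three {K : Type*} [Field K] [Fintype K] (hK : Fintype.card K = 4) {A : Type*} [Group A]
    (ι : A →* Fi22) (hι : Function.Injective ι)
    (hr : ∀ x, x ≠ Fi22.Gen.a → PresentedGroup.of x ∈ ι.range) (hA : ∀ a : Out A, a * a = 1) :
    ∃ H : Fin 3 → Subgroup (twistedE6 K 2), (∀ i, Nonempty (H i ≃* A)) ∧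
      ∀ i j, i ≠ j → ∀ g : twistedE6 K 2, (H i).map (MulAut.conj g).toMonoidHom ≠ H j := by
  classical
  obtain ⟨S, φ, hφ, hq, hT⟩ := E6.exists_data (K := K) (q := 2) Nat.prime_two.isPrimePow hK
  have hcU : Fintype.card Kˣ = 3 := by rw [Fintype.card_units, hK]
  have h3 : ∀ u : Kˣ, u ^ 3 = 1 := fun u => hcU ▸ pow_card_eq_one
  obtain ⟨ω, hω⟩ : ∃ ω : Kˣ, ω ≠ 1 := by
    have : Nontrivial Kˣ := Fintype.one_lt_card_iff_nontrivial.mp (by omega)
    exact exists_ne 1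
  have : CharP K 2 := charP_of_card_eq_prime_pow (f := 2) (by rw [hK]; norm_num)
  have h2 : (2 : K) = 0 := CharTwo.two_eq_zero
  have hw : (ω : K) ^ 2 = 1 + ω := by
    have h4 : (ω : K) ^ 3 = 1 := by simpa using congrArg Units.val (h3 ω)
    refine mul_left_cancel₀ (sub_ne_zero.2 fun h => hω (Units.val_eq_one.1 h)) ?_
    linear_combination h4 - (ω ^ 2 - 1 : K) * h2
  obtain ⟨θ, Φ, hθ, hΦ, hc'⟩ := exists_emb h2 hw
  have hB : ∀ j, θ ((ex.getD j []).map (B (ω : K))).prod ∈ (tw S φ hφ).data.T := fun j => by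
    have v1 : Comp.Kron.val (ω : K) 2 (c4 1) = 1 := by simp [val2, c4]
    have v2 : Comp.Kron.val (ω : K) 2 (c4 2) = ω := by simp [val2, c4]
    have v3 : Comp.Kron.val (ω : K) 2 (c4 3) = φ ω := by simp [val2, c4, hq, hw]
    have hθ' : ∀ r, r < 72 → ∀ t, θ (toGs chevE6 (y K) r t) = xC chevE6 K r t := hθ
    by_cases hj : j < 12
    swap
    · rw [List.getD_eq_default _ _ (not_lt.1 hj)]
      simp
    interval_cases j
    · exact E6.par_pos_mem S _ hφ (a := 0) ⟨1, map_one φ, by simp [ex, B, bl, hθ', v1]⟩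
    · exact E6.par_pos_mem S _ hφ (a := 1) ⟨1, map_one φ, by simp [ex, B, bl, hθ', v1]⟩
    · exact E6.par_neg_mem S _ hφ (a := 0) ⟨1, map_one φ, by simp [ex, B, bl, hθ', v1]⟩
    · exact E6.par_neg_mem S _ hφ (a := 1) ⟨1, map_one φ, by simp [ex, B, bl, hθ', v1]⟩
    · exact E6.par_pos_mem S _ hφ (a := 2) ⟨1, by simp [ex, B, bl, hθ', v1]⟩
    · exact E6.par_pos_mem S _ hφ (a := 2) ⟨ω, by simp [ex, B, bl, hθ', v2, v3]⟩
    · exact E6.par_pos_mem S _ hφ (a := 3) ⟨1, by simp [ex, B, bl, hθ', v1]⟩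
    · exact E6.par_pos_mem S _ hφ (a := 3) ⟨ω, by simp [ex, B, bl, hθ', v2, v3]⟩
    · exact E6.par_neg_mem S _ hφ (a := 2) ⟨1, by simp [ex, B, bl, hθ', v1]⟩
    · exact E6.par_neg_mem S _ hφ (a := 2) ⟨ω, by simp [ex, B, bl, hθ', v2, v3]⟩
    · exact E6.par_neg_mem S _ hφ (a := 3) ⟨1, by simp [ex, B, bl, hθ', v1]⟩
    · exact E6.par_neg_mem S _ hφ (a := 3) ⟨ω, by simp [ex, B, bl, hθ', v2, v3]⟩
  have hΦT : ∀ a, Φ a ∈ (tw S φ hφ).data.T := fun a =>
    PresentedGroup.generated_by _ ((tw S φ hφ).data.T.comap Φ) (fun x => by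
      rw [Subgroup.mem_comap, hΦ, s, wd]
      induction (ws.getD (num x) [] ++ 0 :: (ws.getD (num x) []).reverse) with
      | nil => simp
      | cons j w ih =>
        rw [List.flatMap_cons, List.map_append, List.prod_append, map_mul]
        exact mul_mem (hB j) ih) a
  have hi : Function.Injective Φ := by
    have := S1696.result.1
    rw [← MonoidHom.ker_eq_bot_iff]
    refine (IsSimpleGroup.eq_bot_or_eq_top_of_normal _ inferInstance).resolve_right fun h => ?_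
    have h4 : Φ (PresentedGroup.of Fi22.Gen.d) = 1 := (h ▸ Subgroup.mem_top _ : _ ∈ Φ.ker)
    rw [hΦ, show s (ω : K) (num .d) = toGs chevE6 (y K) 46 1 by
      simp [s, wd, ws, num, ex, B, bl, val2, c4], hθ 46 (by decide)] at h4
    exact one_ne_zero (S.nd.eq_zero_of_x_eq_one (r := 46) (by decide) h4)
  let Ψ := Φ.comp ι
  let c : Fin 3 → Fin 6 → Kˣ := fun k => ![ω ^ (k : ℕ), 1, 1, 1, 1, (ω ^ (k : ℕ)) ^ 2]
  have hc : ∀ k, c k ∈ (tw S φ hφ).fixT := fun k => (E6.mem_fixT S φ hφ).mpr (by simp [c, hq])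
  have hmem : ∀ k a, ((diagAut chevE6 K (c k) (Ψ a) : chevE6.group K) : GL chevE6.Idx K) ∈
      twistedE6 K 2 := fun k a => by
    rw [← Subgroup.mem_subgroupOf, hT, E6.T_eq_Fix, TwistData.mem_Fix]
    have := hΦT (ι a)
    rw [E6.T_eq_Fix, TwistData.mem_Fix] at this
    exact ((tw S φ hφ).σ_diagAut (hc k) _).trans (congrArg _ this)
  let f : Fin 3 → A →* twistedE6 K 2 := fun k =>
    ((chevE6.group K).subtype.comp ((diagAut chevE6 K (c k)).toMonoidHom.comp Ψ)).codRestrict _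
      (hmem k)
  have hf : ∀ k, Function.Injective (f k) := fun k a b e =>
    hι (hi ((diagAut chevE6 K (c k)).injective (Subtype.ext (congrArg Subtype.val e :))))
  refine ⟨fun k => (f k).range, fun k => ⟨(MonoidHom.ofInjective (hf k)).symm⟩,
    fun i j hij g e => ?_⟩
  obtain ⟨α, hα⟩ := exists_aut_of_map_range (hf i) (hf j) _ e
  obtain ⟨h, hh⟩ := aut_sq hA α
  let g₀ : chevE6.group K := ⟨g, E6.le_group g.2⟩
  have e1 : ∀ a, diagAut chevE6 K (c j) (Ψ (α a)) = g₀ * diagAut chevE6 K (c i) (Ψ a) * g₀⁻¹ :=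
    fun a => Subtype.ext (congrArg Subtype.val (hα a) :)
  obtain ⟨g₂, e3⟩ := S5743.abs_cent (C := Fin 6 → Kˣ) (diagAut chevE6 K) Ψ α h hh (c i) (c j) g₀ e1
  have := S5743.key S h3 g₂ _ fun u _ => hc' g₂ _ (fun k k1 k2 => e3 _ (by
    obtain ⟨x, -, hx, rfl⟩ := exists_num k k2 k1
    obtain ⟨a, ha⟩ := hr x hx
    exact ⟨a, (congrArg Φ ha).trans (hΦ x)⟩)) u
  have ho : orderOf ω = 3 := orderOf_eq_prime (h3 ω) hω
  simp only [c, Pi.mul_apply, Pi.inv_apply] at this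
  simp at this
  rw [← inv_pow (ω ^ (j : ℕ)) 2, ← mul_pow] at this
  have h4 := h3 ((ω ^ (j : ℕ))⁻¹ * ω ^ (i : ℕ))
  generalize hu : (ω ^ (j : ℕ))⁻¹ * ω ^ (i : ℕ) = u at this h4
  have h5 : u = 1 := by
    have h6 : u ^ 2 * u ^ 2 = u ^ 3 * u := by rw [← pow_add, ← pow_succ]
    rw [h6, h4, one_mul] at this
    simpa using this
  rw [h5, inv_mul_eq_one, pow_inj_mod, ho, Nat.mod_eq_of_lt j.2, Nat.mod_eq_of_lt i.2] at hu
  exact hij (Fin.ext hu.symm)

end Cfsg.Agent.Chev.F22
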