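import Mathlib
import Cfsg.Agent.Chev.MinDegTw
import Cfsg.Agent.Chev.TwistGen
import Cfsg.Agent.Chev.TwistBN

/-!
Twisting data from graph automorphisms of order two and three.
-/

set_option autoImplicit false

namespace Cfsg.Agent.Chev.MD

open Module Cfsg.Lie

variable {D : ChevalleyDatum} [hG : Good D] {K : Type*} [Field K] {G : Type*} [Group G]
  {x : ℕ → K → G}

/-- The combinatorial part of the twisting data. -/
structure TwComb (D : ChevalleyDatum) [Good D] (ρ : Rt D → Rt D) (f : (Nd D → ℤ) →+ ℤ) : Prop where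
  f_ρ : ∀ r, f (v (ρ r)) = f (v r)
  f_ne : ∀ r : Rt D, f (v r) ≠ 0
  sl : ∀ r : Rt D, Lg r
  fib : ∀ r s, f (v s) = f (v r) → s = r ∨ s = ρ r ∨ s = ρ (ρ r)
  orth : ∀ r s, f (v r) = f (v s) → r ≠ s → A r s = 0
  A_ρ : ∀ r s, A (ρ r) (ρ s) = A r s
  sep : ∀ r s, f (v r) + f (v s) ≠ 0 → 0 < f (v r) * f (v s) ∨
    ∃ a, ρ a = a ∧ 0 ≤ A a r ∧ 0 ≤ A a s ∧ 0 < A a r + A a s

theorem commute_of_co (h : IsSt0 D x) (T : RootTable D) (sl : ∀ r : Rt D, Lg r) {a r s : Rt D}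
    (hr : A a r = 1) (hs : A a s = 1) (hne : s ≠ dl a r) (t u : K) : Commute (x r t) (x s u) := by
  have := comm_mem_of h T (a := r) (b := s) (fun e => by
    have := congrArg (cor a) e
    rw [map_add, cor_v, cor_v, map_zero] at this
    omega) t u (S := ∅) fun c i j hi hj e => by
      exfalso
      have h1 : A a c = i + j := by
        rw [← cor_v, e, map_add, map_nsmul, map_nsmul, cor_v, cor_v, hr, hs]; simp
      have h2 := (sl a).A_le_two (fun c => (sl c).le) c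
      obtain rfl : i = 1 := by omega
      obtain rfl : j = 1 := by omega
      have h3 : c = a := by
        by_contra h3
        have := (sl a).A_le (fun c => (sl c).le) h3
        omega
      refine hne (v_injective ?_)
      rw [v_dl hr, ← h3, e]; simp
  rw [XS_empty, Subgroup.mem_bot] at this
  calc x r t * x s u = x s u * x r t * ((x r t)⁻¹ * (x s u)⁻¹ * x r t * x s u) := by group
    _ = _ := by rw [this, mul_one]

theorem commute_of_orth (h : IsSt0 D x) (T : RootTable D) (sl : ∀ r : Rt D, Lg r) {r s : Rt D}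
    (hrs : A r s = 0) (t u : K) : Commute (x r t) (x s u) := by
  have := comm_mem_of h T (a := r) (b := s) (fun e => by
    have := congrArg (cor r) e
    rw [map_add, cor_v, cor_v, map_zero, A_self] at this
    omega) t u (S := ∅) fun c i j hi hj e => by
      exfalso
      have h1 : A r c = i * 2 := by
        rw [← cor_v, e, map_add, map_nsmul, map_nsmul, cor_v, cor_v, hrs, A_self]; simp
      have h2 := (sl r).A_le_two (fun c => (sl c).le) c
      obtain rfl : i = 1 := by omega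
      have h3 : c = r := by
        by_contra h3
        have := (sl r).A_le (fun c => (sl c).le) h3
        omega
      rw [h3, one_smul, left_eq_add, smul_eq_zero] at e
      exact v_ne_zero s (e.resolve_left hj.ne')
  rw [XS_empty, Subgroup.mem_bot] at this
  calc x r t * x s u = x s u * x r t * ((x r t)⁻¹ * (x s u)⁻¹ * x r t * x s u) := by group
    _ = _ := by rw [this, mul_one]

theorem comm_mul_mul {y₁ y₂ z₁ z₂ : G} (h1 : Commute y₁ y₂) (h2 : Commute y₁ z₂)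
    (h3 : Commute z₁ y₂) (h4 : Commute z₁ z₂) :
    (y₁ * y₂)⁻¹ * (z₁ * z₂)⁻¹ * (y₁ * y₂) * (z₁ * z₂) =
      (y₁⁻¹ * z₁⁻¹ * y₁ * z₁) * (y₂⁻¹ * z₂⁻¹ * y₂ * z₂) := by
  have c1 : Commute (y₁⁻¹ * z₁⁻¹ * y₁ * z₁) y₂⁻¹ :=
    (((h1.inv_left.mul_left h3.inv_left).mul_left h1).mul_left h3).inv_right
  have c2 : Commute (z₁⁻¹ * y₁ * z₁) z₂⁻¹ := ((h4.inv_left.mul_left h2).mul_left h4).inv_right
  have c3 : Commute y₁⁻¹ z₂⁻¹ := h2.inv_left.inv_right
  calc (y₁ * y₂)⁻¹ * (z₁ * z₂)⁻¹ * (y₁ * y₂) * (z₁ * z₂)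
      = y₂⁻¹ * (y₁⁻¹ * z₂⁻¹) * z₁⁻¹ * y₁ * (y₂ * z₁) * z₂ := by group
    _ = y₂⁻¹ * y₁⁻¹ * (z₂⁻¹ * (z₁⁻¹ * y₁ * z₁)) * y₂ * z₂ := by
      rw [← h3.eq]; group
    _ = y₂⁻¹ * (y₁⁻¹ * z₁⁻¹ * y₁ * z₁) * z₂⁻¹ * y₂ * z₂ := by rw [← c2.eq]; group
    _ = _ := by rw [← c1.eq]; group

namespace TwComb

variable {ρ : Rt D → Rt D} {f : (Nd D → ℤ) →+ ℤ} (C : TwComb D ρ f)
include C

theorem eq_of_fix (r s : Rt D) (h : ρ r = r) (e : f (v s) = f (v r)) : s = r := by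
  rcases C.fib r s e with h1 | h1 | h1 <;> simp [h1, h]

theorem A_fib (a r s : Rt D) (h : ρ a = a) (e : f (v r) = f (v s)) : A a r = A a s := by
  have : ∀ s, A a (ρ s) = A a s := fun s => by rw [← C.A_ρ a s, h]
  rcases C.fib s r e with h1 | h1 | h1 <;> simp [h1, this]

theorem A_symm (a b : Rt D) : A a b = A b a := (C.sl a).symm (C.sl b)

theorem nil (T : RootTable D) (r : Rt D) :
    T.Nil {k | ∃ s : Rt D, (s : ℕ) = k ∧ f (v s) = f (v r)} :=
  ⟨by rintro _ ⟨s, rfl, -⟩; exact T.lt_iff.mp s.2, closed_of_orth C.sl C.orth T _,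
    f (v r) • f, by
      rintro _ ⟨s, rfl, e⟩
      rw [T.vec_eq_v, AddMonoidHom.smul_apply, e]
      exact mul_self_pos.mpr (C.f_ne r)⟩

theorem f_dl_ne {a b : Rt D} (h : A a b = 1) : f (v (dl a b)) ≠ f (v b) := fun e => by
  have := C.orth _ _ e (dl_ne h)
  rw [C.A_symm, TwSys.A_dl h, A_self, C.A_symm, h] at this
  omega

/-- The roots of the classes of `b` and `a - b` commute, except for dual pairs. -/
theorem commute (h : IsSt0 D x) (T : RootTable D) {a b r s : Rt D} (ha : ρ a = a) (hab : A a b = 1)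
    (hr : f (v r) = f (v b) ∨ f (v r) = f (v (dl a b)))
    (hs : f (v s) = f (v b) ∨ f (v s) = f (v (dl a b))) (hne : s ≠ dl a r) (t u : K) :
    Commute (x r t) (x s u) := by
  have h1 : A a (dl a b) = 1 := by rw [TwSys.A_dl hab, A_self, hab]; rfl
  refine commute_of_co h T C.sl (a := a) ?_ ?_ hne t u
  · rcases hr with e | e <;> rw [C.A_fib a _ _ ha e] <;> assumption
  · rcases hs with e | e <;> rw [C.A_fib a _ _ ha e] <;> assumption

theorem ρ_dl {a b : Rt D} (ha : ρ a = a) (hab : A a b = 1) : ρ (dl a b) = dl a (ρ b) := by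
  have h1 : A a (ρ b) = 1 := by rw [C.A_fib a _ _ ha (C.f_ρ b), hab]
  by_contra hne
  have h2 := (C.sl (ρ (dl a b))).A_le (fun c => (C.sl c).le) (Ne.symm hne)
  rw [TwSys.A_dl h1, C.A_ρ, C.A_symm _ a, C.A_fib a _ _ ha (C.f_ρ _), C.A_symm _ b,
    TwSys.A_dl hab, TwSys.A_dl hab, A_self, A_self, hab, C.A_symm b a, hab] at h2
  omega

theorem exists_comm (h : IsSt0 D x) {a b : Rt D} (hab : A a b = 1) {u : K} (hu : u ≠ 0) (w : K) :
    ∃ s, (x b u)⁻¹ * (x (dl a b) s)⁻¹ * x b u * x (dl a b) s = x a w := by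
  have hm : (D.chainM (dl a b) b 1 : K) ≠ 0 := by
    rcases chainM_dl (fun c => (C.sl c).le) (C.sl _) (C.sl _) hab with e | e <;> simp [e]
  refine ⟨-(w / (D.chainM (dl a b) b 1 * u)), ?_⟩
  rw [comm_dl (fun c => (C.sl c).le) h (C.sl _) hab]
  congr 1
  field_simp

end TwComb

section

variable {T : RootTable D} (S : ChevSys T x) {σ : G →* G} {ρ : Rt D → Rt D} {φ : K →+* K}
  {f : (Nd D → ℤ) →+ ℤ} (C : TwComb D ρ f)
  (hσ : ∀ r : Rt D, ∃ e : K, (ρ r = r → e = 1) ∧ ∀ t, σ (x r t) = x (ρ r) (e * φ t))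
  (hh' : ∀ (r : Rt D) t, t ≠ 0 → σ (hh D x r t) = hh D x (ρ r) (φ t))

omit hG in
theorem hh_conj' (h : IsSt D x) (T : RootTable D) (r s : Rt D) {c : K} (hc : c ≠ 0) (t : K) :
    hh D x r c * x s t * (hh D x r c)⁻¹ = x s (c ^ A r s * t) :=
  h.hh_conj T (T.lt_iff.mp r.2) (T.lt_iff.mp s.2) hc t

theorem conj_mul' (a b y : G) : a * b * y * (a * b)⁻¹ = a * (b * y * b⁻¹) * a⁻¹ := by group

/-- Twisting data of order two. -/
noncomputable def twSys2 (hρ : ∀ r, ρ (ρ r) = r) (hφ : ∀ t, φ (φ t) = t)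
    (hσσ : ∀ (r : Rt D) t, σ (σ (x r t)) = x r t) (htr : ∃ e, e + φ e ≠ 0)
    (hl : ∃ l, l * φ l = 1 ∧ l ^ 2 ≠ 1) : TwSys D x where
  σ := σ
  ρ := ρ
  φ := φ
  f := f
  y r t := x r t * σ (x r t)
  map_x r t := by obtain ⟨e, -, h⟩ := hσ r; exact ⟨_, h t⟩
  fix_x r hr t := by obtain ⟨e, h1, h⟩ := hσ r; rw [h, hr, h1 hr, one_mul]
  f_ρ := C.f_ρ
  f_ne := C.f_ne
  sl := C.sl
  eq_of_fix := C.eq_of_fix
  orth := C.orth
  A_fib := C.A_fib
  sep := C.sep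
  y_add r hr t u := by
    obtain ⟨e, -, h⟩ := hσ r
    have c := commute_of_orth S.st.toIsSt0 T C.sl (C.orth _ _ (C.f_ρ r) hr) (e * φ t) u
    rw [← h] at c
    rw [← S.st.add r r.2, map_mul, mul_assoc, mul_assoc, ← mul_assoc (σ _), c.eq, mul_assoc]
  y_inj r hr t e := by
    obtain ⟨c, -, h⟩ := hσ r
    rw [h] at e
    exact (S.inj₂ (C.nil T r) ⟨r, rfl, rfl⟩ ⟨ρ r, rfl, C.f_ρ r⟩ (a' := 0) (b' := 0)
      (by simpa using fun e => hr (Fin.ext e).symm)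
      (by rw [e, S.st.x_zero r.2, S.st.x_zero (ρ r).2, one_mul])).1
  mem_y r hr g := by
    obtain ⟨c, -, h⟩ := hσ r
    obtain ⟨c', -, h'⟩ := hσ (ρ r)
    rw [hρ] at h'
    simp only [h]
    refine S.fix_A2 (C.nil T r) (by simpa using fun e => hr (Fin.ext e).symm) (fun k => ?_) h h'
      (fun t => S.x_inj r.2 (by rw [← h', ← h, hσσ]))
      (commute_of_orth S.st.toIsSt0 T C.sl (C.orth _ _ (C.f_ρ r).symm (Ne.symm hr))) g
    simp only [List.mem_cons, List.not_mem_nil, or_false, Set.mem_ofPred_eq]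
    constructor
    · rintro (rfl | rfl)
      exacts [⟨r, rfl, rfl⟩, ⟨ρ r, rfl, C.f_ρ r⟩]
    · rintro ⟨s, rfl, e⟩
      rcases C.fib r s e with h1 | h1 | h1 <;> simp [h1, hρ]
  heis_y a b ha hb hab u hu t ht := by
    obtain ⟨e, he⟩ := htr
    obtain ⟨s, hs⟩ := C.exists_comm S.st.toIsSt0 hab hu (t * e / (e + φ e))
    obtain ⟨c, -, h1⟩ := hσ b
    obtain ⟨c', -, h2⟩ := hσ (dl a b)
    obtain ⟨c'', h3, h4⟩ := hσ a
    have hab' : A a (ρ b) = 1 := by rw [C.A_fib a _ _ ha (C.f_ρ b), hab]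
    have n1 := C.f_dl_ne hab
    have hc := fun r s => C.commute S.st.toIsSt0 T (r := r) (s := s) ha hab
    have hb' : ρ (dl a b) ≠ dl a b := fun e => hb (by
      rw [C.ρ_dl ha hab] at e; rw [← TwSys.dl_dl hab', e, TwSys.dl_dl hab])
    refine ⟨s, ?_⟩
    rw [comm_mul_mul, hs, ← map_inv, ← map_inv, ← map_mul, ← map_mul, ← map_mul, hs, h4, h3 ha, ha,
      S.st.add a a.2]
    · congr 1
      have : φ e + e ≠ 0 := by rwa [add_comm]
      simp only [map_div₀, map_mul, map_add, hφ, ht]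
      field_simp
      ring
    · rw [h1]; exact hc _ _ (.inl rfl) (.inl (C.f_ρ _)) (fun e => n1 (by rw [← e, C.f_ρ])) _ _
    · rw [h2]; exact hc _ _ (.inl rfl) (.inr (C.f_ρ _)) hb' _ _
    · rw [h1]; exact hc _ _ (.inr rfl) (.inl (C.f_ρ _)) (by rwa [TwSys.dl_dl hab]) _ _
    · rw [h2]
      exact hc _ _ (.inr rfl) (.inr (C.f_ρ _))
        (by rw [TwSys.dl_dl hab]; exact fun e => n1 (by rw [← C.f_ρ, e])) _ _
  tor_y g hg := by
    obtain ⟨l, h1, h2⟩ := hl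
    have l0 : l ≠ 0 := left_ne_zero_of_mul_eq_one h1
    have l1 : φ l ≠ 0 := right_ne_zero_of_mul_eq_one h1
    have m1 := hh_mem_Hs (x := x) g.2 l0
    have m2 := hh_mem_Hs (x := x) (ρ g).2 l1
    have hfix : σ (hh D x g l * hh D x (ρ g) (φ l)) = hh D x g l * hh D x (ρ g) (φ l) := by
      rw [map_mul, hh' _ _ l0, hh' _ _ l1, hρ, hφ, S.H_comm (S.H_eq ▸ m2) (S.H_eq ▸ m1)]
    refine ⟨(hh D x g l * hh D x (ρ g) (φ l))⁻¹, inv_mem (mul_mem m1 m2), by rw [map_inv, hfix],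
      fun a ha t => ?_, l ^ 2, h2, fun t => ?_⟩
    · rw [inv_inv, conj_mul', hh_conj' S.st T _ _ l1, hh_conj' S.st T _ _ l0, ← mul_assoc,
        C.A_symm (ρ g), C.A_fib a _ _ ha (C.f_ρ g), C.A_symm a, ← mul_zpow, h1, one_zpow, one_mul]
    · have e : hh D x g l * hh D x (ρ g) (φ l) * x g t * (hh D x g l * hh D x (ρ g) (φ l))⁻¹ =
          x g (l ^ 2 * t) := by
        rw [conj_mul', hh_conj' S.st T _ _ l1, hh_conj' S.st T _ _ l0, A_self,
          C.orth _ _ (C.f_ρ g) hg, zpow_zero, one_mul, zpow_ofNat]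
      rw [inv_inv, ← e, map_mul σ, map_mul σ, map_inv σ, hfix]
      group

/-- Twisting data of order three. -/
noncomputable def twSys3 (hρ : ∀ r, ρ (ρ (ρ r)) = r) (hφ : ∀ t, φ (φ (φ t)) = t)
    (hσσ : ∀ (r : Rt D) t, σ (σ (σ (x r t))) = x r t) (htr : ∃ e, e + φ e + φ (φ e) ≠ 0)
    (hl : ∃ l, l * φ l * φ (φ l) = 1 ∧ l ^ 2 ≠ 1) : TwSys D x where
  σ := σ
  ρ := ρ
  φ := φ
  f := f
  y r t := x r t * σ (x r t) * σ (σ (x r t))
  map_x r t := by obtain ⟨e, -, h⟩ := hσ r; exact ⟨_, h t⟩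
  fix_x r hr t := by obtain ⟨e, h1, h⟩ := hσ r; rw [h, hr, h1 hr, one_mul]
  f_ρ := C.f_ρ
  f_ne := C.f_ne
  sl := C.sl
  eq_of_fix := C.eq_of_fix
  orth := C.orth
  A_fib := C.A_fib
  sep := C.sep
  y_add r hr t u := by
    obtain ⟨e, -, h⟩ := hσ r
    obtain ⟨e', -, h'⟩ := hσ (ρ r)
    have hr' : ρ (ρ r) ≠ r := fun e => hr (by rw [← hρ (ρ r), e, e])
    have c1 : Commute (σ (x r t)) (x r u) := by
      rw [h]; exact commute_of_orth S.st.toIsSt0 T C.sl (C.orth _ _ (C.f_ρ r) hr) _ _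
    have c2 : Commute (σ (σ (x r t))) (x r u) := by
      rw [h, h']
      exact commute_of_orth S.st.toIsSt0 T C.sl (C.orth _ _ ((C.f_ρ _).trans (C.f_ρ r)) hr') _ _
    have c3 := c1.map σ
    rw [← S.st.add r r.2, map_mul, map_mul]
    calc _ = x r t * (x r u * σ (x r t)) * (σ (x r u) * σ (σ (x r t))) * σ (σ (x r u)) := by group
      _ = x r t * σ (x r t) * (x r u * σ (σ (x r t))) * σ (x r u) * σ (σ (x r u)) := by
        rw [← c1.eq, ← c3.eq]; group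
      _ = _ := by rw [← c2.eq]; group
  y_inj r hr t e := by
    obtain ⟨c, -, h⟩ := hσ r
    obtain ⟨c', -, h'⟩ := hσ (ρ r)
    have hr' : ρ (ρ r) ≠ r := fun e => hr (by rw [← hρ (ρ r), e, e])
    have hr'' : ρ (ρ r) ≠ ρ r := fun e => hr' (by have := hρ r; rwa [e] at this)
    rw [h, h'] at e
    exact (S.inj₃ (C.nil T r) ⟨r, rfl, rfl⟩ ⟨ρ r, rfl, C.f_ρ r⟩
      ⟨ρ (ρ r), rfl, (C.f_ρ _).trans (C.f_ρ r)⟩ (a' := 0) (b' := 0) (c' := 0)
      (by simpa [← Fin.ext_iff] using ⟨⟨hr.symm, hr'.symm⟩, hr''.symm⟩)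
      (by rw [e, S.st.x_zero r.2, S.st.x_zero (ρ r).2, S.st.x_zero (ρ (ρ r)).2, one_mul, one_mul])).1
  mem_y r hr g := by
    obtain ⟨c, -, h⟩ := hσ r
    obtain ⟨c', -, h'⟩ := hσ (ρ r)
    obtain ⟨c'', -, h''⟩ := hσ (ρ (ρ r))
    rw [hρ] at h''
    have hr' : ρ (ρ r) ≠ r := fun e => hr (by rw [← hρ (ρ r), e, e])
    have hr'' : ρ (ρ r) ≠ ρ r := fun e => hr' (by have := hρ r; rwa [e] at this)
    have m1 : (r : ℕ) ∈ {k | ∃ s : Rt D, (s : ℕ) = k ∧ f (v s) = f (v r)} := ⟨r, rfl, rfl⟩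
    have m2 : (ρ r : ℕ) ∈ {k | ∃ s : Rt D, (s : ℕ) = k ∧ f (v s) = f (v r)} := ⟨_, rfl, C.f_ρ r⟩
    have m3 : (ρ (ρ r) : ℕ) ∈ {k | ∃ s : Rt D, (s : ℕ) = k ∧ f (v s) = f (v r)} :=
      ⟨_, rfl, (C.f_ρ _).trans (C.f_ρ r)⟩
    have nd : [(r : ℕ), ρ r, ρ (ρ r)].Nodup := by
      simpa [← Fin.ext_iff] using ⟨⟨hr.symm, hr'.symm⟩, hr''.symm⟩
    have c1 := commute_of_orth S.st.toIsSt0 T C.sl (C.orth _ _ (C.f_ρ r) hr)
    have c2 := commute_of_orth S.st.toIsSt0 T C.sl (C.orth _ _ ((C.f_ρ _).trans (C.f_ρ r)) hr')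
    constructor
    · rintro ⟨h1, h2⟩
      obtain ⟨t, rfl⟩ := S.st.toIsSt0.exists_oprod (C.nil T r) nd (fun k => by
        simp only [List.mem_cons, List.not_mem_nil, or_false, Set.mem_ofPred_eq]
        constructor
        · rintro (rfl | rfl | rfl)
          exacts [m1, m2, m3]
        · rintro ⟨s, rfl, e⟩
          rcases C.fib r s e with h1 | h1 | h1 <;> simp [h1]) h1
      simp only [oprod_cons, oprod_nil, mul_one, ← mul_assoc] at h2 ⊢
      rw [map_mul, map_mul, h, h', h'', mul_assoc, (c2 _ _).eq, ← mul_assoc, (c1 _ _).eq] at h2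
      obtain ⟨-, e2, e3⟩ := S.inj₃ (C.nil T r) m1 m2 m3 nd h2
      exact ⟨t r, by rw [h, h', e2, e3]⟩
    · rintro ⟨t, rfl⟩
      refine ⟨?_, ?_⟩
      · rw [h, h']
        exact mul_mem (mul_mem (mem_XS m1 _) (mem_XS m2 _)) (mem_XS m3 _)
      · rw [map_mul, map_mul, hσσ, h, h', mul_assoc, (c2 _ _).eq, ← mul_assoc, (c1 _ _).eq]
  heis_y a b ha hb hab u hu t ht := by
    obtain ⟨e, he⟩ := htr
    obtain ⟨s, hs⟩ := C.exists_comm S.st.toIsSt0 hab hu (t * e / (e + φ e + φ (φ e)))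
    obtain ⟨c, -, h1⟩ := hσ b
    obtain ⟨c', -, h2⟩ := hσ (dl a b)
    obtain ⟨d, -, h5⟩ := hσ (ρ b)
    obtain ⟨d', -, h6⟩ := hσ (ρ (dl a b))
    obtain ⟨c'', h3, h4⟩ := hσ a
    have hab' : A a (ρ b) = 1 := by rw [C.A_fib a _ _ ha (C.f_ρ b), hab]
    have hab'' : A a (ρ (ρ b)) = 1 := by rw [C.A_fib a _ _ ha (C.f_ρ _), hab']
    have n1 := C.f_dl_ne hab
    have hc := fun r s => C.commute S.st.toIsSt0 T (r := r) (s := s) ha hab
    have hb2 : ρ (ρ b) ≠ b := fun e => hb (by rw [← hρ (ρ b), e, e])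
    have hb' : ρ (dl a b) ≠ dl a b := fun e => hb (by
      rw [C.ρ_dl ha hab] at e; rw [← TwSys.dl_dl hab', e, TwSys.dl_dl hab])
    have hb'' : ρ (ρ (dl a b)) ≠ dl a b := fun e => hb' (by rw [← hρ (ρ (dl a b)), e, e])
    have f2 : ∀ r, f (v (ρ (ρ r))) = f (v r) := fun r => (C.f_ρ _).trans (C.f_ρ r)
    have k1 : Commute (x b u) (σ (x b u)) := by
      rw [h1]; exact hc _ _ (.inl rfl) (.inl (C.f_ρ _)) (fun e => n1 (by rw [← e, C.f_ρ])) _ _
    have k2 : Commute (x b u) (σ (x (dl a b) s)) := by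
      rw [h2]; exact hc _ _ (.inl rfl) (.inr (C.f_ρ _)) hb' _ _
    have k3 : Commute (x (dl a b) s) (σ (x b u)) := by
      rw [h1]; exact hc _ _ (.inr rfl) (.inl (C.f_ρ _)) (by rwa [TwSys.dl_dl hab]) _ _
    have k4 : Commute (x (dl a b) s) (σ (x (dl a b) s)) := by
      rw [h2]
      exact hc _ _ (.inr rfl) (.inr (C.f_ρ _))
        (by rw [TwSys.dl_dl hab]; exact fun e => n1 (by rw [← C.f_ρ, e])) _ _
    have k5 : Commute (x b u) (σ (σ (x b u))) := by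
      rw [h1, h5]; exact hc _ _ (.inl rfl) (.inl (f2 _)) (fun e => n1 (by rw [← e, f2])) _ _
    have k6 : Commute (x b u) (σ (σ (x (dl a b) s))) := by
      rw [h2, h6]; exact hc _ _ (.inl rfl) (.inr (f2 _)) hb'' _ _
    have k7 : Commute (x (dl a b) s) (σ (σ (x b u))) := by
      rw [h1, h5]; exact hc _ _ (.inr rfl) (.inl (f2 _)) (by rwa [TwSys.dl_dl hab]) _ _
    have k8 : Commute (x (dl a b) s) (σ (σ (x (dl a b) s))) := by
      rw [h2, h6]
      exact hc _ _ (.inr rfl) (.inr (f2 _))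
        (by rw [TwSys.dl_dl hab]; exact fun e => n1 (by rw [← f2, e])) _ _
    refine ⟨s, ?_⟩
    rw [comm_mul_mul (k5.mul_left (k1.map σ)) (k6.mul_left (k2.map σ)) (k7.mul_left (k3.map σ))
      (k8.mul_left (k4.map σ)), comm_mul_mul k1 k2 k3 k4]
    simp only [← map_inv, ← map_mul]
    rw [h3 ha, ha] at h4
    rw [hs, h4, h4, S.st.add a a.2, S.st.add a a.2]
    congr 1
    have e1 : φ e + φ (φ e) + e = e + φ e + φ (φ e) := by ring
    simp only [map_div₀, map_mul, map_add, hφ, ht, one_mul, e1]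
    field_simp
  tor_y g hg := by
    obtain ⟨l, h1, h2⟩ := hl
    have l0 : l ≠ 0 := left_ne_zero_of_mul (left_ne_zero_of_mul_eq_one h1)
    have l1 : φ l ≠ 0 := right_ne_zero_of_mul (left_ne_zero_of_mul_eq_one h1)
    have l2 : φ (φ l) ≠ 0 := right_ne_zero_of_mul_eq_one h1
    have hg' : ρ (ρ g) ≠ g := fun e => hg (by rw [← hρ (ρ g), e, e])
    have m1 := hh_mem_Hs (x := x) g.2 l0
    have m2 := hh_mem_Hs (x := x) (ρ g).2 l1
    have m3 := hh_mem_Hs (x := x) (ρ (ρ g)).2 l2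
    have hfix : σ (hh D x g l * hh D x (ρ g) (φ l) * hh D x (ρ (ρ g)) (φ (φ l))) =
        hh D x g l * hh D x (ρ g) (φ l) * hh D x (ρ (ρ g)) (φ (φ l)) := by
      rw [map_mul, map_mul, hh' _ _ l0, hh' _ _ l1, hh' _ _ l2, hρ, hφ,
        S.H_comm (S.H_eq ▸ mul_mem m2 m3) (S.H_eq ▸ m1), mul_assoc]
    refine ⟨(hh D x g l * hh D x (ρ g) (φ l) * hh D x (ρ (ρ g)) (φ (φ l)))⁻¹,
      inv_mem (mul_mem (mul_mem m1 m2) m3), by rw [map_inv, hfix],
      fun a ha t => ?_, l ^ 2, h2, fun t => ?_⟩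
    · rw [inv_inv, conj_mul', conj_mul', hh_conj' S.st T _ _ l2, hh_conj' S.st T _ _ l1,
        hh_conj' S.st T _ _ l0, ← mul_assoc, ← mul_assoc, C.A_symm (ρ (ρ g)),
        C.A_fib a _ _ ha (C.f_ρ (ρ g)), C.A_symm (ρ g), C.A_fib a _ _ ha (C.f_ρ g), C.A_symm a,
        ← mul_zpow, ← mul_zpow, h1, one_zpow, one_mul]
    · have e : hh D x g l * hh D x (ρ g) (φ l) * hh D x (ρ (ρ g)) (φ (φ l)) * x g t *
          (hh D x g l * hh D x (ρ g) (φ l) * hh D x (ρ (ρ g)) (φ (φ l)))⁻¹ = x g (l ^ 2 * t) := by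
        rw [conj_mul', conj_mul', hh_conj' S.st T _ _ l2, hh_conj' S.st T _ _ l1,
          hh_conj' S.st T _ _ l0, A_self, C.orth _ _ (C.f_ρ g) hg,
          C.orth _ _ ((C.f_ρ _).trans (C.f_ρ g)) hg', zpow_zero, zpow_zero, one_mul, one_mul, zpow_ofNat]
      rw [inv_inv, ← e, map_mul σ, map_mul σ, map_inv σ, hfix, map_mul σ, map_mul σ, map_inv σ, hfix]
      group

end

theorem tw_index_dvd {T : RootTable D} {S : ChevSys T x} {n : ℕ} (M : TwMap S (Fin n))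
    (Y : TwSys D x) [Fintype Y.F] {G' : Type*} [Group G'] [Finite G'] {j : G' →* G}
    (hj : Function.Injective j) (hr₀ : j.range = M.data.T) (hr : ∀ g, g ∈ j.range ↔ Y.σ g = g)
    (htop : Y.ρ (top D) = top D) (M' : CoxeterMatrix (Fin n))
    (hM : ∀ a b, orderOf (M.data.F.wJ a * M.data.F.wJ b) = M' a b) {q : ℕ} {c : List ℕ}
    (hq : ∀ a, Nat.card ↥(S.R.UJ (M.data.J a) ⊓ M.data.Fix) = q ^ c.getD a 0)
    {a : List (List ℤ)} (hA : IsCartanFor M' (amat n a)) {k : ℕ} {L : List (List ℤ × ℕ)}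
    (hL : checkFull n a c k L = true) (hk : ∀ i, (M.F.o i : ℕ) ≠ k → A (sr i) (top D) = 0) :
    (Subgroup.centralizer ({Y.xx j (Y.cls (top D)) 1} : Set G')).index ∣
      (L.map fun p => q ^ p.2).sum * (Fintype.card Y.F - 1) := by
  have hi := BN.index_parabolic (P := M.data.bn j hj hr₀) (M.data.eJ j hj hr₀)
    (M.data.eJ_bijective j hj hr₀) M' (fun a b => by rw [M.data.orderOf_gen, hM]) q c
    (fun a => by rw [M.data.card_cell_gen, hq]) hA hL
  rw [← hi]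
  have hl := Y.long_cls.mpr htop
  refine index_centralizer_dvd (Y.xx_inj hr S.st.toIsSt0 S.nd hl) _ fun g hg => ?_
  have : g ∈ (topStab D x).comap j := by
    refine (sup_le (fun b hb => Bs_le_topStab S.st T (S.Bor_eq ▸ hb))
      ((Subgroup.closure_le _).mpr ?_) : _ ≤ (topStab D x).comap j) hg
    rintro _ ⟨_, ⟨b, hb, rfl⟩, rfl⟩
    obtain ⟨c, hc, e⟩ := S.conj_x (M.data.nJ b) (T.lt_iff.mp (top D).2)
    rw [M.data.π_nJ, act_top_of_mem T (fun i hi => hk i (by rw [show M.F.o i = b from hi]; exact hb))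
      (M.data.longest b).mem] at e
    exact ⟨Units.mk0 c hc, fun t => by rw [Units.val_mk0, ← e, ← M.data.j_sJ j hr₀]; rfl⟩
  obtain ⟨c, hc⟩ := this
  exact Y.conj_xx hj hr S.nd S.st.toIsSt0 hl hl c.ne_zero (by rw [Y.rep_cls htop]; exact hc)

section

variable (Y : TwSys D x) [Fintype Y.F] {G' : Type*} [Group G'] [Finite G'] {j : G' →* G}
  (hj : Function.Injective j) (hr : ∀ g, g ∈ j.range ↔ Y.σ g = g) (h : IsSt D x) {T : RootTable D}
  (hn : IsND x T) {m e : ℕ} (hK : Nat.card K = Fintype.card Y.F ^ m)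
  (hm : ∀ r, Y.ρ r ≠ r → (Finset.univ.filter fun s => Y.f (v s) = Y.f (v r)).card = m)
  (he : ∀ a, Y.ρ a = a → (Finset.univ.filter fun β => A a β = 1).card = 2 * e)
include hK hm he

omit [Finite G'] in
theorem tw_hN (a : Y.Φ) (ha : (Y.heis hj hr h.toIsSt0 hn).long a) :
    ∏ β ∈ Finset.univ.filter (fun β => (Y.heis hj hr h.toIsSt0 hn).co a
      ((Y.heis hj hr h.toIsSt0 hn).vec β) = 1), Nat.card ((Y.heis hj hr h.toIsSt0 hn).X β) =
      (Fintype.card Y.F ^ e) ^ 2 := by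
  refine (Y.prod_card_X hj hr h.toIsSt0 hn (Nat.card_eq_fintype_card) hK hm _).trans ?_
  rw [← pow_mul, mul_comm e, ← he _ ha]
  congr 2
  refine Finset.filter_congr fun r _ => ?_
  rw [Y.heis_co hj hr h.toIsSt0 hn ha, Y.A_fib _ _ _ ha (Y.f_rep_cls r)]

theorem tw_dichotomy [IsSimpleGroup G'] (htop : Y.ρ (top D) = top D)
    (hdom : ∀ a, Y.ρ a = a → a ≠ top D → ∃ r, Y.ρ r = r ∧ Pos r ∧ A r a = -1)
    {b : Rt D} (hb : Y.ρ b = b) (hb' : A b (top D) = 1) {k : ℕ}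
    (ρ : Representation ℂ G' (Fin k → ℂ)) [ρ.IsIrreducible] (hk : 2 ≤ k) :
    2 * (Fintype.card Y.F ^ 2 - 1) * Fintype.card Y.F ^ e ≤ Fintype.card Y.F * k ∨
      (k ∣ (Subgroup.centralizer ({Y.xx j (Y.cls (top D)) 1} : Set G')).index *
          (Fintype.card Y.F * Fintype.card Y.F ^ e) ∧
        ∀ a, (Y.heis hj hr h.toIsSt0 hn).long a → ∀ c, c ≠ 0 →
          finrank ℂ (Eig ρ (AddChar.FiniteField.primitiveChar_to_Complex Y.F)
            ((Y.heis hj hr h.toIsSt0 hn).x a) c) = Fintype.card Y.F ^ e) := by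
  have hψ := AddChar.FiniteField.primitiveChar_to_Complex_isPrimitive Y.F
  have hl := Y.long_cls.mpr htop
  have hx1 : Y.xx j (Y.cls (top D)) 1 ≠ 1 := fun e => one_ne_zero
    (Y.xx_inj hr h.toIsSt0 hn hl (e.trans ((Y.heis hj hr h.toIsSt0 hn).x_zero hl).symm))
  rcases HeisSys.dichotomy (R := Y.heis hj hr h.toIsSt0 hn) (ρ := ρ) hψ
    (tw_hN Y hj hr h hn hK hm he) hl (Y.long_cls.mpr hb)
    (by rw [Y.heis_co_cls hj hr h.toIsSt0 hn htop, Y.A_symm, hb'])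
    (fun a ha t ht => Y.isConj_xx hj hr hn h hdom hb hb' ha t ht)
    (rho_ne_one ρ hk hx1) with h3 | ⟨h3, h4⟩
  · left; simpa using h3
  · exact Or.inr ⟨dvd_of_char ρ (by omega) (by rw [Nat.cast_mul]; exact h3), h4⟩

theorem tw_sum_le (hB : (Y.heis hj hr h.toIsSt0 hn).Big) {k : ℕ}
    (ρ : Representation ℂ G' (Fin k → ℂ))
    (h4 : ∀ a, (Y.heis hj hr h.toIsSt0 hn).long a → ∀ c, c ≠ 0 →
      finrank ℂ (Eig ρ (AddChar.FiniteField.primitiveChar_to_Complex Y.F)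
        ((Y.heis hj hr h.toIsSt0 hn).x a) c) = Fintype.card Y.F ^ e) :
    (Fintype.card Y.F - 1) * ∑ a ∈ Finset.univ.filter (fun a => Y.ρ a = a ∧ 0 < Y.f (v a)),
      Fintype.card Y.F ^ (Finset.univ.filter fun β => A a β = 1 ∧ Y.f (v a) < 2 * Y.f (v β) ∧
        Y.f (v β) < Y.f (v a)).card ≤ k := by
  classical
  have hψ := AddChar.FiniteField.primitiveChar_to_Complex_isPrimitive Y.F
  have h5 := HeisSys.Big.sum_le (ρ := ρ) hψ (tw_hN Y hj hr h hn hK hm he) hB h4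
  rw [finrank_fin_fun] at h5
  refine le_trans (Nat.mul_le_mul_left _ (le_of_eq ?_)) h5
  refine Finset.sum_bij (fun a _ => Y.cls a) (fun a ha => ?_) (fun a ha b hb e => ?_)
    (fun a ha => ?_) fun a ha => ?_
  · obtain ⟨h1, h2⟩ := (Finset.mem_filter.mp ha).2
    exact Finset.mem_filter.mpr ⟨Finset.mem_univ _, Y.long_cls.mpr h1, by
      rw [Y.heis_ht]; exact h2⟩
  · exact Y.eq_of_fix _ _ (Finset.mem_filter.mp hb).2.1 (Y.cls_eq.mp e)
  · obtain ⟨h1, h2⟩ := (Finset.mem_filter.mp ha).2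
    exact ⟨Y.rep a, Finset.mem_filter.mpr ⟨Finset.mem_univ _, h1, h2⟩, Y.cls_rep a⟩
  · refine Eq.trans ?_ (Y.prod_card_X hj hr h.toIsSt0 hn (Nat.card_eq_fintype_card) hK hm _).symm
    congr 2
    refine Finset.filter_congr fun r _ => ?_
    rw [Y.heis_co_cls hj hr h.toIsSt0 hn (Finset.mem_filter.mp ha).2.1, Y.heis_ht, Y.heis_ht]
    rfl

end

theorem exists_pow_ne_one [Fintype K] {n : ℕ} (h0 : 0 < n) (h : n < Fintype.card K - 1) :
    ∃ t : K, t ≠ 0 ∧ t ^ n ≠ 1 := by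
  obtain ⟨g, hg⟩ := IsCyclic.exists_ofOrder_eq_natCard (α := Kˣ)
  rw [Nat.card_units, Nat.card_eq_fintype_card] at hg
  exact ⟨g, g.ne_zero, fun e => pow_ne_one_of_lt_orderOf h0.ne' (hg ▸ h)
    (Units.ext (by rw [Units.val_pow_eq_pow_val, e]; rfl))⟩

theorem exists_trace_ne_zero [Fintype K] {q d : ℕ} (hq : 2 ≤ q) (hd : 0 < d)
    (hK : Fintype.card K = q ^ d) : ∃ t : K, ∑ i ∈ Finset.range d, t ^ q ^ i ≠ 0 := by
  classical
  by_contra h
  push Not at h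
  obtain ⟨d, rfl⟩ : ∃ e, d = e + 1 := ⟨d - 1, by omega⟩
  let P : Polynomial K := ∑ i ∈ Finset.range (d + 1), Polynomial.X ^ q ^ i
  have hP : P = 0 := by
    refine Polynomial.eq_zero_of_natDegree_lt_card_of_eval_eq_zero P Function.injective_id
      (fun t => by simpa [P, Polynomial.eval_finsetSum] using h t) ?_
    refine lt_of_le_of_lt (Polynomial.natDegree_sum_le_of_forall_le _ _ (n := q ^ d) fun i hi => ?_) ?_
    · rw [Polynomial.natDegree_X_pow]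
      exact Nat.pow_le_pow_right (by omega) (by have := Finset.mem_range.mp hi; omega)
    · rw [hK]; exact Nat.pow_lt_pow_right (by omega) (by omega)
  have := congrArg (fun p => Polynomial.coeff p 1) hP
  simp only [P, Polynomial.finsetSum_coeff, Polynomial.coeff_X_pow, Polynomial.coeff_zero] at this
  rw [Finset.sum_eq_single 0 (fun i _ hi => if_neg (Nat.one_lt_pow hi (by omega)).ne) (by simp)] at this
  simp at this

end Cfsg.Agent.Chev.MD
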