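import Mathlib
import Cfsg.Agent.Chev.MinDegTw2

/-!
Finite checks for the twisting data.
-/

set_option autoImplicit false

namespace Cfsg.Agent.Chev.MD

open Module Cfsg.Lie

/-- A weighted height. -/
def fw (D : ChevalleyDatum) (w : ℕ → ℤ) : (Nd D → ℤ) →+ ℤ where
  toFun z := ∑ i : Nd D, w i * z i
  map_zero' := by simp
  map_add' a b := by simp [mul_add, Finset.sum_add_distrib]

/-- The weighted height of a coded root. -/
def fE (E : Enc) (w : ℕ → ℤ) (r : ℕ) : ℤ := sumN E.l fun i => w i * E.vec r i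

/-- The checks for `TwComb`. -/
def chkTw (E : Enc) (ρ : ℕ → ℕ) (F : ℕ → ℤ) (fx : List ℕ) : Bool :=
  (allL fx fun a => Nat.blt a E.n && Nat.beq (ρ a) a) &&
  allN E.n fun r => isZ (F (ρ r) - F r) && !isZ (F r) && isZ (E.len r - E.len (E.n - 1)) &&
    allN E.n fun s =>
      (!isZ (F s - F r) || (Nat.beq s r || Nat.beq s (ρ r) || Nat.beq s (ρ (ρ r))) &&
        (Nat.beq r s || isZ (E.pair r s))) &&
      isZ (E.pair (ρ r) (ρ s) - E.pair r s) &&
      (isZ (F r + F s) || decide (0 < F r * F s) || !allL fx fun a =>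
        !(decide (0 ≤ E.pair a r) && decide (0 ≤ E.pair a s) && decide (0 < E.pair a r + E.pair a s)))

variable {D : ChevalleyDatum} [hG : Good D] {E : Enc} (h0 : E.agree D = true) (hA : E.chkA = true)
  (hl : hG.len = E.len)

include h0 hA hl in
theorem fw_v (w : ℕ → ℤ) (r : Rt D) : fw D w (v r) = fE E w r := by
  rw [fE, sumN_eq, ← (E.agree_spec D h0).2.1,
    ← Fin.sum_univ_eq_sum_range (fun i => w i * E.vec r i)]
  change ∑ i : Nd D, _ = _
  exact Finset.sum_congr rfl fun i _ => by rw [v_enc h0 hA hl]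

omit hG in
include h0 in
theorem A_enc (r s : Rt D) : A r s = E.pair r s := pairing_enc h0 r s

include h0 hA hl in
theorem twComb_of_check {ρ : ℕ → ℕ} (hρ : ∀ r < D.nroots, ρ r < D.nroots) {w : ℕ → ℤ} {F : ℕ → ℤ}
    (hF : ∀ r < D.nroots, fE E w r = F r) {fx : List ℕ} (h : chkTw E ρ F fx = true) :
    TwComb D (fun r => ⟨ρ r, hρ r r.2⟩) (fw D w) := by
  have e1 := (E.agree_spec D h0).1
  have hf : ∀ r : Rt D, fw D w (v r) = F r := fun r => (fw_v h0 hA hl w r).trans (hF r r.2)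
  simp only [chkTw, Bool.and_eq_true, allN_iff, allL_iff, Bool.or_eq_true, decide_eq_true_eq,
    Nat.beq_eq, Nat.blt_eq, isZ_iff, Bool.not_eq_true', ← Bool.not_eq_true, not_forall, sub_eq_zero,
    not_not, ← e1] at h
  obtain ⟨h1, h2⟩ := h
  refine ⟨fun r => ?_, fun r => ?_, fun r => ?_, fun r s e => ?_, fun r s e hne => ?_,
    fun r s => ?_, fun r s e => ?_⟩ <;> simp only [hf, A_enc h0] at *
  · exact (h2 r r.2).1.1.1
  · exact (h2 r r.2).1.1.2
  · rw [Lg, ln, ln, hl]; exact (h2 r r.2).1.2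
  · simpa [Fin.ext_iff, or_assoc] using (((h2 r r.2).2 s s.2).1.1.resolve_left (not_not.mpr e)).1
  · exact (((h2 r r.2).2 s s.2).1.1.resolve_left (not_not.mpr e.symm)).2.resolve_left
      fun e => hne (Fin.ext e)
  · exact ((h2 r r.2).2 s s.2).1.2
  · rcases ((h2 r r.2).2 s s.2).2 with (h3 | h3) | ⟨a, ha, h3⟩
    · exact absurd h3 e
    · exact Or.inl h3
    · exact Or.inr ⟨⟨a, (h1 a ha).1⟩, Fin.ext (h1 a ha).2, h3.1.1, h3.1.2, h3.2⟩

omit hG in
theorem card_filter_enc (p : ℕ → Bool) (P : Rt D → Prop) [DecidablePred P]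
    (h : ∀ r : Rt D, P r ↔ p r = true) : (Finset.univ.filter P).card = cntN D.nroots p := by
  rw [cntN_eq]
  exact congrArg _ (Finset.filter_congr fun r _ => h r)

omit hG in
theorem sum_filter_enc {q : ℕ} (P : Rt D → Prop) [DecidablePred P] (g : Rt D → ℕ) (L : List (ℕ × ℕ))
    (hL : (L.map Prod.fst).Nodup) (h1 : ∀ r : Rt D, P r → (r : ℕ) ∈ L.map Prod.fst)
    (h2 : ∀ p ∈ L, ∃ r : Rt D, (r : ℕ) = p.1 ∧ P r ∧ g r = p.2) :
    ∑ a ∈ Finset.univ.filter P, q ^ g a = (L.map fun p => q ^ p.2).sum := by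
  rw [← List.sum_toFinset _ (List.Nodup.of_map _ hL)]
  refine Finset.sum_bij (fun a _ => ((a : ℕ), g a)) (fun a ha => ?_)
    (fun _ _ _ _ e => Fin.ext (congrArg Prod.fst e)) (fun p hp => ?_) fun _ _ => rfl
  · obtain ⟨p, hp, e⟩ := List.mem_map.mp (h1 a (Finset.mem_filter.mp ha).2)
    obtain ⟨r, e1, -, e2⟩ := h2 p hp
    obtain rfl : r = a := Fin.ext (e1.trans e)
    rw [e1, e2]
    exact List.mem_toFinset.mpr hp
  · obtain ⟨r, e1, e2, e3⟩ := h2 p (List.mem_toFinset.mp hp)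
    exact ⟨r, by simpa using e2, by rw [e1, e3]⟩

end Cfsg.Agent.Chev.MD
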