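import Mathlib
import Cfsg.Prelude.Def_DegreeGraph
import Cfsg.Agent.Chev.SzChar

/-!
# The character degrees of the Suzuki group
-/

set_option autoImplicit false
set_option maxSynthPendingDepth 3

namespace Cfsg.Agent.Chev

open Cfsg Cfsg.Agent.Char Cfsg.Agent.KSG MulAction
open scoped ComplexConjugate commutatorElement

theorem charDegrees_congr {G H : Type*} [Group G] [Group H] (e : G ≃* H) :
    charDegrees G = charDegrees H := by
  ext d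
  constructor
  · rintro ⟨χ, rfl⟩
    exact ⟨⟨_, χ.2.comp_mulEquiv e.symm⟩, by simp [charDegree]⟩
  · rintro ⟨χ, rfl⟩
    exact ⟨⟨_, χ.2.comp_mulEquiv e⟩, by simp [charDegree]⟩

theorem charDegree_eq_of {G : Type*} [Group G] {χ : G → ℂ} {n : ℕ} (h : χ 1 = n) :
    charDegree χ = n := by
  simp [charDegree, h]

namespace Suz

variable {F : Type*} [Field F] {m : ℕ} [hSz : SzField F m]
include hSz

theorem IsTorus.exists_hom_ne_one {U : Subgroup (Sz F m)} (hU : IsTorus U) :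
    ∃ θ : U →* ℂˣ, θ ≠ 1 := by
  have := Fintype.ofFinite (Sz F m)
  have h : 1 < Nat.card (U →* ℂˣ) := by
    rw [card_hom_of_comm hU.isCT.comm]
    have := one_le_m F
    have h1 : 2 ^ (2 * m + 1) = 2 ^ m * 2 ^ (m + 1) := by ring
    have h2 : 2 ≤ 2 ^ m := Nat.le_self_pow (by omega) 2
    have h3 : 4 ≤ 2 ^ (m + 1) := by omega
    have h4 : 2 * 2 ^ (m + 1) ≤ 2 ^ (2 * m + 1) := by rw [h1]; exact Nat.mul_le_mul_right _ h2
    rcases hU.2 with h | h | h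
    all_goals rw [h]; omega
  have := Finite.one_lt_card_iff_nontrivial.1 h
  exact exists_ne 1

variable (F) in
theorem charDegrees_eq : charDegrees (Sz F m) = {1, (2 ^ (2 * m + 1)) ^ 2, (2 ^ (2 * m + 1)) ^ 2 + 1,
    (2 ^ (2 * m + 1) - 1) * (2 ^ (2 * m + 1) - 2 ^ (m + 1) + 1),
    (2 ^ (2 * m + 1) - 1) * (2 ^ (2 * m + 1) + 2 ^ (m + 1) + 1), (2 ^ (2 * m + 1) - 1) * 2 ^ m} := by
  have := Fintype.ofFinite (Sz F m)
  have e0 : charDegree (fun _ : Sz F m => (1 : ℂ)) = 1 := charDegree_eq_of (by simp)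
  have e1 : charDegree (chSt F) = (2 ^ (2 * m + 1)) ^ 2 :=
    charDegree_eq_of (by simp only [chSt, tf, ty_one]; push_cast; ring)
  have e2 : ∀ θ : T0 F →* ℂˣ, charDegree (chX θ) = (2 ^ (2 * m + 1)) ^ 2 + 1 := fun θ =>
    charDegree_eq_of (by simp only [chX, tf, ty_one]; push_cast; ring)
  have e3 : ∀ θ : T1 F →* ℂˣ, charDegree (chY θ) =
      (2 ^ (2 * m + 1) - 1) * (2 ^ (2 * m + 1) - 2 ^ (m + 1) + 1) := fun θ =>
    charDegree_eq_of (by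
      rw [← card_T2 F, ← card_T0 F, Nat.cast_mul, cast_card_T0, cast_card_T2]; simp [chY, tf])
  have e4 : ∀ θ : T2 F →* ℂˣ, charDegree (chZ θ) =
      (2 ^ (2 * m + 1) - 1) * (2 ^ (2 * m + 1) + 2 ^ (m + 1) + 1) := fun θ =>
    charDegree_eq_of (by
      rw [← card_T1 F, ← card_T0 F, Nat.cast_mul, cast_card_T0, cast_card_T1]; simp [chZ, tf])
  have e5' : chW F 1 = (((2 ^ (2 * m + 1) - 1) * 2 ^ m : ℕ) : ℂ) := by
    rw [← card_T0 F, Nat.cast_mul, cast_card_T0]; simp [chW, tf]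
  have e5 : charDegree (chW F) = (2 ^ (2 * m + 1) - 1) * 2 ^ m := charDegree_eq_of e5'
  have e6 : charDegree (fun g => conj (chW F g)) = (2 ^ (2 * m + 1) - 1) * 2 ^ m :=
    charDegree_eq_of (by rw [e5', Complex.conj_natCast])
  ext d
  simp only [Set.mem_insert_iff, Set.mem_singleton_iff]
  constructor
  · rintro ⟨⟨χ, hχ⟩, rfl⟩
    rcases irr_cases hχ with rfl | rfl | rfl | rfl | ⟨θ, -, rfl⟩ | ⟨θ, -, rfl⟩ | ⟨θ, -, rfl⟩ <;>
      simp [*]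
  · obtain ⟨θ₀, h₀⟩ := (isTorus_T0 F).exists_hom_ne_one
    obtain ⟨θ₁, h₁⟩ := (isTorus_T1 F).exists_hom_ne_one
    obtain ⟨θ₂, h₂⟩ := (isTorus_T2 F).exists_hom_ne_one
    rintro (rfl | rfl | rfl | rfl | rfl | rfl)
    exacts [⟨⟨_, isIrrCharacter_one⟩, e0⟩, ⟨⟨_, isIrr_chSt⟩, e1⟩, ⟨⟨_, isIrr_chX h₀⟩, e2 _⟩,
      ⟨⟨_, isIrr_chY h₁⟩, e3 _⟩, ⟨⟨_, isIrr_chZ h₂⟩, e4 _⟩, ⟨⟨_, isIrr_chW⟩, e5⟩]

end Suz

end Cfsg.Agent.Chev
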