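import Mathlib
import Cfsg.Agent.Chev.SzNorm
import Cfsg.Agent.FGS.SchurTransfer

/-!
# Central extensions of the Suzuki group
-/

set_option autoImplicit false

namespace Cfsg.Agent.Chev

open MulAction
open scoped commutatorElement

theorem noform {F : Type*} [Field F] {Γ : Type*} [Group Γ] (β : F → F → Γ) (w : F → F)
    (h1 : ∀ x x' y, β (x + x') y = β x y * β x' y) (h2 : ∀ y y', β 1 (y + y') = β 1 y * β 1 y')
    (h3 : ∀ x y, x ≠ 0 → β x y = β 1 (w x * y)) {x : F} (hx : x ≠ 0) (hx' : x + 1 ≠ 0)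
    (hw : w (x + 1) ≠ w x + w 1) (a b : F) : β a b = 1 := by
  have h4 : ∀ y, β 1 y = 1 := by
    intro y
    have e := h1 x 1 (y / (w (x + 1) - (w x + w 1)))
    rw [h3 _ _ hx', h3 _ _ hx, h3 1 (y / _) one_ne_zero, ← h2, ← add_mul] at e
    have e2 := h2 ((w x + w 1) * (y / (w (x + 1) - (w x + w 1)))) y
    rw [← e] at e2
    have : (w x + w 1) * (y / (w (x + 1) - (w x + w 1))) + y =
        w (x + 1) * (y / (w (x + 1) - (w x + w 1))) := by
      have := sub_ne_zero.2 hw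
      field_simp; ring
    rw [this] at e2
    simpa using e2
  by_cases ha : a = 0
  · have := h1 0 0 b
    rw [add_zero] at this
    rw [ha]; simpa using this
  · rw [h3 _ _ ha, h4]

section Central

variable {Γ G : Type*} [Group Γ] [Group G] {σ : Γ →* G}

theorem conj_eq_of_map_eq (hc : σ.ker ≤ Subgroup.center Γ) {x x' : Γ} (h : σ x = σ x') (y : Γ) :
    x * y * x⁻¹ = x' * y * x'⁻¹ := by
  have h1 := Subgroup.mem_center_iff.1 (hc (show x'⁻¹ * x ∈ σ.ker by simp [MonoidHom.mem_ker, h])) y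
  calc x * y * x⁻¹ = x' * (x'⁻¹ * x * y) * x⁻¹ := by group
    _ = _ := by rw [← h1]; group

theorem commutator_eq_of_map_eq (hc : σ.ker ≤ Subgroup.center Γ) {x x' y y' : Γ} (h : σ x = σ x')
    (h' : σ y = σ y') : ⁅x, y⁆ = ⁅x', y'⁆ := by
  rw [commutatorElement_def, conj_eq_of_map_eq hc h, mul_assoc, mul_assoc, ← mul_assoc y,
    conj_eq_of_map_eq hc h', commutatorElement_def]
  group

end Central

namespace Suz

open SzField

variable {F : Type*} [Field F] {m : ℕ} [hSz : SzField F m]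
include hSz

variable (F) in
theorem exists_inv_not_additive : ∃ x : F, x ≠ 0 ∧ x + 1 ≠ 0 ∧ (x + 1)⁻¹ ≠ x⁻¹ + 1⁻¹ := by
  obtain ⟨x, h0, h1⟩ := exists_ne_zero_one F
  have h2 : x + 1 ≠ 0 := by grind
  refine ⟨x, h0, h2, fun h => ?_⟩
  have h3 : x ^ 3 = 1 := by field_simp at h; grind
  have : Fact (Nat.Prime 3) := ⟨Nat.prime_three⟩
  have h4 : orderOf (hh (Units.mk0 x h0) : Sz F m) = 3 :=
    orderOf_eq_prime (by rw [hh_pow, hh_eq_one]; ext; simpa using h3)
      (by rw [Ne, hh_eq_one]; intro h; exact h1 (by simpa using congrArg Units.val h))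
  exact not_three_dvd_card F (h4 ▸ orderOf_dvd_natCard _)

variable (F) in
theorem exists_inv_mul_th_not_additive (hm : 2 ≤ m) : ∃ x : F, x ≠ 0 ∧ x + 1 ≠ 0 ∧
    ((x + 1) * th F (x + 1))⁻¹ ≠ (x * th F x)⁻¹ + (1 * th F 1)⁻¹ := by
  classical
  by_contra h
  push Not at h
  open Polynomial in
  let P : F[X] := X * (X + 1) * (1 + X + X ^ 2 ^ (m + 1) + X ^ (1 + 2 ^ (m + 1)) + X ^ (2 + 2 ^ (m + 1)) +
    X ^ (1 + 2 * 2 ^ (m + 1)) + X ^ (2 + 2 * 2 ^ (m + 1)))
  have h1 : ∀ x : F, P.eval x = 0 := by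
    intro x
    simp only [P, Polynomial.eval_mul, Polynomial.eval_add, Polynomial.eval_X, Polynomial.eval_pow,
      Polynomial.eval_one, mul_eq_zero]
    by_cases h0 : x = 0
    · exact Or.inl (Or.inl h0)
    by_cases h1 : x + 1 = 0
    · exact Or.inl (Or.inr h1)
    right
    have h2 := h x h0 h1
    have h3 := th_ne_zero h0
    have h4 := th_ne_zero h1
    rw [map_add, map_one] at h2 h4
    simp only [pow_add _ 1, pow_add _ 2, mul_comm 2, pow_mul, ← th_def]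
    field_simp at h2
    grind
  have h2 : P.natDegree ≤ 4 + 2 * 2 ^ (m + 1) := by
    have : 1 ≤ 2 ^ (m + 1) := Nat.one_le_two_pow
    simp only [P]
    compute_degree!
    omega
  have h3 : 4 + 2 * 2 ^ (m + 1) < 2 ^ (2 * m + 1) := by
    obtain ⟨k, rfl⟩ : ∃ k, m = k + 2 := ⟨m - 2, by omega⟩
    have : 1 ≤ 2 ^ k := Nat.one_le_two_pow
    have e1 : 2 ^ (2 * (k + 2) + 1) = 32 * (2 ^ k * 2 ^ k) := by ring
    have e2 : 2 ^ (k + 2 + 1) = 8 * 2 ^ k := by ring
    rw [e1, e2]; nlinarith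
  have := Fintype.ofFinite F
  have h4 := Polynomial.eq_zero_of_natDegree_lt_card_of_eval_eq_zero P Function.injective_id h1
    (by rw [← Nat.card_eq_fintype_card, card_F F]; omega)
  simp only [P, mul_eq_zero, Polynomial.X_ne_zero, false_or] at h4
  rcases h4 with h4 | h4
  · simpa using congrArg (Polynomial.eval 0) h4
  · simpa using congrArg (Polynomial.eval 0) h4

theorem pow_eq_one_of_mem_commutator (hm : 2 ≤ m) {Γ : Type*} [Group Γ] {σ : Γ →* Sz F m}
    (hs : Function.Surjective σ) (hc : σ.ker ≤ Subgroup.center Γ) {z : Γ} (hz : z ∈ σ.ker)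
    (hz' : z ∈ ⁅(Qp (inf F)).comap σ, (Qp (inf F)).comap σ⁆) : z ^ (2 ^ (2 * m + 1) - 1) = 1 := by
  classical
  choose s hs using hs
  have cen : ∀ {x : Γ}, σ x = 1 → ∀ y, y * x = x * y := fun h =>
    Subgroup.mem_center_iff.1 (hc h)
  have cm_conj : ∀ k g h : Sz F m, ⁅s (k * g * k⁻¹), s (k * h * k⁻¹)⁆ = s k * ⁅s g, s h⁆ * (s k)⁻¹ := by
    intro k g h
    rw [conjugate_commutatorElement]
    exact commutator_eq_of_map_eq hc (by simp [hs]) (by simp [hs])
  have cm_left : ∀ g g' h : Sz F m, ⁅s (g * g'), s h⁆ = s g * ⁅s g', s h⁆ * (s g)⁻¹ * ⁅s g, s h⁆ := by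
    intro g g' h
    rw [commutator_eq_of_map_eq hc (x' := s g * s g') (y' := s h) (by simp [hs]) rfl]
    simp only [commutatorElement_def]; group
  have cm_right : ∀ g h h' : Sz F m, ⁅s g, s (h * h')⁆ = ⁅s g, s h⁆ * (s h * ⁅s g, s h'⁆ * (s h)⁻¹) := by
    intro g h h'
    rw [commutator_eq_of_map_eq hc (x' := s g) (y' := s h * s h') rfl (by simp [hs])]
    simp only [commutatorElement_def]; group
  have cen' : ∀ {x : Γ}, σ x = 1 → ∀ y, y * x * y⁻¹ = x := fun h y => by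
    rw [cen h, mul_inv_cancel_right]
  have lam : ∀ x : F, x ≠ 0 → ∃ l : Fˣ, (l : F) ^ 2 * th F l = x⁻¹ := by
    intro x hx
    obtain ⟨l, hl⟩ := sq_mul_th_surj x⁻¹
    have : l ≠ 0 := by rintro rfl; exact hx (by simpa using hl.symm)
    exact ⟨Units.mk0 l this, hl⟩
  have mu : ∀ x : F, x ≠ 0 → ∃ l : Fˣ, th F l = x⁻¹ ∧ (l : F) ^ 2 * th F l = (x * th F x)⁻¹ := by
    intro x hx
    obtain ⟨l, hl⟩ := th_surjective x⁻¹
    have : l ≠ 0 := by rintro rfl; exact hx (by simpa using hl.symm)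
    refine ⟨Units.mk0 l this, hl, ?_⟩
    rw [Units.val_mk0, ← th_th, hl, map_inv₀, mul_inv, mul_comm]
  obtain ⟨x₁, a1, a2, a3⟩ := exists_inv_not_additive F
  obtain ⟨x₂, b1, b2, b3⟩ := exists_inv_mul_th_not_additive F hm
  have k1 : ∀ a b c : F, σ ⁅s (uu a b), s (uu 0 c)⁆ = 1 := fun a b c => by
    rw [map_commutatorElement, hs, hs, commutator_uu]; simp
  -- step 1
  have step1 : ∀ a b : F, ⁅s (uu 0 a), s (uu 0 b)⁆ = 1 := by
    refine noform _ (fun x => x⁻¹) (fun x x' y => ?_) (fun y y' => ?_) (fun x y hx => ?_) a1 a2 a3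
    · have : uu 0 (x + x') = uu 0 x * uu 0 x' := by simp [uu_mul]
      rw [this, cm_left, cen' (k1 _ _ _), cen (k1 _ _ _)]
    · have : uu 0 (y + y') = uu 0 y * uu 0 y' := by simp [uu_mul]
      rw [this, cm_right, cen' (k1 _ _ _)]
    · obtain ⟨l, hl⟩ := lam x hx
      rw [← cen' (k1 0 x y) (s (hh l)), ← cm_conj, hh_conj_zero, hh_conj_zero, hl, inv_mul_cancel₀ hx]
  have step1' : ∀ a b c : F, ⁅s (uu a b), s (uu 0 c)⁆ = ⁅s (uu a 0), s (uu 0 c)⁆ := by
    intro a b c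
    have : uu a b = uu a 0 * uu 0 b := by simp [uu_mul]
    rw [this, cm_left, step1]; simp
  -- step 2
  have step2 : ∀ a b : F, ⁅s (uu a 0), s (uu 0 b)⁆ = 1 := by
    refine noform _ (fun x => (x * th F x)⁻¹) (fun x x' y => ?_) (fun y y' => ?_) (fun x y hx => ?_)
      b1 b2 b3
    · rw [← step1' _ (0 + 0 + th F x * x'), ← uu_mul, cm_left, cen' (k1 _ _ _), cen (k1 _ _ _)]
    · have : uu 0 (y + y') = uu 0 y * uu 0 y' := by simp [uu_mul]
      rw [this, cm_right, cen' (k1 _ _ _)]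
    · obtain ⟨l, hl, hl'⟩ := mu x hx
      rw [← cen' (k1 x 0 y) (s (hh l)), ← cm_conj, hh_conj_uu, hh_conj_zero, hl', hl,
        inv_mul_cancel₀ hx, mul_zero]
  have hZ : ∀ x y : Γ, σ x ∈ Qp (inf F) → σ y ∈ Zp (inf F) → x * y = y * x := by
    intro x y hx hy
    obtain ⟨a, b, e⟩ := mem_Qp_inf.1 hx
    obtain ⟨c, e'⟩ := mem_Zp_inf.1 hy
    rw [← commutatorElement_eq_one_iff_mul_comm, commutator_eq_of_map_eq hc (e.trans (hs _).symm)
      (e'.trans (hs _).symm), step1', step2]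
  have hZ' : ∀ (g : Sz F m) (y : Γ), g ∈ Qp (inf F) → σ y ∈ Zp (inf F) → s g * y * (s g)⁻¹ = y :=
    fun g y hg hy => by rw [hZ _ _ (by rwa [hs]) hy, mul_inv_cancel_right]
  have k2 : ∀ a b c d : F, σ ⁅s (uu a b), s (uu c d)⁆ ∈ Zp (inf F) := fun a b c d => by
    rw [map_commutatorElement, hs, hs, commutator_uu]; exact uu_mem_Zp.2 rfl
  have step3 : ∀ a b c d : F, ⁅s (uu a b), s (uu c d)⁆ = ⁅s (uu a 0), s (uu c 0)⁆ := by
    intro a b c d
    have e1 : uu a b = uu a 0 * uu 0 b := by simp [uu_mul]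
    have e2 : uu c d = uu c 0 * uu 0 d := by simp [uu_mul]
    rw [e1, cm_left, ← commutatorElement_inv (s (uu c d)), step1', step2, e2, cm_right, step2]
    simp
  -- the norm map
  let Z : Subgroup Γ := (Zp (inf F)).comap σ
  let _ : CommGroup Z := { (inferInstance : Group Z) with
    mul_comm := fun a b => Subtype.ext (hZ _ _ (Zp_le_Qp _ a.2) b.2) }
  let cj : Fˣ → Z →* Z := fun l =>
    { toFun := fun z => ⟨s (hh l) * z * (s (hh l))⁻¹, by
        have := (conj_mem_Zp_iff' (hh l) _ _).2 z.2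
        rw [hh_smul_inf] at this
        simpa [Z, hs] using this⟩
      map_one' := by ext; simp
      map_mul' := fun a b => by ext; simp [mul_assoc] }
  have hcj : ∀ l z, (cj l z : Γ) = s (hh l) * z * (s (hh l))⁻¹ := fun _ _ => rfl
  have := Fintype.ofFinite Fˣ
  let π : Z →* Z := ∏ l, cj l
  have hπ : ∀ z, π z = ∏ l, cj l z := fun z => MonoidHom.finsetProd_apply _ _ _
  have π1 : ∀ l z, π (cj l z) = π z := by
    intro l z
    rw [hπ, hπ, ← Equiv.prod_comp (Equiv.mulRight l) (fun k => cj k z)]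
    refine Finset.prod_congr rfl fun k _ => Subtype.ext ?_
    rw [hcj, hcj, hcj, conj_eq_of_map_eq hc (x := s (hh (Equiv.mulRight l k)))
      (x' := s (hh k) * s (hh l)) (by simp [hs, hh_mul])]
    group
  let c : F → F → Z := fun a b => ⟨⁅s (uu a 0), s (uu b 0)⁆, k2 _ _ _ _⟩
  have step4 : ∀ a b : F, π (c a b) = 1 := by
    refine noform _ (fun x => x⁻¹) (fun x x' y => ?_) (fun y y' => ?_) (fun x y hx => ?_) a1 a2 a3
    · rw [← map_mul, mul_comm]; congr 1; apply Subtype.ext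
      change ⁅_, _⁆ = ⁅_, _⁆ * ⁅_, _⁆
      rw [← step3 _ (0 + 0 + th F x * x') _ 0, ← uu_mul, cm_left, hZ' _ _ (uu_mem_Qp _ _) (k2 _ _ _ _)]
    · rw [← map_mul]; congr 1; apply Subtype.ext
      change ⁅_, _⁆ = ⁅_, _⁆ * ⁅_, _⁆
      rw [← step3 _ 0 _ (0 + 0 + th F y * y'), ← uu_mul, cm_right,
        hZ' _ _ (uu_mem_Qp _ _) (k2 _ _ _ _)]
    · obtain ⟨l, hl, -⟩ := mu x hx
      rw [← π1 l]; congr 1; apply Subtype.ext
      rw [hcj]
      change _ * ⁅_, _⁆ * _ = ⁅_, _⁆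
      rw [← cm_conj, hh_conj_uu, hh_conj_uu, hl, inv_mul_cancel₀ hx, mul_zero]
  have step5 : ⁅(Qp (inf F)).comap σ, (Qp (inf F)).comap σ⁆ ≤ π.ker.map Z.subtype := by
    rw [Subgroup.commutator_le]
    intro x hx y hy
    obtain ⟨a, b, e⟩ := mem_Qp_inf.1 hx
    obtain ⟨a', b', e'⟩ := mem_Qp_inf.1 hy
    refine ⟨c a a', step4 _ _, ?_⟩
    rw [commutator_eq_of_map_eq hc (e.trans (hs _).symm) (e'.trans (hs _).symm), step3]
    rfl
  obtain ⟨w, hw, rfl⟩ := step5 hz'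
  have h1 : ∀ l, cj l w = w := fun l => Subtype.ext (cen' hz _)
  have h2 : π w = 1 := hw
  rw [hπ] at h2
  simp only [h1, Finset.prod_const, Finset.card_univ] at h2
  rw [← Nat.card_eq_fintype_card, card_units F] at h2
  exact congrArg Subtype.val h2

theorem ker_eq_bot_of_stem (hm : 2 ≤ m) {Γ : Type*} [Group Γ] [Finite Γ] {σ : Γ →* Sz F m}
    (hσ : IsStemExtension σ) : σ.ker = ⊥ := by
  rw [eq_bot_iff]
  intro z hz
  rw [Subgroup.mem_bot, ← orderOf_eq_one_iff]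
  by_contra h
  obtain ⟨p, hp, hpz⟩ := Nat.exists_prime_and_dvd h
  have := Fact.mk hp
  by_cases h2 : p = 2
  · subst h2
    have h3 := pow_eq_one_of_mem_commutator hm hσ.1 hσ.2.1 (σ.ker.pow_mem hz _)
      (FGS.pow_index_mem_commutator_of_mem_center _ (hσ.2.1 hz) (hσ.2.2 hz))
    rw [← pow_mul, ← orderOf_dvd_iff_pow_eq_one, Subgroup.index_comap_of_surjective _ hσ.1] at h3
    exact ((odd_index_Qp _).mul (odd_q_sub_one m)).not_two_dvd_nat (hpz.trans h3)
  · obtain ⟨P⟩ : Nonempty (Sylow p (Sz F m)) := inferInstance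
    have h3 := FGS.pow_index_mem_commutator_of_mem_center ((P : Subgroup (Sz F m)).comap σ)
      (hσ.2.1 hz) (hσ.2.2 hz)
    have := isCyclic_of_odd_prime h2 P.isPGroup'
    have h4 := ((σ.subgroupComap P).isMulCommutative_of_isCyclic_of_ker_le_center
      (FGS.subgroupComap_ker_le_center hσ.2.1 _)).is_comm.comm
    have h5 : ⁅(P : Subgroup (Sz F m)).comap σ, (P : Subgroup (Sz F m)).comap σ⁆ = ⊥ := by
      rw [eq_bot_iff, Subgroup.commutator_le]
      intro x hx y hy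
      rw [Subgroup.mem_bot, commutatorElement_eq_one_iff_mul_comm]
      exact congrArg Subtype.val (h4 ⟨x, hx⟩ ⟨y, hy⟩)
    rw [h5, Subgroup.mem_bot, ← orderOf_dvd_iff_pow_eq_one,
      Subgroup.index_comap_of_surjective _ hσ.1] at h3
    exact P.not_dvd_index (hpz.trans h3)

end Suz

end Cfsg.Agent.Chev
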