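import Cfsg.Agent.Chev.TitsCov
import Cfsg.Agent.Chev.Tits1
import Cfsg.Agent.Small.Tools

/-!
Every nontrivial element of the Tits group is a product of two conjugates of an element of order `5`.
-/

set_option autoImplicit false

namespace Cfsg.Agent.Chev.TitsCov

open Cfsg.Agent.Comp

variable {A : Type*} [Group A]

theorem conj5 [Finite A] (e : A ≃* gen ns [[8], [10]]) {x y : A} (hx : orderOf x = 5) (hy : orderOf y = 5) :
    ∃ g : A, y = g * x * g⁻¹ := by
  have hc : Nat.card A = 5 ^ 2 * 718848 := (Nat.card_congr e.toEquiv).trans hn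
  have hp : ∀ z : A, orderOf z = 5 → IsPGroup 5 (Subgroup.zpowers z) := fun z hz =>
    IsPGroup.of_card (n := 1) (by rw [Nat.card_zpowers, hz, pow_one])
  obtain ⟨P, hP⟩ := (hp x hx).exists_le_sylow
  obtain ⟨Q, hQ⟩ := (hp y hy).exists_le_sylow
  obtain ⟨k, rfl⟩ := MulAction.exists_smul_eq A P Q
  obtain ⟨e', he⟩ := exists_sub_eq_sylow e P (grp5 e)
    ((Small.card_sylow_subgroup hc (by norm_num) P).le.trans (card5 e))
  have key : ∀ z ∈ (P : Subgroup A), orderOf z = 5 → ∃ g : A, z = g * ev e' ns [72] * g⁻¹ := by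
    intro z hz h5
    obtain ⟨g, t, ht, h⟩ := cls5 e' (he.symm ▸ hz)
    simp only [List.mem_cons, List.not_mem_nil, or_false] at ht
    rcases ht with rfl | rfl
    · rw [h] at h5
      simp at h5
    · exact ⟨g, h⟩
  obtain ⟨g, hg⟩ := key x (hP (Subgroup.mem_zpowers x)) hx
  have hy' : k⁻¹ * y * k ∈ (P : Subgroup A) := by
    have := hQ (Subgroup.mem_zpowers y)
    rw [Sylow.coe_subgroup_smul, Subgroup.mem_pointwise_smul_iff_inv_smul_mem] at this
    simpa using this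
  obtain ⟨g', hg'⟩ := key _ hy' (by
    rw [← hy, ← (MulAut.conj k⁻¹).orderOf_eq y]
    simp)
  refine ⟨k * g' * g⁻¹, ?_⟩
  rw [hg]
  have : y = k * (k⁻¹ * y * k) * k⁻¹ := by group
  rw [this, hg']
  group

theorem cover [Finite A] (e : A ≃* gen ns [[8], [10]]) :
    ∃ x : A, Odd (orderOf x) ∧ ∀ g : A, g ≠ 1 → ∃ u v : A, g = (u * x * u⁻¹) * (v * x * v⁻¹) := by
  have ho : ∀ z : A, orderOf (pm e z) = orderOf z := fun z => orderOf_injective _ (pm_inj e) z
  have hx : orderOf (ev e ns [72]) = 5 := mo.orderOf e 5 331 (by decide +kernel)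
  refine ⟨ev e ns [72], by rw [hx]; decide, fun g hg => ?_⟩
  rcases o_a0 (pm e g) (A_ex.2.1.symm ▸ pm_mem e g) with h | ⟨y, hy, h1, h2⟩
  · exact absurd (pm_inj e (h.trans (map_one _).symm)) hg
  · rw [A_ex.2.1] at hy
    rw [← pm_liftE e hy] at h1 h2
    rw [← map_mul, ho] at h2
    rw [ho] at h1
    obtain ⟨u, hu⟩ := conj5 e hx ((orderOf_inv _).trans h1)
    obtain ⟨v, hv⟩ := conj5 e hx h2
    exact ⟨u, v, by rw [← hu, ← hv]; group⟩

theorem cover_tits {M : Type*} [Group M] [Finite M] (hM : Cfsg.Lie.IsoTits M) :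
    ∃ x : M, Odd (orderOf x) ∧ ∀ g : M, g ≠ 1 → ∃ u v : M, g = (u * x * u⁻¹) * (v * x * v⁻¹) := by
  obtain ⟨e⟩ := hM
  exact cover (e.trans (Tits.equivT.trans (MulEquiv.subgroupCongr geq)))

end Cfsg.Agent.Chev.TitsCov
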