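import Cfsg.Agent.Chev.TwMultD
import Cfsg.Agent.Chev.TwAutE6
import Cfsg.Agent.Lang.SC

/-!
The Schur multiplier of the twisted groups of type `E₆`.
-/

set_option autoImplicit false

namespace Cfsg.Agent.Chev

open Cfsg.Lie Cfsg.Agent.Mult

theorem exists_stem_of_plift {Γ G T' : Type*} [Group Γ] [Group G] [Group T'] [Finite Γ] {p : ℕ}
    (θ : Γ →* G) (hc : θ.ker ≤ Subgroup.center Γ) (hA : (Nat.card θ.ker).Coprime p) (j : T' →* G)
    (hj : Function.Injective j) (hgen : j.range ≤ (plift θ p j.range).map θ) :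
    ∃ σ : plift θ p j.range →* T', IsStemExtension σ ∧
      Nat.card σ.ker = Nat.card ↥(θ.ker ⊓ plift θ p j.range) := by
  have h1 : ∀ g : plift θ p j.range, θ g ∈ j.range := fun g =>
    ((map_plift_le (j.range : Set G)).trans (Subgroup.closure_eq _).le) (Subgroup.mem_map_of_mem θ g.2)
  let σ : plift θ p j.range →* T' := (MonoidHom.ofInjective hj).symm.toMonoidHom.comp
    ((θ.comp (plift θ p j.range).subtype).codRestrict j.range h1)
  have h2 : ∀ g, j (σ g) = θ g := fun g => MonoidHom.apply_ofInjective_symm hj ⟨_, h1 g⟩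
  have h3 : σ.ker = θ.ker.subgroupOf _ := Subgroup.ext fun g => by
    rw [Subgroup.mem_subgroupOf, MonoidHom.mem_ker, MonoidHom.mem_ker, ← h2, map_eq_one_iff j hj]
  refine ⟨σ, ⟨fun t => ?_, fun g hg => ?_, fun g hg => ?_⟩, ?_⟩
  · obtain ⟨g, hg, e⟩ := hgen ⟨t, rfl⟩
    exact ⟨⟨g, hg⟩, hj ((h2 _).trans e)⟩
  · exact Subgroup.mem_center_iff.2 fun k => Subtype.ext (Subgroup.mem_center_iff.1 (hc (h3.le hg)) k)
  · have h4 := mem_commutator_of_coprime (fun _ h => h.1) g.2 (n := Nat.card θ.ker)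
      (congrArg Subtype.val (pow_card_eq_one' (x := (⟨g, h3.le hg⟩ : θ.ker)))) hA
    rw [← Subgroup.map_subtype_commutator] at h4
    obtain ⟨k, hk, e⟩ := h4
    exact Subtype.ext e ▸ hk
  · rw [h3, ← Subgroup.inf_subgroupOf_right]
    exact Nat.card_congr (Subgroup.subgroupOfEquivOfLe inf_le_right).toEquiv

namespace E6

/-- The levels of the positive roots. -/
def kap (r : ℕ) : ℕ := [4, 5, 9, 1, 6, 10, 5, 6, 11, 15, 2, 3, 8, 12, 8, 13, 17, 14, 18, 23, 4, 9, 10,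
  15, 19, 12, 17, 21, 18, 22, 27, 23, 27, 32, 33, 35].getD (r - 36) 0

/-- The coroot `k` is orthogonal to the orbit of `s` but not to that of `r`. -/
def Ok (k r s : ℕ) : Prop := chevE6.pairing k s = 0 ∧ chevE6.pairing k (rhoE6 s) = 0 ∧
  (chevE6.pairing k r, chevE6.pairing k (rhoE6 r)) ∈ [(1, 0), (0, 1), (1, 1)]

instance instDecidableOk (k r s : ℕ) : Decidable (Ok k r s) := inferInstanceAs (Decidable (_ ∧ _))

set_option synthInstance.maxSize 2048 in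
theorem ok_all : ∀ r < 72, 36 ≤ r → ∀ s < 72, 36 ≤ s → (kap r = kap s → s = r ∨ s = rhoE6 r) ∧
    (kap r < kap s → ∃ k ∈ [71, 70, 69, 53, 55, 51, 40, 12], Ok k r s ∨ Ok k s r) := by
  decide +kernel

/-- Data for the construction of the lifts of the root subgroups. -/
def dat (r : ℕ) : ℕ × ℕ := [(4, 0), (10, 0), (7, 0), (2, 70), (10, 0), (9, 0), (7, 0), (9, 0), (6, 70),
  (10, 0), (1, 71), (2, 71), (13, 0), (12, 0), (12, 0), (6, 71), (13, 0), (8, 71), (14, 0), (15, 0),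
  (16, 0), (17, 0), (19, 0), (21, 0), (18, 70), (26, 0), (28, 0), (18, 71), (29, 0), (20, 71), (38, 0),
  (35, 0), (36, 0), (24, 71), (25, 71), (46, 70)].getD (r - 36) (0, 0)

set_option synthInstance.maxSize 2048 in
theorem dat_spec : ∀ r < 72, 36 ≤ r → chevE6.pairing (dat r).1 r = 1 ∧
    ((rhoE6 r = r ∧ epsE6 r = 1 ∧ (dat r).1 < 72 ∧ (dat r).2 < 72 ∧
      (rhoE6 (dat r).1 = (dat r).1 ∧ epsE6 (dat r).1 = 1) ∧
      (rhoE6 (dat r).2 = (dat r).2 ∧ epsE6 (dat r).2 = 1) ∧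
      ((dat r).2 ≠ (dat r).1 ∧ (dat r).2 ≠ chevE6.neg (dat r).1) ∧
      (∃ C ∈ [1, -1], chevE6.commTerms (dat r).1 (dat r).2 = [(r, C, 1, 1)] ∧ C * C = 1) ∧
      commMod chevE6 0 (dat r).1 r = true ∧ commMod chevE6 0 (dat r).2 r = true) ∨
    (chevE6.pairing (dat r).1 (rhoE6 r) = 0 ∧ [r, rhoE6 r].Nodup ∧
      commMod chevE6 0 r (rhoE6 r) = true)) := by decide +kernel

theorem pos_iff : ∀ r < 72, chevE6.IsPosRoot r ↔ 36 ≤ r := by decide +kernel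

theorem rho_rho : ∀ r < 72, rhoE6 (rhoE6 r) = r ∧ epsE6 (rhoE6 r) * epsE6 r = 1 := by decide +kernel

section

variable {K : Type*} [Field K] {G : Type*} [Group G] {T : RootTable chevE6} {x : ℕ → K → G}
  (S : ChevSys T x) (φ : K →+* K) (hφ : ∀ t, φ (φ t) = t)

set_option synthInstance.maxSize 2048 in
theorem isRay : (tw S φ hφ).IsRay kap 36 fun a b => Finset.Ioo (max a b) 36 :=
  (tw S φ hφ).isRay_tail [(56, 81), (46, 105), (42, 150), (39, 204), (37, 150), (36, 81)]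
    (d := 3) (by decide) (by change ∀ r < _, _ → _ ∧ _ ∧ _ ∧ kap (rhoE6 r) = _ ∧ _; decide +kernel)

theorem σ_σ (g : G) : (tw S φ hφ).σ ((tw S φ hφ).σ g) = g :=
  (tw S φ hφ).σ_two rho_rho (fun _ _ => hφ) g

include S hφ in
theorem mem_ray {r : ℕ} (hr : chevE6.IsPosRoot r) (k : ℕ) :
    k ∈ [r, rhoE6 r] ↔ k ∈ {k | chevE6.IsPosRoot k ∧ kap k = kap r} := by
  refine ⟨fun h => ?_, fun h => ?_⟩
  · rcases List.mem_pair.1 h with rfl | rfl
    exacts [⟨hr, rfl⟩, ⟨(tw S φ hφ).pos r hr.1 hr, (isRay S φ hφ).rho r hr⟩]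
  · exact List.mem_pair.2 ((ok_all r hr.1 ((pos_iff r hr.1).1 hr) k h.1.1
      ((pos_iff k h.1.1).1 h.1)).1 h.2.symm)

theorem sep {z : Kˣ} (hz : (z : K) * φ z ≠ 1) {Z' : Set ℕ} {k r : ℕ} (hr : chevE6.IsPosRoot r)
    (h1 : ∀ s ∈ Z', s < 72 ∧ chevE6.pairing k s = 0 ∧ chevE6.pairing k (rhoE6 s) = 0)
    (h2 : (chevE6.pairing k r, chevE6.pairing k (rhoE6 r)) ∈ [(1, 0), (0, 1), (1, 1)]) :
    SepG (tw S φ hφ).H1 ((tw S φ hφ).ray kap (kap r)) ((tw S φ hφ).fx Z') := by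
  have h3 : (z : K) ≠ 1 := fun e => hz (by simp [e])
  have h4 : φ z ≠ 1 := fun e => h3 (by rw [← hφ z, e, map_one])
  have h5 : z ≠ 1 := fun e => h3 (by simp [e])
  refine (tw S φ hφ).sepG_two (σ_σ S φ hφ) ((isRay S φ hφ).nil_ray _) k z
    (fun s hs => ⟨(h1 s hs).1, (rho_rho s (h1 s hs).1).1, (h1 s hs).2⟩) fun s hs =>
      ⟨(rho_rho s hs.1.1).1, ?_⟩
  change (z : K) ^ _ * φ z ^ chevE6.pairing k (rhoE6 s) ≠ 1
  simp only [List.mem_cons, Prod.mk.injEq, List.not_mem_nil, or_false] at h2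
  rcases List.mem_pair.1 ((mem_ray S φ hφ hr s).2 hs) with rfl | rfl
  · rcases h2 with h | h | h <;> simpa [h.1, h.2]
  · rw [(rho_rho r hr.1).1]
    rcases h2 with h | h | h <;> simpa [h.1, h.2]

end

universe u

variable {K : Type u} [Field K] [Fintype K] {T : RootTable chevE6} (S : ChevSys T (xC chevE6 K))
  (φ : K →+* K) (hφ : ∀ t, φ (φ t) = t) {q : ℕ} (hq : ∀ t, φ t = t ^ q)
  (hK : Fintype.card K = q ^ 2) {T' : Type*} [Group T'] (j : T' →* chevE6.group K)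
  (hj : Function.Injective j) (hr : j.range = (tw S φ hφ).data.T) (p : ℕ) [hp : Fact p.Prime]
  [hc : CharP K p]
include hq hK hj hr hp hc

theorem not_dvd_mcard (h3 : 3 ≤ q) : ¬ p ∣ mcard T' := by
  obtain ⟨z, hz⟩ := exists_norm_ne_one (K := K) (n := q + 1) (by omega) (by rw [hK]; nlinarith)
  rw [pow_succ', ← hq] at hz
  refine (isRay S φ hφ).not_dvd_mcard p (T_eq_Fix S φ hφ) j hj hr fun Γ _ _ τ h1 h2 _ => ?_
  obtain ⟨Y, hY, -⟩ := TwMap.IsRay.exists_family (M := tw S φ hφ) (κ := kap) (τ := τ)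
    (P := fun _ _ => True) fun r hr => by
    simp only [and_true]
    have hZ := (isRay S φ hφ).nil_ray (kap r)
    obtain ⟨a1, ⟨a2, a3, a4, a5, a6, a7, a8, ⟨C, -, a9, a10⟩, a11, a12⟩ | ⟨a2, a3, a4⟩⟩ :=
      dat_spec r hr.1 ((pos_iff r hr.1).1 hr)
    · have hm := (tw S φ hφ).mem_fx_one hZ (r := r) (fun k => by
        rw [← mem_ray S φ hφ hr, a2]; simp) a2 a3
      refine exists_lifts_of_commute h2 (h1 ▸ TwMap.H1_le _) (h1 ▸ TwMap.fx_le _ _)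
        (fun a b ha hb => ?_) (TwMap.conj_mem_fx _ hZ.lt) (TwMap.H1_comm _)
        (sep S φ hφ hz (Z' := ∅) (k := (dat r).1) hr (by simp) (by simp [a1, a2]))
      obtain ⟨t, ht, e⟩ := (hm _).1 ha
      obtain ⟨u, -, e'⟩ := (hm _).1 hb
      exact TwMap.commute_of_milnor h1 h2 a4 a5 a6 a7 a8 a9 a10 ht e
        (fun _ => e' ▸ comm S _ _ ⟨a4, hr.1, a11⟩ _ _) fun _ => e' ▸ comm S _ _ ⟨a5, hr.1, a12⟩ _ _
    · exact ((tw S φ hφ).par_two (σ_σ S φ hφ) hZ a3 (mem_ray S φ hφ hr) (rho_rho r hr.1).1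
        (comm S _ _ ⟨hr.1, (tw S φ hφ).ρ_lt hr.1, a4⟩)).exists_lifts h1 h2 (by rw [hK]; nlinarith)
        ((tw S φ hφ).scal_two (σ_σ S φ hφ) hr.1 (rho_rho r hr.1).1 _ ⟨a1, a2⟩) hZ
  have key : ∀ k r s, chevE6.IsPosRoot r → chevE6.IsPosRoot s → Ok k r s → SepG (tw S φ hφ).H1
      ((tw S φ hφ).ray kap (kap r)) ((tw S φ hφ).ray kap (kap s)) := fun k r s hr hs h =>
    sep S φ hφ hz hr (fun s' hs' => ⟨hs'.1.1, by
      rcases List.mem_pair.1 ((mem_ray S φ hφ hs s').2 hs') with rfl | rfl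
      exacts [⟨h.1, h.2.1⟩, ⟨h.2.1, (rho_rho s hs.1).1.symm ▸ h.1⟩]⟩) h.2.2
  refine ⟨Y, hY, fun r s hr hs h => ?_⟩
  obtain ⟨k, -, h4 | h4⟩ := (ok_all r hr.1 ((pos_iff r hr.1).1 hr) s hs.1 ((pos_iff s hs.1).1 hs)).2 h
  exacts [.inl (key k r s hr hs h4), .inr (.inl (key k s r hs hr h4))]

theorem pb (h1 : 1 ≤ q) : PB p (Nat.gcd 3 (q + 1)) T' := by
  have := S.finite
  have := Finite.of_injective j hj
  set M := tw S φ hφ
  let K₀ := φ.eqLocusField (RingHom.id K)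
  have hK₀ : Nat.card K₀ = q := (Nat.card_congr (Equiv.subtypeEquivRight fun t => by
    rw [← hq]; rfl)).trans (card_fixed h1 hK)
  have st := fun r hr => stRel_of_isSt0 (by simp) S.st.toIsSt0 (r := r) hr
  refine M.data.pb j hj hr (S.isPGroup_U p) ![q - 1, q - 1, q ^ 2 - 1, q ^ 2 - 1]
    (fun Γ _ _ τ k1 k2 k3 a => ?_) ?_
  · have one : ∀ (a : Fin 4) (i : Fin 6) (r s : ℕ), chevE6.simple i = r ∧ chevE6.neg r = s → r < 72 →
        s < 72 → (∀ u, (u ∈ S.R.UJ (M.data.J a) ∧ M.σ u = u) ↔ ∃ t, φ t = t ∧ u = xC chevE6 K r t) →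
        (∀ u, (u ∈ S.R.VJ (M.data.J a) ∧ M.σ u = u) ↔ ∃ t, φ t = t ∧ u = xC chevE6 K s t) →
        Nat.card ↥(M.data.Lh τ p a ⊓ S.R.H.comap τ) ≤ q - 1 := fun a i r s h hr hs h2 h3 =>
      hK₀ ▸ M.data.card_Lh_inf_le k1 k2 k3 (S.isPGroup_U p) (stRel_comp (h.2 ▸ st r hr) K₀.subtype)
        (fun t e => Subtype.ext (S.nd.eq_zero_of_x_eq_one (T.lt_iff.1 hs) e))
        (fun g => (h2 g).trans ⟨fun ⟨t, h, e⟩ => ⟨⟨t, h⟩, e⟩, fun ⟨t, e⟩ => ⟨t, t.2, e⟩⟩)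
        (fun g => (h3 g).trans ⟨fun ⟨t, h, e⟩ => ⟨⟨t, h⟩, e⟩, fun ⟨t, e⟩ => ⟨t, t.2, e⟩⟩)
        fun t ht => by rw [sn_comp]; exact S.sn_mem _ _ _ h (by simpa using ht)
    have two : ∀ (a : Fin 4) (i k : Fin 6) (r s r' s' : ℕ), chevE6.simple i = r ∧ chevE6.neg r = s →
        chevE6.simple k = r' ∧ chevE6.neg r' = s' → (∀ a ∈ [r, s], ∀ b ∈ [r', s'],
          a < chevE6.nroots ∧ b < chevE6.nroots ∧ commMod chevE6 0 a b = true) →
        chevE6.IsNegRoot s ∧ chevE6.IsNegRoot s' ∧ [s, s'].Nodup →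
        (∀ u, (u ∈ S.R.UJ (M.data.J a) ∧ M.σ u = u) ↔
          ∃ t, u = xC chevE6 K r t * xC chevE6 K r' (φ t)) →
        (∀ u, (u ∈ S.R.VJ (M.data.J a) ∧ M.σ u = u) ↔
          ∃ t, u = xC chevE6 K s t * xC chevE6 K s' (φ t)) →
        Nat.card ↥(M.data.Lh τ p a ⊓ S.R.H.comap τ) ≤ q ^ 2 - 1 :=
      fun a i k r s r' s' h h' hc hs h2 h3 => by
      rw [← hK, ← Nat.card_eq_fintype_card]
      exact M.data.card_Lh_inf_le k1 k2 k3 (S.isPGroup_U p) (stRel_mul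
        (h.2 ▸ st r (hc r (by simp) r' (by simp)).1)
        (stRel_comp (h'.2 ▸ st r' (hc r (by simp) r' (by simp)).2.1) φ) (S.comm4 r s r' s' hc id φ))
        (fun t e => (S.inj₂ T.nil_neg hs.1 hs.2.1 hs.2.2 (b := φ t) (a' := 0) (b' := 0) (e.trans (by
          rw [S.st.x_zero hs.1.1, S.st.x_zero hs.2.1.1, one_mul]))).1) h2 h3
        (pair S φ i k r s r' s' h h' hc).2.1
    fin_cases a
    · exact one 0 _ _ _ nd1 (by decide) (by decide) (M.UJ_eq 0 ▸ fix_pos S φ hφ 0)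
        (M.VJ_eq 0 ▸ fix_neg S φ hφ 0)
    · exact one 1 _ _ _ nd3 (by decide) (by decide) (M.UJ_eq 1 ▸ fix_pos S φ hφ 1)
        (M.VJ_eq 1 ▸ fix_neg S φ hφ 1)
    · exact two 2 _ _ _ _ _ _ nd2 nd4 (by decide +kernel) (by decide +kernel)
        (M.UJ_eq 2 ▸ fix_pos S φ hφ 2) (M.VJ_eq 2 ▸ fix_neg S φ hφ 2)
    · exact two 3 _ _ _ _ _ _ nd0 nd5 (by decide +kernel) (by decide +kernel)
        (M.UJ_eq 3 ▸ fix_pos S φ hφ 3) (M.VJ_eq 3 ▸ fix_neg S φ hφ 3)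
  · rw [card_H S φ hφ hq hK h1, Fin.prod_univ_four]
    have := Nat.sq_sub_sq q 1
    simp only [one_pow] at this
    simp only [Matrix.cons_val, this]
    exact le_of_eq (by ring)

theorem exists_stem : ∃ (Γ : Type u) (_ : Group Γ) (_ : Finite Γ) (σ : Γ →* T'), IsStemExtension σ ∧
    Nat.gcd 3 (q + 1) ≤ Nat.card σ.ker := by
  have hD : chevE6 ∈ [chevG2, chevB2, chevD4, chevF4, chevE6, chevE7, chevE8] := by simp
  have := finite_steinbergGroup (F := K) hD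
  have hS := (isSt0_stGen (D := chevE6) (F := K)).isSt hD
  obtain ⟨θ, hθ⟩ := (isSt_xC (D := chevE6) (F := K)).toIsSt0.exists_lift3 isR3_xC T
  have h1 := hS.ker_eq_center T θ hθ Gs_stGen
  have hi := Lang.torY_stGen_injective hD T hS
  have h2 : (Nat.card θ.ker).Coprime p := by
    rw [h1, isR3_stGen.center_eq T θ hθ hS Gs_stGen, Subgroup.card_map_of_injective hi]
    refine (Nat.Coprime.coprime_dvd_left (Subgroup.card_subgroup_dvd_card _) ?_)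
    rw [Nat.card_fun, Nat.card_units, Nat.card_eq_fintype_card]
    obtain ⟨n, -, hn⟩ := FiniteField.card K p
    refine Nat.Coprime.pow_left _ (Nat.Coprime.coprime_dvd_right (dvd_pow_self p n.ne_zero) ?_)
    rw [hn]
    exact (Nat.coprime_self_sub_left (Nat.one_le_pow _ _ (Fact.out : p.Prime).pos)).2 (by simp)
  have hs := surjective_of_hom θ hθ
  obtain ⟨σ, h3, h4⟩ := exists_stem_of_plift θ h1.le h2 j hj (hr.le.trans ((tw S φ hφ).data.T_le
    (fun a u hu hf => by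
      obtain ⟨y, rfl, hy⟩ := exists_isPE_lift h2 (hs u)
        (isPE_of_mem (S.isPGroup_U p) (S.R.UJ_le_U _ hu))
      exact ⟨y, mem_plift hy (hr.ge ((tw S φ hφ).data.mem_T_of_UJ hu hf)), rfl⟩)
    fun a u hu hf => by
      obtain ⟨y, rfl, hy⟩ := exists_isPE_lift h2 (hs u)
        (RootBN.isPE_of_V (S.isPGroup_U p) (S.R.VJ_le_V _ hu))
      exact ⟨y, mem_plift hy (hr.ge ((tw S φ hφ).data.mem_T_of_VJ hu hf)), rfl⟩))
  refine ⟨_, _, inferInstance, σ, h3, ?_⟩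
  rw [h4, ← card_ker S φ hφ hq hK, ← Subgroup.card_map_of_injective hi]
  refine Subgroup.card_le_of_le ?_
  rintro _ ⟨c : Fin 6 → Kˣ, ⟨k1, k2⟩, rfl⟩
  refine ⟨by
    rw [h1, isR3_stGen.center_eq T θ hθ hS Gs_stGen]
    exact ⟨c, (Chev.tor_eq_one_iff (D := chevE6)).2 ((ChevSys.tor_eq_one_iff S).1 k1), rfl⟩, ?_⟩
  obtain ⟨h5, -, h6, -⟩ := (mem_fixT S φ hφ).1 k2
  obtain ⟨-, h7, -, h8, -⟩ := (E6.tor_eq_one_iff S).1 k1
  have e : c = (Pi.mulSingle 2 (c 2) * Pi.mulSingle 4 (c 4)) *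
      (Pi.mulSingle 0 (c 0) * Pi.mulSingle 5 (c 5)) := by
    ext i; fin_cases i <;> simp [h7, h8]
  let f : (Fin 6 → Kˣ) →* _ := (isR3_stGen (D := chevE6) (F := K)).torY hS T
  have ht : ∀ i : Fin 6, f (Pi.mulSingle i (c i)) = hh chevE6 (chevE6.stGen K) (chevE6.simple i) (c i : K) :=
    fun i => isR3_stGen.torY_mulSingle hS T i (c i)
  have cm : ∀ r s, r < 72 ∧ s < 72 ∧ s ≠ r ∧ s ≠ chevE6.neg r ∧ chevE6.commTerms r s = [] →
      ∀ t u : K, Commute (chevE6.stGen K r t) (chevE6.stGen K s u) := fun r s h =>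
    hS.toIsSt0.commute_of_commTerms h.1 h.2.1 h.2.2.1 h.2.2.2.1 h.2.2.2.2
  have mm : ∀ r s, r < 72 ∧ s < 72 ∧ s ≠ r ∧ s ≠ chevE6.neg r ∧ chevE6.commTerms r s = [] →
      ∀ t u : K, xC chevE6 K r t * xC chevE6 K s u ∈ (tw S φ hφ).data.T →
      chevE6.stGen K r t * chevE6.stGen K s u ∈ plift θ p j.range := fun r s h t u h' =>
    mem_plift ((isPE_of_add (hS.add r h.1) t).mul_of_commute (isPE_of_add (hS.add s h.2.1) u)
      (cm r s h t u)) (by rw [map_mul, hθ r h.1, hθ s h.2.1, hr]; exact h')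
  change f c ∈ _
  rw [e]
  simp only [map_mul, ht, h5, h6]
  exact mul_mem (hh_mul_hh_mem (D := chevE6) (r := 42) (s := 37) φ (cm 37 42 (by decide +kernel))
      (cm 37 29 (by decide +kernel)) (cm 34 42 (by decide +kernel)) (cm 34 29 (by decide +kernel))
      (fun t => mm 42 37 (by decide +kernel) _ _ (par_pos_mem S φ hφ (a := 2) ⟨t, rfl⟩))
      (fun t => mm 29 34 (by decide +kernel) _ _ (par_neg_mem S φ hφ (a := 2) ⟨t, rfl⟩)) _)
    (hh_mul_hh_mem (D := chevE6) (r := 56) (s := 36) φ (cm 36 56 (by decide +kernel))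
      (cm 36 15 (by decide +kernel)) (cm 35 56 (by decide +kernel)) (cm 35 15 (by decide +kernel))
      (fun t => mm 56 36 (by decide +kernel) _ _ (par_pos_mem S φ hφ (a := 3) ⟨t, rfl⟩))
      (fun t => mm 15 35 (by decide +kernel) _ _ (par_neg_mem S φ hφ (a := 3) ⟨t, rfl⟩)) _)

theorem multiplier (h3 : 3 ≤ q) : HasCyclicSchurMultiplier T' (Nat.gcd 3 (q + 1)) := by
  have := S.finite
  have := Finite.of_injective j hj
  have h1 := (pb S φ hφ hq hK j hj hr p (by omega)).mcard_le Fact.out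
    (not_dvd_mcard S φ hφ hq hK j hj hr p h3)
  obtain ⟨Γ, _, _, σ, h2, h4⟩ := exists_stem S φ hφ hq hK j hj hr p
  have h5 := Nat.le_of_dvd mcard_pos (card_ker_inf_commutator_dvd h2.1 h2.2.1)
  rw [inf_eq_left.2 h2.2.2] at h5
  have hc : Nat.card σ.ker = Nat.gcd 3 (q + 1) := by omega
  have hcyc : IsCyclic σ.ker := by
    have := Fact.mk Nat.prime_three
    exact isCyclic_of_card_dvd_prime (p := 3) (hc ▸ Nat.gcd_dvd_left _ _)
  refine hasSchurMultiplier_of_card_le h2 (hc ▸ (zmodCyclicMulEquiv hcyc).symm) ?_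
  rwa [Nat.card_congr Multiplicative.toAdd, Nat.card_zmod]

end E6

end Cfsg.Agent.Chev
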