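import Cfsg.Agent.Chev.TwMultG

/-!
The Schur multiplier of the large Ree groups.
-/

set_option autoImplicit false

namespace Cfsg.Agent.Chev.F4

open Cfsg.Lie Cfsg.Agent.Mult
open scoped commutatorElement

/-- The rays of the positive roots. -/
def kap (r : ℕ) : ℕ :=
  [0, 7, 1, 7, 7, 3, 7, 5, 6, 0, 1, 5, 1, 6, 2, 4, 5, 3, 1, 2, 3, 4, 5, 3].getD (r - 24) 0

/-- The roots of a ray. -/
def orb (c : ℕ) : List ℕ := [[24, 33], [34, 26, 36, 42], [43, 38], [29, 41, 44, 47], [45, 39],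
  [35, 31, 40, 46], [32, 37], [27, 25, 28, 30]].getD c []

/-- The coroot `k` gives an element without fixed points on the root subgroup of `r`. -/
def Pat (k r : ℕ) : Prop := r < 48 ∧ (2 * chevF4.pairing k r ^ 2 -
  (expF4 (rhoF4 r) * chevF4.pairing k (rhoF4 r)) ^ 2).natAbs ∣ 16

/-- The coroot `k` is orthogonal to the orbit of `s`. -/
def Ort (k s : ℕ) : Prop := s < 48 ∧ chevF4.pairing k s = 0 ∧ chevF4.pairing k (rhoF4 s) = 0

instance instDecidablePat (k r : ℕ) : Decidable (Pat k r) := inferInstanceAs (Decidable (_ ∧ _))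

instance instDecidableOrt (k r : ℕ) : Decidable (Ort k r) := inferInstanceAs (Decidable (_ ∧ _))

theorem rho2 : ∀ r < 48, rhoF4 (rhoF4 r) = r ∧ expF4 r * expF4 (rhoF4 r) = 2 := by decide +kernel

theorem orb_spec : ∀ c < 8, (∀ k ∈ orb c, k < 48) ∧
    ∀ k < 48, k ∈ orb c ↔ chevF4.IsPosRoot k ∧ kap k = c := by decide +kernel

theorem mem_ray {c : ℕ} (hc : c < 8) (k : ℕ) :
    k ∈ orb c ↔ k ∈ {k | chevF4.IsPosRoot k ∧ kap k = c} :=
  ⟨fun h => ((orb_spec c hc).2 k ((orb_spec c hc).1 k h)).1 h, fun h => ((orb_spec c hc).2 k h.1.1).2 h⟩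

theorem ok_all : ∀ a < 8, ∀ b < a, ∃ k < 48, (∀ s ∈ orb b, Ort k s) ∧ ∀ r ∈ orb a, Pat k r := by
  decide +kernel

theorem scal_all : ∀ r < 48, ∃ k < 48, chevF4.pairing k r = 1 ∧ chevF4.pairing k (rhoF4 r) = 0 := by
  decide +kernel

theorem ab_spec : ∀ c < 8, c % 2 = 0 → ∃ r < 48, orb c = [r, rhoF4 r] ∧ [r, rhoF4 r].Nodup ∧
    commMod chevF4 0 r (rhoF4 r) = true := by decide +kernel

/-- The conditions on the four roots of a ray of Suzuki type. -/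
def SzOk (a b c d : ℕ) : Prop := (∀ r ∈ [a, b, c, d], r < chevF4.nroots) ∧ [a, b, c, d].Nodup ∧
  (rhoF4 a = b ∧ expF4 a = 2) ∧ (rhoF4 b = a ∧ expF4 b = 1) ∧ (rhoF4 c = d ∧ expF4 c = 2) ∧
  (rhoF4 d = c ∧ expF4 d = 1) ∧ (∃ C ∈ [1, -1], ∃ C' ∈ [1, -1], b ≠ a ∧ b ≠ chevF4.neg a ∧
    chevF4.commTerms a b = [(c, C, 1, 1), (d, C', 2, 1)] ∧ (C = 1 ∨ C = -1) ∧ (C' = 1 ∨ C' = -1)) ∧
  (∀ p ∈ [(c, a), (c, b), (d, a), (d, b), (d, c)], commMod chevF4 2 p.1 p.2 = true) ∧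
  commMod chevF4 0 c d = true ∧ (∀ r ∈ [d, c], chevF4.pairing c r = 2) ∧
  (∀ k < chevF4.nroots, chevF4.pairing c k ≤ 2) ∧
  (∀ i : Fin 4, chevF4.cartan i c = chevF4.cartan i a + chevF4.cartan i b) ∧
  ∀ i : Fin 4, chevF4.cartan i d = chevF4.cartan i a + chevF4.cartan i c

set_option synthInstance.maxSize 2048 in
instance instDecidableSzOk (a b c d : ℕ) : Decidable (SzOk a b c d) :=
  inferInstanceAs (Decidable (_ ∧ _))

/-- A commutator that involves the ray of Suzuki type with roots `a, b, c, d`. -/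
def ComOk (a b c d : ℕ) (A B : List ℕ) (P Q : List (List ℕ × ℕ)) (g : ℕ → ℕ) : Prop :=
  ((∀ r ∈ A ++ B, r < chevF4.nroots) ∧ chevF4.nroots ∉ nf2 chevF4 g (A ++ B ++ A.reverse ++ B.reverse) ∧
    nf2 chevF4 g (A ++ B ++ A.reverse ++ B.reverse) =
      nf2 chevF4 g ((P.map Prod.fst).flatten ++ [a, b, d] ++ (Q.map Prod.fst).flatten)) ∧
  (∀ l ∈ A :: B :: (P ++ Q).map Prod.fst, ((∀ r ∈ l, r < chevF4.nroots) ∧
    chevF4.nroots ∉ nf2 chevF4 g l ∧ nf2 chevF4 g l = nf2 chevF4 g (l.map rhoF4)) ∧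
    ∀ r ∈ [d, c], ∀ s ∈ l, commMod chevF4 2 r s = true) ∧
  ∀ p ∈ P ++ Q, (∀ s ∈ p.1, Ort p.2 s) ∧ ∀ r ∈ [d, c], Pat p.2 r

set_option synthInstance.maxSize 2048 in
instance instDecidableComOk (a b c d : ℕ) (A B : List ℕ) (P Q : List (List ℕ × ℕ)) (g : ℕ → ℕ) :
    Decidable (ComOk a b c d A B P Q g) := inferInstanceAs (Decidable (_ ∧ _))

theorem sz_spec {k : ℕ} (hk : k < 8) (h : k % 2 = 1) : ∃ a b c d A B P Q g, orb k = [a, b, c, d] ∧
    SzOk a b c d ∧ ComOk a b c d A B P Q g := by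
  obtain rfl | rfl | rfl | rfl : k = 1 ∨ k = 3 ∨ k = 5 ∨ k = 7 := by omega
  · exact ⟨_, _, _, _, [10, 15], [40, 46], [([19, 17], 0), ([33, 24], 2)],
      [([38, 43], 10), ([29, 41, 44], 17), ([39, 45], 14)], fun r => [1, 0, 0, 0, 0, 1, 0, 6, 0, 4, 2, 0,
        2, 0, 7, 0, 5, 0, 0, 3, 0, 1, 0, 5, 3, 1, 8, 0, 6, 4, 2, 4, 11, 9, 7, 5, 3, 10].getD (r - 10) 0,
      rfl, by decide +kernel, by decide +kernel⟩
  · exact ⟨_, _, _, _, [24, 33], [28, 30], [([36, 42], 1), ([38, 43], 10)],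
      [([39, 45], 14), ([35, 31, 40], 5), ([37, 32], 4)], fun r => [1, 1, 2, 1, 2, 3, 3, 4, 5, 1, 2, 3,
        4, 4, 5, 6, 7, 5, 6, 7, 8, 9, 10, 11].getD (r - 24) 0, rfl, by decide +kernel, by decide +kernel⟩
  · exact ⟨_, _, _, _, [38, 43], [11, 5], [([44, 47], 17), ([39, 45], 14)],
      [([37, 32], 4), ([27, 25, 28], 0), ([14, 23], 2)], fun r => [3, 0, 0, 0, 0, 0, 2, 0, 1, 4, 0, 0,
        0, 0, 0, 0, 1, 0, 5, 0, 4, 0, 3, 7, 2, 10, 5, 9, 0, 0, 3, 0, 6, 1, 5, 8, 2, 0, 1, 4, 7, 11,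
        6].getD (r - 5) 0, rfl, by decide +kernel, by decide +kernel⟩
  · exact ⟨_, _, _, _, [39, 45], [3, 0], [([40, 46], 5), ([37, 32], 4)],
      [([14, 23], 2), ([13, 21, 11], 1), ([9, 4], 10)], fun r => [3, 0, 0, 2, 5, 10, 1, 0, 0, 4, 0, 7,
        0, 3, 6, 0, 0, 0, 1, 0, 0, 4, 0, 9, 0, 5, 0, 3, 8, 0, 11, 2, 7, 0, 0, 2, 0, 5, 0, 1, 4, 0, 0, 0,
        0, 1, 6].getD r 0, rfl, by decide +kernel, by decide +kernel⟩

section

variable {K : Type*} [Field K] {G : Type*} [Group G] {T : RootTable chevF4} {x : ℕ → K → G}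
  [CharP K 2] (S : ChevSys T x) (θ : K →+* K) (hθ : ∀ t, θ (θ t) ^ 2 = t)

set_option synthInstance.maxSize 2048 in
theorem isRay : (tw S θ hθ).IsRay kap 8 fun a b => Finset.Ioo (min a b) (max a b) :=
  (tw S θ hθ).isRay_sector (fun c => [[(39, 2), (45, 3)], [(40, 1), (46, 1)], [(32, 3), (37, 2)],
    [(28, 1), (30, 1)], [(14, 2), (23, 3)], [(5, 1), (11, 1)], [(4, 3), (9, 2)], [(0, 1), (3, 1)]].getD c [])
    (by change ∀ r < _, _ → _ ∧ kap (rhoF4 r) = _ ∧ _; decide +kernel)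

theorem σ2 (g : G) : (tw S θ hθ).σ ((tw S θ hθ).σ g) = g :=
  (tw S θ hθ).σ_two (fun r hr => ⟨(rho2 r hr).1, rfl⟩) (fun r hr t => by
    rw [TwMap.hψ, TwMap.hψ]
    exact (congrArg (· ^ _) (map_pow θ _ _)).trans (by
      rw [← pow_mul]; exact (congrArg _ (rho2 r hr).2).trans (hθ t))) g

include hθ in
theorem eq_one_of_pat {z : K} (h0 : z ≠ 0) {a b : ℤ} (h : (2 * a ^ 2 - b ^ 2).natAbs ∣ 16)
    (e : z ^ a * θ z ^ b = 1) : z = 1 := by
  have h1 : θ z ≠ 0 := by simpa using h0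
  have e1 : θ z ^ (2 * a) * z ^ b = 1 := by
    have := congrArg (fun t => θ t ^ 2) e
    simp only [map_mul, map_zpow₀, mul_pow, map_one, one_pow] at this
    rwa [← zpow_natCast, ← zpow_mul, ← zpow_natCast, ← zpow_mul, mul_comm b, zpow_mul (θ (θ z)),
      zpow_natCast, hθ, mul_comm a] at this
  have e2 : z ^ (2 * a ^ 2 - b ^ 2) = 1 := by
    have k1 := congrArg (· ^ (2 * a)) e
    have k2 := congrArg (· ^ b) e1
    simp only [mul_zpow, ← zpow_mul, one_zpow] at k1 k2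
    rw [zpow_sub₀ h0, div_eq_one_iff_eq (zpow_ne_zero _ h0)]
    refine mul_right_cancel₀ (zpow_ne_zero (2 * a * b) h1) ?_
    rw [mul_comm (z ^ b ^ 2), pow_two b, k2, ← k1]
    congr 2 <;> ring
  obtain ⟨n, hn⟩ := Int.natAbs_dvd.1 (Int.natCast_dvd_natCast.2 h)
  have e3 : z ^ 2 ^ 4 = 1 := by
    rw [← zpow_natCast, show ((2 ^ 4 : ℕ) : ℤ) = _ from hn, zpow_mul, e2, one_zpow]
  exact sub_eq_zero.1 (pow_eq_zero_iff (by norm_num) |>.1
    ((sub_pow_char_pow z 1 4).trans (by rw [e3, one_pow, sub_self])))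

theorem sep {z : Kˣ} (hz : z ≠ 1) {Z Z' : Set ℕ} (hZ : T.Nil Z) {k : ℕ} (h1 : ∀ s ∈ Z', Ort k s)
    (h2 : ∀ r ∈ Z, Pat k r) : SepG (tw S θ hθ).H1 ((tw S θ hθ).fx Z) ((tw S θ hθ).fx Z') :=
  (tw S θ hθ).sepG_two (σ2 S θ hθ) hZ k z (fun s hs => ⟨(h1 s hs).1, (rho2 s (h1 s hs).1).1, (h1 s hs).2⟩)
    fun r hr => ⟨(rho2 r (h2 r hr).1).1, fun e => hz (Units.ext (eq_one_of_pat θ hθ z.ne_zero (h2 r hr).2
      (by rw [zpow_mul, zpow_natCast, ← e, TwMap.hψ]; rfl)))⟩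

theorem scal {r : ℕ} (hr : r < 48) : (tw S θ hθ).Scal r := by
  obtain ⟨k, -, h⟩ := scal_all r hr
  exact (tw S θ hθ).scal_two (σ2 S θ hθ) hr (rho2 r hr).1 k h

theorem exists_lifts_ray [Fintype K] (hK : 4 < Fintype.card K) {Γ : Type*} [Group Γ] [Finite Γ]
    {τ : Γ →* G} (h1 : τ.range = (tw S θ hθ).data.Fix) (h2 : τ.ker ≤ Subgroup.center Γ) {k : ℕ}
    (hk : k < 8) : ∃ Y, Lifts τ (tw S θ hθ).H1 ((tw S θ hθ).ray kap k) Y := by
  set M := tw S θ hθ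
  have hZ := (isRay S θ hθ).nil_ray k
  rcases Nat.mod_two_eq_zero_or_one k with h | h
  · obtain ⟨r, hr, a1, a2, a3⟩ := ab_spec k hk h
    exact (M.par_two (σ2 S θ hθ) hZ a2 (a1 ▸ mem_ray hk) (rho2 r hr).1
      (comm S _ _ ⟨hr, M.ρ_lt hr, a3⟩)).exists_lifts h1 h2 hK (scal S θ hθ hr) hZ
  obtain ⟨a, b, c, d, A, B, P, Q, g, e, ⟨hl, hn, ra, rb, rc, rd, ⟨C, -, C', -, h3⟩, h4, h5, h6, h7,
    h9, h10⟩, k1, k2, k3⟩ := sz_spec hk h
  have hm := e ▸ mem_ray hk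
  have hl' := hl
  simp only [List.forall_mem_cons] at hl'
  obtain ⟨la, lb, lc, ld, -⟩ := hl'
  have cB := comm_B2 S a b c d C C' ⟨la, lb, h3⟩
  have cd := comm S c d ⟨lc, ld, h5⟩
  have mul := sz_mul S θ hθ hl cB h4
  have fix := S.fix_B2 hZ hn hm θ hθ (sig_short S θ hθ a b ⟨la, ra⟩) (sig_long S θ hθ b a ⟨lb, rb⟩)
    (sig_short S θ hθ c d ⟨lc, rc⟩) (sig_long S θ hθ d c ⟨ld, rd⟩) cB cd
  have hs : ∀ r ∈ [d, c], r ∈ {r | chevF4.IsPosRoot r ∧ kap r = k} := fun r hr => (hm r).1 (by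
    rcases List.mem_pair.1 hr with rfl | rfl <;> simp)
  have hZ' : T.Nil {r | r ∈ [d, c]} := hZ.mono hs fun r hr s hs' l hl i j hi hj e => by
    have := T.pairing_of_vec c (hZ.lt r (hs r hr)) (hZ.lt s (hs s hs')) hl e
    rw [h6 r hr, h6 s hs'] at this
    have := h7 l (T.lt_iff.2 hl)
    omega
  have par := M.par_two (σ2 S θ hθ) hZ' (r := d) (by
    rw [show M.ρ d = c from rd.1]; simp at hn ⊢; omega) (by rw [show M.ρ d = c from rd.1]; simp)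
    (rho2 d ld).1 (by rw [show M.ρ d = c from rd.1]; exact fun t u => (cd u t).symm)
  have e0 : ∀ w, sz x θ a b c d 0 w = x d w * M.σ (x d w) := fun w => by
    rw [show M.σ (x d w) = _ from sig_long S θ hθ d c ⟨ld, rd⟩ w, ← (cd _ _).eq]
    simp [sz, S.st.x_zero la, S.st.x_zero lb]
  have m0 : ∀ w, sz x θ a b c d 0 w ∈ M.fx {r | r ∈ [d, c]} := fun w => (par.mem _).2 ⟨w, e0 w⟩
  have sp : ∀ s w, sz x θ a b c d s w = sz x θ a b c d s 0 * sz x θ a b c d 0 w := fun s w => by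
    simp [mul]
  obtain ⟨Y, hY⟩ := par.exists_lifts h1 h2 hK (scal S θ hθ ld) hZ'
  obtain ⟨w, w0, w1, w2⟩ := exists_cyclo hK
  refine exists_lifts_sz (z := fun s => sz x θ a b c d s 0) h2 (h1 ▸ M.H1_le) (h1 ▸ M.fx_le _) hY
    (fun g => (fix g).trans ⟨fun ⟨s, w, e⟩ => ⟨s, _, m0 w, e.trans (sp s w)⟩, fun ⟨s, y, hy, e⟩ => ?_⟩)
    (fun s t => ⟨_, m0 _, (mul s 0 t 0).trans (sp _ _)⟩) (fun s t y hy e => ?_) (m0 0)
    (M.conj_mem_fx hZ.lt) (M.conj_mem_fx hZ'.lt) M.H1_comm (fun t ht => ?_)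
    (par.commute h1 h2 hK (scal S θ hθ ld)) ⟨_, m0 1, fun u v hu hv => ?_⟩ w0 w1 w2
  · obtain ⟨w, rfl⟩ := (par.mem _).1 hy
    exact ⟨s, w, by rw [e, ← e0]; exact (sp s w).symm⟩
  · obtain ⟨w, rfl⟩ := (par.mem _).1 hy
    rw [← e0, ← sp] at e
    have := S.inj_list hZ hn (fun r hr => (hm r).1 hr) rfl rfl e
    simp only [List.cons.injEq] at this
    exact this.2.1
  · obtain ⟨f, hf, e⟩ := scal S θ hθ lb (Units.mk0 t ht)
    have e1 : (chi chevF4 b f : K) = t := congrArg Units.val e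
    have e2 : (chi chevF4 a f : K) = θ t := by
      have := M.chi_of_σ hf lb
      rwa [show M.ρ b = a from rb.1, M.hψ, show M.e b = 1 from rb.2, pow_one, e1] at this
    have e3 : (chi chevF4 c f : K) = θ t * t := by rw [chi_add h9, Units.val_mul, e1, e2]
    refine ⟨_, M.tor_mem_H1 hf, fun s => ?_⟩
    simpa using map_sz θ hθ (MulAut.conj (S.tor f)) (RingEquiv.refl K) (fun _ => rfl)
      (fun u => e2 ▸ S.tor_conj f (T.lt_iff.1 la) u) (fun u => e1 ▸ S.tor_conj f (T.lt_iff.1 lb) u)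
      (fun u => e3 ▸ S.tor_conj f (T.lt_iff.1 lc) u) (fun u => (S.tor_conj f (T.lt_iff.1 ld) u).trans
        (by rw [chi_add h10, Units.val_mul, e2, e3, pow_two]; simp [mul_assoc])) s 0
  have ex : ∀ l ∈ A :: B :: (P ++ Q).map Prod.fst, (∃ y, τ y = e1 x l) ∧
      ∀ g ∈ M.fx {r | r ∈ [d, c]}, Commute g (e1 x l) := fun l hl =>
    ⟨show _ ∈ τ.range from h1 ▸ M.e1_mem_Fix g (k2 l hl).1, fun y hy => M.commute_fx hy fun r hr t =>
      Commute.list_prod_right _ _ fun _ h => by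
        obtain ⟨s, hs, rfl⟩ := List.mem_map.1 h
        exact S.commute_of_check (p := 2) (by simpa using CharTwo.two_eq_zero) (T.lt_iff.2 (hZ'.lt r hr))
          ((k2 l hl).1.1 s hs) ((k2 l hl).2 r hr s hs) _ _⟩
  let W := (Subgroup.centralizer {v}).map τ
  have k4 : ∀ R : List (List ℕ × ℕ), (∀ p ∈ R, p ∈ P ++ Q) → e1 x (R.map Prod.fst).flatten ∈ W := by
    intro R hR
    induction R with
    | nil => exact one_mem _
    | cons p R ih =>
      have hp := hR p (by simp)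
      have hp' : p.1 ∈ A :: B :: (P ++ Q).map Prod.fst := by simp only [List.mem_cons]; grind
      obtain ⟨⟨y, hy⟩, h⟩ := ex _ hp'
      have := M.finite_fx hZ'
      rw [List.map_cons, List.flatten_cons, e1_append]
      exact mul_mem ⟨y, Subgroup.mem_centralizer_singleton_iff.2 ((sep S θ hθ (z := Units.mk0 w w0)
        (by simpa [← Units.val_inj] using w1) hZ' (Z' := {s | s ∈ p.1}) (k3 p hp).1 (k3 p hp).2).commute
          h2 (h1 ▸ M.H1_le) (h1 ▸ M.fx_le _) (M.conj_mem_fx hZ'.lt) hv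
          ⟨hy ▸ e1_mem fun _ h => h, h1.le ⟨y, rfl⟩⟩ (hy ▸ h)).symm, hy⟩ (ih fun q hq => hR q (by simp [hq]))
  obtain ⟨⟨y, hy⟩, h⟩ := ex A (by simp)
  obtain ⟨⟨y', hy'⟩, h'⟩ := ex B (by simp)
  have k5 : ⁅e1 x A, e1 x B⁆ ∈ W := ⟨⁅y, y'⁆, Subgroup.mem_centralizer_singleton_iff.2
    (commute_commutator h2 (hy ▸ (h _ hv).symm) (hy' ▸ (h' _ hv).symm)), by
      rw [map_commutatorElement, hy, hy']⟩
  rw [S.st.toIsSt0.e1_comm g k1, e1_append, e1_append] at k5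
  obtain ⟨u', k6, k7⟩ := (mul_mem_cancel_left (k4 P fun _ h => by simp [h])).1
    ((mul_mem_cancel_right (k4 Q fun _ h => by simp [h])).1 k5)
  refine commute_congr h2 (k7.trans ?_) rfl (Subgroup.mem_centralizer_singleton_iff.1 k6)
  rw [hu, ← sp]
  simp [sz, e1, CharTwo.add_self_eq_zero, S.st.x_zero lc]

end

variable {K : Type*} [Field K] [Fintype K] [CharP K 2] {T : RootTable chevF4}
  (S : ChevSys T (xC chevF4 K)) (θ : K →+* K) (hθ : ∀ t, θ (θ t) ^ 2 = t) {m : ℕ} [SzField K m]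
  (hq : ∀ t, θ t = t ^ 2 ^ m) {T' : Type*} [Group T'] (j : T' →* chevF4.group K)
  (hj : Function.Injective j) (hr : j.range = (tw S θ hθ).data.T)
include hj hr

theorem not_dvd_mcard (hK : 4 < Fintype.card K) : ¬ 2 ∣ mcard T' := by
  refine (isRay S θ hθ).not_dvd_mcard 2 (T_eq_Fix S θ hθ) j hj hr fun Γ _ _ τ k1 k2 _ => ?_
  obtain ⟨Y, hY, -⟩ := (isRay S θ hθ).exists_family' (P := fun _ _ => True) fun c hc =>
    (exists_lifts_ray S θ hθ hK k1 k2 hc).imp fun _ h => ⟨h, trivial⟩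
  obtain ⟨z, hz⟩ := exists_units_ne_one (K := K) (by omega)
  refine ⟨Y, hY, fun r s hr hs h => .inr (.inl ?_)⟩
  have h1 := (isRay S θ hθ).lt s hs
  obtain ⟨k, -, h2, h3⟩ := ok_all _ h1 _ h
  exact sep S θ hθ hz ((isRay S θ hθ).nil_ray _) (fun t ht => h2 t ((mem_ray (h.trans h1) t).2 ht))
    fun t ht => h3 t ((mem_ray h1 t).2 ht)

include hq

theorem pb : PB 2 1 T' := by
  have := S.finite
  have := Finite.of_injective j hj
  set M := tw S θ hθ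
  have st := fun r hr => stRel_of_isSt0 (by simp) S.st.toIsSt0 (r := r) hr
  refine M.data.pb j hj hr (S.isPGroup_U 2) ![Fintype.card K - 1, Fintype.card K - 1]
    (fun Γ _ _ τ k1 k2 k3 a => ?_) (by rw [card_H S θ hθ, Fin.prod_univ_two]; simp [pow_two])
  rw [← Nat.card_eq_fintype_card]
  fin_cases a
  · exact M.data.card_Lh_inf_le k1 k2 k3 (S.isPGroup_U 2) (stRel_mul (nd3.2 ▸ st 24 (by decide))
      (stRel_comp (nd0.2 ▸ st 33 (by decide)) θ) (S.comm4 24 23 33 14 (by decide +kernel) id θ))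
      (fun t e => (S.inj₂ T.nil_neg (r := 23) (s := 14) (by decide +kernel) (by decide +kernel)
        (by decide) (a' := 0) (b' := 0) (e.trans (by
          rw [S.st.x_zero (by decide), S.st.x_zero (by decide), mul_one]))).1)
      (M.UJ_eq 0 ▸ fix_pos S θ hθ 0) (M.VJ_eq 0 ▸ fix_neg S θ hθ 0) (pair S θ).2.1
  have hU : ∀ g, (g ∈ S.R.UJ (M.data.J 1) ∧ M.data.σ g = g) ↔
      ∃ s w, g = sz (xC chevF4 K) θ 27 25 28 30 s w := M.UJ_eq 1 ▸ fix_pos S θ hθ 1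
  have hV : ∀ g, (g ∈ S.R.VJ (M.data.J 1) ∧ M.data.σ g = g) ↔
      ∃ s w, g = sz (xC chevF4 K) θ 20 22 19 17 s w := M.VJ_eq 1 ▸ fix_neg S θ hθ 1
  have h1 := IsSt0.pb_sz hq (y := fun r => xC chevF4 K (Lang.embB2 r))
    (by simpa using Lang.isEmbB2.isSt0 S.st.toIsSt0) fun e => one_ne_zero
      (S.nd.eq_zero_of_x_eq_one (r := 17) (T.lt_iff.1 (by decide)) e)
  have e0 : ∀ s w, sz (fun r => xC chevF4 K (Lang.embB2 r)) θ 5 4 6 7 s w =
      sz (xC chevF4 K) θ 27 25 28 30 s w ∧ sz (fun r => xC chevF4 K (Lang.embB2 r)) θ 2 3 1 0 s w =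
      sz (xC chevF4 K) θ 20 22 19 17 s w := by
    simp [sz, show Lang.embB2 0 = 17 ∧ Lang.embB2 1 = 19 ∧ Lang.embB2 2 = 20 ∧ Lang.embB2 3 = 22 ∧
      Lang.embB2 4 = 25 ∧ Lang.embB2 5 = 27 ∧ Lang.embB2 6 = 28 ∧ Lang.embB2 7 = 30 by decide +kernel]
  rw [show {g | ∃ s w, _} = {g | ∃ s w, g = sz (xC chevF4 K) θ 27 25 28 30 s w ∨
    g = sz (xC chevF4 K) θ 20 22 19 17 s w} by simp only [e0]] at h1
  have h2 := h1.ker_inf_plift_eq_bot k2 k3 (by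
    rintro _ ⟨s, w, rfl | rfl⟩
    · have h := (hU _).2 ⟨s, w, rfl⟩
      exact ⟨k1 ▸ M.data.mem_T_of_UJ h.1 h.2, isPE_of_mem (S.isPGroup_U 2) (S.R.UJ_le_U _ h.1)⟩
    · have h := (hV _).2 ⟨s, w, rfl⟩
      exact ⟨k1 ▸ M.data.mem_T_of_VJ h.1 h.2, RootBN.isPE_of_V (S.isPGroup_U 2) (S.R.VJ_le_V _ h.1)⟩)
  have h3 : τ.ker ⊓ M.data.Lh τ 2 1 ≤ ⊥ := h2 ▸ inf_le_inf_left _ (plift_le fun g hg h =>
    mem_plift hg (h.elim (fun h => ((hU _).1 ⟨h, M.data.σ_τ k1 g⟩).imp fun _ h => h.imp fun _ => .inl)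
      fun h => ((hV _).1 ⟨h, M.data.σ_τ k1 g⟩).imp fun _ h => h.imp fun _ => .inr))
  have h4 : M.data.Lh τ 2 1 ≤ (Subgroup.centralizer {xC chevF4 K 29 1}).comap τ := by
    have c : ∀ r ∈ [27, 25, 28, 30, 20, 22, 19, 17], ∀ t,
        xC chevF4 K r t ∈ Subgroup.centralizer {xC chevF4 K 29 1} := fun r hr t =>
      Subgroup.mem_centralizer_singleton_iff.2 (S.commute_of_check (p := 2)
        (by simpa using CharTwo.two_eq_zero) (by revert r; decide) (by decide)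
        (by revert r; decide +kernel) t 1)
    refine plift_le fun g _ h => Subgroup.mem_comap.2 ?_
    rcases h with h | h
    · obtain ⟨s, w, e⟩ := (hU _).1 ⟨h, M.data.σ_τ k1 g⟩
      exact e ▸ mul_mem (c 27 (by simp) _) (mul_mem (c 25 (by simp) _) (mul_mem (c 28 (by simp) _)
        (mul_mem (c 30 (by simp) _) (one_mem _))))
    · obtain ⟨s, w, e⟩ := (hV _).1 ⟨h, M.data.σ_τ k1 g⟩
      exact e ▸ mul_mem (c 20 (by simp) _) (mul_mem (c 22 (by simp) _) (mul_mem (c 19 (by simp) _)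
        (mul_mem (c 17 (by simp) _) (one_mem _))))
  choose c hc using fun g : ↥(M.data.Lh τ 2 1 ⊓ S.R.H.comap τ) => S.exists_tor g.2.2
  refine (Nat.card_le_card_of_injective (fun g => chi chevF4 25 (c g)) fun g g' e => ?_).trans
    (Nat.card_units K).le
  have h5 : S.tor ((c g)⁻¹ * c g') = τ ((g : Γ)⁻¹ * g') := by simp [hc]
  have h6 : (g : Γ)⁻¹ * g' ∈ M.data.Lh τ 2 1 := mul_mem (inv_mem g.2.1) g'.2.1
  have h7 : chi chevF4 25 ((c g)⁻¹ * c g') = 1 := by simp [show chi chevF4 25 (c g) = _ from e]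
  generalize (c g)⁻¹ * c g' = f at h5 h7
  have hf : M.σ (S.tor f) = S.tor f := h5 ▸ M.data.σ_τ k1 _
  have h8 : ∀ r < 48, chi chevF4 r f = 1 → chi chevF4 (rhoF4 r) f = 1 := fun r hr h =>
    Units.ext ((M.chi_of_σ hf hr).trans (by simp [h]))
  have h9 : chi chevF4 29 f = 1 := by
    have := S.tor_conj f (r := 29) (T.lt_iff.1 (by decide)) 1
    rw [h5, Subgroup.mem_centralizer_singleton_iff.1 (h4 h6), mul_inv_cancel_right, mul_one] at this
    exact Units.ext (S.x_inj (by decide) this).symm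
  have h10 : chi chevF4 27 f = 1 := h8 25 (by decide) h7
  rw [chi_add (r := 24) (s := 28) (by decide +kernel), chi_add (k := 28) (r := 27) (s := 25)
    (by decide +kernel), h7, h10, mul_one, mul_one] at h9
  have h11 : S.tor f = 1 := S.tor_eq_one_iff.2 fun (i : Fin 4) => by
    fin_cases i
    exacts [h8 24 (by decide) h9, h10, h7, h9]
  exact Subtype.ext (inv_mul_eq_one.1 (h3 ⟨h5.symm.trans h11, h6⟩))

theorem multiplier : HasCyclicSchurMultiplier T' 1 := by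
  have := S.finite
  have := Finite.of_injective j hj
  have := Suz.eight_le_card (F := K)
  rw [Nat.card_eq_fintype_card] at this
  exact trivial_iff_mcard_eq_one.2 ((pb S θ hθ hq j hj hr).mcard_eq_one Nat.prime_two
    (not_dvd_mcard S θ hθ j hj hr (by omega)))

end Cfsg.Agent.Chev.F4
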