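import Cfsg.Agent.Chev.TwMultF
import Cfsg.Agent.Chev.Rep
import Cfsg.Agent.Chev.TwAutF4
import Cfsg.Agent.Lang.SC
import Cfsg.Agent.Chev.SzLie
import Cfsg.Agent.Chev.SzPartition
import Cfsg.Agent.Transfer.Focal

/-!
Root subgroups of Suzuki type in central extensions.
-/

set_option autoImplicit false

open scoped commutatorElement

namespace Cfsg.Agent.Mult

theorem not_dvd_mcard_of_isCyclic {G : Type*} [Group G] [Finite G] {r : ℕ} (hr : r.Prime)
    (h : ∀ P : Subgroup G, IsPGroup r P → IsCyclic P) : ¬ r ∣ mcard G := by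
  have := Fact.mk hr
  refine not_dvd_mcard hr fun Γ _ _ σ _ hc hk => eq_bot_iff.2 fun x hx => ?_
  obtain ⟨P, hP⟩ := (IsPGroup.of_card (n := 1) (hk.trans (pow_one r).symm)).exists_le_sylow
  have h1 := Transfer.mem_commutator_of_hall_of_central P.card_coprime_index (hP hx.1) (hc hx.1) hx.2
  have := h _ (P.2.map σ)
  have hc : IsMulCommutative (P : Subgroup Γ) :=
    (σ.subgroupMap P).isMulCommutative_of_isCyclic_of_ker_le_center fun y hy =>
      Subgroup.mem_center_iff.2 fun g => Subtype.ext (Subgroup.mem_center_iff.1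
        (hc (congrArg Subtype.val hy)) g)
  rwa [Subgroup.commutator_eq_bot_iff_le_centralizer.mpr (Transfer.le_centralizer_self_of_comm hc)] at h1

variable {Γ G : Type*} [Group Γ] [Group G] {τ : Γ →* G} {H X X' : Subgroup G} {Y : Subgroup Γ}

theorem exists_lifts_sz [Finite Γ] {F : Type*} [Field F] {z : F → G}
    (hc : τ.ker ≤ Subgroup.center Γ) (hH : H ≤ τ.range) (hX : X ≤ τ.range) (hY : Lifts τ H X' Y)
    (mem : ∀ g, g ∈ X ↔ ∃ s, ∃ y ∈ X', g = z s * y)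
    (add : ∀ s t, ∃ y ∈ X', z s * z t = z (s + t) * y) (inj : ∀ s t, ∀ y ∈ X', z s = z t * y → s = t)
    (h0 : z 0 ∈ X') (hn : ∀ h ∈ H, ∀ g ∈ X, h * g * h⁻¹ ∈ X) (hn' : ∀ h ∈ H, ∀ g ∈ X', h * g * h⁻¹ ∈ X')
    (hcomm : ∀ a ∈ H, ∀ b ∈ H, Commute a b)
    (scal : ∀ c, c ≠ 0 → ∃ g ∈ H, ∀ s, g * z s * g⁻¹ = z (c * s))
    (h1 : ∀ a b, τ a ∈ X' → τ b ∈ X' → Commute a b)
    (h2 : ∃ y ∈ X', ∀ a b, τ a = z 1 * y → τ b ∈ X' → Commute a b)
    {w : F} (k0 : w ≠ 0) (k1 : w ≠ 1) (k2 : 1 - w + w ^ 2 ≠ 0) : ∃ Y', Lifts τ H X Y' := by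
  have hle : X' ≤ X := fun y hy => (mem y).2 ⟨0, _, mul_mem (inv_mem h0) hy, by group⟩
  have hz : ∀ s, z s ∈ X := fun s => (mem _).2 ⟨s, 1, one_mem _, (mul_one _).symm⟩
  choose u hu using fun s => hX (hz s)
  have cen : ∀ a b, τ a ∈ X → τ b ∈ X' → Commute a b := fun a b ha hb => by
    obtain ⟨s, y, hy, e⟩ := (mem _).1 ha
    by_cases hs : s = 0
    · exact h1 a b (e ▸ mul_mem (hs ▸ h0) hy) hb
    obtain ⟨y', hy', h2⟩ := h2
    obtain ⟨g, hg, e'⟩ := scal s hs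
    obtain ⟨g, rfl⟩ := hH hg
    obtain ⟨y, rfl⟩ := hX (hle hy)
    obtain ⟨y', rfl⟩ := hX (hle hy')
    have k : τ (g⁻¹ * b * g) ∈ X' := by simpa using hn' _ (inv_mem hg) _ hb
    have := (((h2 (u 1 * y') _ (by rw [map_mul, hu]) k).mul_left (h1 _ _ hy' k).inv_left).conj g).mul_left
      (by simpa [mul_assoc] using h1 _ _ hy hb : Commute y (g * (g⁻¹ * b * g) * g⁻¹))
    exact commute_congr hc (by simp [hu, e', e]) (by simp [mul_assoc]) this
  have cen' : ∀ g ∈ X, ∀ y ∈ X', Commute g y := fun g hg y hy => by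
    obtain ⟨g, rfl⟩ := hX hg
    obtain ⟨y, rfl⟩ := hX (hle hy)
    exact (cen g y hg hy).map τ
  have cl : ∀ a a' b, τ b ∈ X → (∃ y ∈ X', τ a' = τ a * y) → ⁅a', b⁆ = ⁅a, b⁆ :=
    fun a a' b hb ⟨y, hy, e⟩ => by
      obtain ⟨y, rfl⟩ := hX (hle hy)
      rw [commutator_congr hc (e.trans (map_mul τ a y).symm) rfl]
      calc _ = a * (y * b * y⁻¹) * a⁻¹ * b⁻¹ := by simp only [commutatorElement_def]; group
        _ = _ := by rw [← (cen b y hb hy).eq, mul_inv_cancel_right, commutatorElement_def]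
  have cr : ∀ a a' b, τ b ∈ X → (∃ y ∈ X', τ a' = τ a * y) → ⁅b, a'⁆ = ⁅b, a⁆ := fun a a' b hb h => by
    rw [← commutatorElement_inv, cl a a' b hb h, commutatorElement_inv]
  have nu : ∀ s, u s ∈ Subgroup.normalizer (Y : Set Γ) := fun s =>
    le_normalizer_of_conj (K := X.comap τ) (fun g hg y hy => by
      rwa [(cen g y hg (hY.mem hy)).eq, mul_inv_cancel_right]) (show τ (u s) ∈ X from hu s ▸ hz s)
  have key := commutator_mem_of_scal hc nu nu (fun s t => by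
      obtain ⟨y, hy, e⟩ := add s t
      obtain ⟨y', hy', e'⟩ := add t s
      rw [hY.map, map_commutatorElement, hu, hu, commutatorElement_def, mul_assoc, ← mul_inv_rev, e, e',
        add_comm t, (cen' _ (hz _) _ hy).eq, (cen' _ (hz _) _ hy').eq]
      simpa [mul_assoc] using mul_mem hy (inv_mem hy'))
    (fun s s' t => (cl _ _ _ (hu t ▸ hz t) (by simpa only [map_mul, hu] using add s s')).symm)
    (fun s t t' => (cr _ _ _ (hu s ▸ hz s) (by simpa only [map_mul, hu] using add t t')).symm)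
    (fun c h => by
      obtain ⟨g, hg, e⟩ := scal c h
      obtain ⟨g, rfl⟩ := hH hg
      refine ⟨g, hY.normalizer hg, fun s t => ?_⟩
      rw [conjugate_commutatorElement]
      exact commutator_congr hc (by simp [hu, e]) (by simp [hu, e])) k0 k1 k2
  obtain ⟨t, ht, e⟩ := scal w k0
  refine exists_lifts hc hH hX hle hY (fun a b ha hb => ?_) hn hcomm ht fun g hg h => ?_
  · obtain ⟨s, h⟩ := (mem _).1 ha
    obtain ⟨s', h'⟩ := (mem _).1 hb
    rw [cl (u s) a b hb (hu s ▸ h), cr (u s') b _ (hu s ▸ hz s) (hu s' ▸ h')]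
    exact key s s'
  · obtain ⟨s, y, hy, rfl⟩ := (mem _).1 hg
    have := inj (w * s) s _ (mul_mem (mul_mem h hy) (inv_mem (hn' t ht y hy))) (by
      rw [← mul_assoc, ← mul_assoc, (cen' _ (hz s) _ h).eq, ← e, commutatorElement_def]; group)
    exact mul_mem ((mul_left_eq_self₀.1 this).resolve_left k1 ▸ h0) hy

end Cfsg.Agent.Mult

namespace Cfsg.Agent.Chev

open Cfsg.Lie Cfsg.Agent.Mult Matrix

/-- The natural representation of the symplectic group of degree four. -/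
def repSp4 : RepTab := ⟨4, fun r b => (b, 1, 0) :: ([[[(3, 1, 1)], [], [], []],
  [[(2, 1, 1)], [(3, 1, 1)], [], []], [[(1, 1, 1)], [], [(3, -1, 1)], []], [[], [(2, -1, 1)], [], []],
  [[], [], [(1, -1, 1)], []], [[], [(0, 1, 1)], [], [(2, -1, 1)]], [[], [], [(0, 1, 1)], [(1, 1, 1)]],
  [[], [], [], [(0, 1, 1)]]].getD r []).getD b []⟩

/-- The numbering of the basis. -/
def eqSp4 : Fin 4 ≃ Fin repSp4.n := Equiv.refl (Fin 4)

theorem check_repSp4 : repSp4.check chevB2 = true := by decide +kernel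

variable {K : Type*} [Field K] {G : Type*} [Group G]

theorem coe_repSp4 [CharP K 2] {r : ℕ} (hr : r < 8) (t : K) :
    (repSp4.g eqSp4 K r t : Matrix (Fin 4) (Fin 4) K) =
      [!![1, 0, 0, 0; 0, 1, 0, 0; 0, 0, 1, 0; t, 0, 0, 1], !![1, 0, 0, 0; 0, 1, 0, 0; t, 0, 1, 0; 0, t, 0, 1],
        !![1, 0, 0, 0; t, 1, 0, 0; 0, 0, 1, 0; 0, 0, t, 1], !![1, 0, 0, 0; 0, 1, 0, 0; 0, t, 1, 0; 0, 0, 0, 1],
        !![1, 0, 0, 0; 0, 1, t, 0; 0, 0, 1, 0; 0, 0, 0, 1], !![1, t, 0, 0; 0, 1, 0, 0; 0, 0, 1, t; 0, 0, 0, 1],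
        !![1, 0, t, 0; 0, 1, 0, t; 0, 0, 1, 0; 0, 0, 0, 1],
        !![1, 0, 0, t; 0, 1, 0, 0; 0, 0, 1, 0; 0, 0, 0, 1]].getD r 0 := by
  have h : ∀ a b : Fin 4, repSp4.mat eqSp4 K r t a b = ((repSp4.col r b).map fun q =>
      if (a : ℕ) = q.1 then (q.2.1 : K) * t ^ q.2.2 else 0).sum := fun a b => by
    change ((repSp4.col r b).map fun q => ((q.2.1 : K) * t ^ q.2.2) • repSp4.bv eqSp4 K q.1).sum a = _
    induction repSp4.col r b with
    | nil => rfl
    | cons q l ih =>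
      rw [List.map_cons, List.sum_cons, Pi.add_apply, ih, List.map_cons, List.sum_cons]
      exact congrArg (· + _) (mul_ite_zero _ _ _ |>.trans (by rw [mul_one]; rfl))
  rw [RepTab.coe_g check_repSp4 hr]
  ext i j
  rw [h]
  interval_cases r <;> fin_cases i <;> fin_cases j <;> simp [repSp4, CharTwo.neg_eq]

theorem mul_fin_four (a b c d e f g h i j k l m n o p a' b' c' d' e' f' g' h' i' j' k' l' m' n' o' p' : K) :
    !![a, b, c, d; e, f, g, h; i, j, k, l; m, n, o, p] *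
      !![a', b', c', d'; e', f', g', h'; i', j', k', l'; m', n', o', p'] =
    !![a * a' + b * e' + c * i' + d * m', a * b' + b * f' + c * j' + d * n',
        a * c' + b * g' + c * k' + d * o', a * d' + b * h' + c * l' + d * p';
      e * a' + f * e' + g * i' + h * m', e * b' + f * f' + g * j' + h * n',
        e * c' + f * g' + g * k' + h * o', e * d' + f * h' + g * l' + h * p';
      i * a' + j * e' + k * i' + l * m', i * b' + j * f' + k * j' + l * n',
        i * c' + j * g' + k * k' + l * o', i * d' + j * h' + k * l' + l * p';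
      m * a' + n * e' + o * i' + p * m', m * b' + n * f' + o * j' + p * n',
        m * c' + n * g' + o * k' + p * o', m * d' + n * h' + o * l' + p * p'] := by
  ext i j
  fin_cases i <;> fin_cases j <;> simp [Matrix.mul_apply, Fin.sum_univ_four]

theorem IsSt0.exists_injective_B2 [Fintype K] [CharP K 2] (hK : ∃ a : K, a ≠ 0 ∧ a ≠ 1)
    {y : ℕ → K → G} (hy : IsSt0 chevB2 y) (h1 : y 0 1 ≠ 1) : ∃ φ : chevB2.SteinbergGroup K →* G,
      Function.Injective φ ∧ ∀ r < chevB2.nroots, ∀ t, φ (chevB2.stGen K r t) = y r t := by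
  have hD : chevB2 ∈ [chevG2, chevB2, chevD4, chevF4, chevE6, chevE7, chevE8] := by simp
  obtain ⟨_⟩ := good_of_mem hD
  obtain ⟨T⟩ := exists_rootTable hD
  have hS := (isSt0_stGen (D := chevB2) (F := K)).isSt hD
  obtain ⟨θ, hθ⟩ := (isSt_xC (D := chevB2) (F := K)).toIsSt0.exists_lift3 isR3_xC T
  obtain ⟨φ, hφ⟩ := hy.exists_lift3 (isR3_of_finite hD hy) T
  have h2 : Nat.gcd 2 (Fintype.card K - 1) = 1 := by
    obtain ⟨n, -, hn⟩ := FiniteField.card K 2
    have : 2 ∣ Fintype.card K := hn ▸ dvd_pow_self 2 n.ne_zero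
    have := Fintype.card_pos (α := K)
    exact (Nat.prime_two.coprime_iff_not_dvd).2 (by omega)
  have h3 : θ.ker = ⊥ := by
    rw [hS.ker_eq_center T θ hθ Gs_stGen, isR3_stGen.center_eq T θ hθ hS Gs_stGen,
      (MonoidHom.ker_eq_bot_iff _).2 (Lang.tor_injective_of_card
        ((card_ker_tor rfl (p := (chevB2, _)) (by simp)).trans h2)), Subgroup.map_bot]
  have := (isSimpleGroup_group (F := K) hD fun _ => hK).1
  have := (MulEquiv.ofBijective θ ⟨θ.ker_eq_bot_iff.1 h3, surjective_of_hom θ hθ⟩).isSimpleGroup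
  exact ⟨φ, φ.ker_eq_bot_iff.1 ((Subgroup.Normal.eq_bot_or_eq_top inferInstance).resolve_right
    fun e => h1 (hφ 0 (by decide) 1 ▸ e.ge trivial)), hφ⟩

theorem hom_sz {G' : Type*} [Group G'] (f : G →* G') {y : ℕ → K → G} {z : ℕ → K → G'}
    (h : ∀ r < 8, ∀ t, f (y r t) = z r t) (θ : K →+* K) (s w : K) :
    f (F4.sz y θ 5 4 6 7 s w) = F4.sz z θ 5 4 6 7 s w ∧
      f (F4.sz y θ 2 3 1 0 s w) = F4.sz z θ 2 3 1 0 s w := by simp [F4.sz, h]

theorem sz_repSp4 {m : ℕ} [SzField K m] {θ : K →+* K} (hθ : ∀ t, θ t = t ^ 2 ^ m) (s w : K) :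
    Suz.toGL K (Suz.uu (θ s) (θ s * s + θ w)) = F4.sz (repSp4.g eqSp4 K) θ 5 4 6 7 s w ∧
    Suz.toGL K (Suz.tt K * Suz.uu (θ s) (θ s * s + θ w) * Suz.tt K) =
      F4.sz (repSp4.g eqSp4 K) θ 2 3 1 0 s w := by
  have h2 : ∀ t, Suz.th K (θ t) = t := fun t => by
    rw [Suz.th_def, hθ, ← pow_mul, ← pow_add, ← add_assoc, ← two_mul, Suz.pow_q]
  have h3 : Suz.uMat (θ s) (θ s * s + θ w) = !![1, θ s, θ s * s + θ w + θ s * s,
      θ s * (θ s * s + θ w) + w; 0, 1, s, θ s * s + θ w; 0, 0, 1, θ s; 0, 0, 0, 1] := by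
    have : Suz.th K s = θ s ^ 2 := by rw [Suz.th_def, hθ, ← pow_mul, pow_succ]
    rw [Suz.uMat, Suz.ff, map_add, map_mul, h2, h2, this, mul_comm s, add_assoc _ (θ s ^ 2 * s),
      ← add_assoc (θ s ^ 2 * s), CharTwo.add_self_eq_zero, zero_add]
  refine ⟨Units.ext ?_, Units.ext ?_⟩ <;>
    simp only [Suz.coe_toGL, Suz.mat_mul, Suz.mat_uu, Suz.mat_tt, h3, F4.sz, List.zip_cons_cons,
      List.zip_nil_right, word_cons, word_nil, mul_one, Units.val_mul, suzukiForm,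
      coe_repSp4 (by decide : 0 < 8), coe_repSp4 (by decide : 1 < 8), coe_repSp4 (by decide : 2 < 8),
      coe_repSp4 (by decide : 3 < 8), coe_repSp4 (by decide : 4 < 8), coe_repSp4 (by decide : 5 < 8),
      coe_repSp4 (by decide : 6 < 8), coe_repSp4 (by decide : 7 < 8), List.getD_cons_succ,
      List.getD_cons_zero, mul_fin_four, mul_zero, zero_mul, one_mul, add_zero, zero_add] <;>
    simp only [add_comm]

theorem IsSt0.pb_sz [Fintype K] {m : ℕ} [SzField K m] {θ : K →+* K} (hθ : ∀ t, θ t = t ^ 2 ^ m)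
    {y : ℕ → K → G} (hy : IsSt0 chevB2 y) (h1 : y 0 1 ≠ 1) : PB 2 1 (Subgroup.closure
      {g | ∃ s w, g = F4.sz y θ 5 4 6 7 s w ∨ g = F4.sz y θ 2 3 1 0 s w}) := by
  have := goodB2
  have hK := Suz.exists_ne_zero_one K
  obtain ⟨φ, i1, hφ⟩ := hy.exists_injective_B2 hK h1
  obtain ⟨ψ, i2, hψ⟩ := (RepTab.isSt0 (e := eqSp4) (F := K) check_repSp4).exists_injective_B2 hK
    fun e => by
      have := coe_repSp4 (r := 0) (by decide) (1 : K)
      rw [e] at this
      simpa using congrFun (congrFun this 3) 0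
  let L := Subgroup.closure {g | ∃ s w, g = F4.sz (chevB2.stGen K) θ 5 4 6 7 s w ∨
    g = F4.sz (chevB2.stGen K) θ 2 3 1 0 s w}
  have h3 : L ≤ (Suz.toGL K).range.comap ψ := (Subgroup.closure_le _).2 <| by
    rintro _ ⟨s, w, rfl | rfl⟩
    exacts [⟨_, (sz_repSp4 hθ s w).1.trans (hom_sz ψ hψ θ s w).1.symm⟩,
      ⟨_, (sz_repSp4 hθ s w).2.trans (hom_sz ψ hψ θ s w).2.symm⟩]
  have e := hom_sz φ hφ θ
  let f : L →* Sz K m := (MonoidHom.ofInjective Suz.toGL_injective).symm.toMonoidHom.comp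
    ((ψ.comp L.subtype).codRestrict _ fun g => h3 g.2)
  have i3 : Function.Injective f := fun a b h => Subtype.ext (i2 (congrArg Subtype.val
    ((MonoidHom.ofInjective Suz.toGL_injective).symm.injective h)))
  have := Finite.of_injective f i3
  have h4 : L.map φ = Subgroup.closure
      {g | ∃ s w, g = F4.sz y θ 5 4 6 7 s w ∨ g = F4.sz y θ 2 3 1 0 s w} := by
    rw [MonoidHom.map_closure]
    refine congrArg _ (Set.ext fun g => ⟨?_, ?_⟩)
    · rintro ⟨_, ⟨s, w, rfl | rfl⟩, rfl⟩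
      exacts [⟨s, w, .inl (e s w).1⟩, ⟨s, w, .inr (e s w).2⟩]
    · rintro ⟨s, w, rfl | rfl⟩
      exacts [⟨_, ⟨s, w, .inl rfl⟩, (e s w).1⟩, ⟨_, ⟨s, w, .inr rfl⟩, (e s w).2⟩]
  rw [← h4]
  refine (PB.of_forall_prime (fun r hr h2 => not_dvd_mcard_of_isCyclic hr fun P hP => ?_)
    Nat.prime_two).congr (L.equivMapOfInjective φ i1)
  have := Fact.mk hr
  have := Suz.isCyclic_of_odd_prime h2 (hP.map f)
  exact isCyclic_of_surjective _ (P.equivMapOfInjective f i3).symm.surjective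

end Cfsg.Agent.Chev
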